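import Mathlib
import Cfsg.Prelude.Def_OddOrderLocal
import Cfsg.Agent.Lib.Core.PFrattini
import Cfsg.Agent.Lib.Core.Frattini
import Cfsg.Agent.Lib.ClassSizes.Metacyclic
import Cfsg.Agent.Lib.ClassSizes.AutFrattini
import Cfsg.Agent.Lib.Cl.CycNormal
import Cfsg.Agent.Lib.Techniques.BaerLie

/-!
# Metacyclic `2`-groups with an automorphism of odd order

Such a group is `Q₈` or homocyclic of rank two.
-/

set_option autoImplicit false

namespace Cfsg.Agent.Lib.Techniques.MetaAut

open Subgroup Cfsg Cfsg.Agent.Lib.Core Cfsg.Agent.Lib.Techniques.BaerLie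
open scoped commutatorElement

section E4

variable {Q : Type*} [Group Q] [Finite Q]

theorem mem_of_four (hcard : Nat.card Q ≤ 4) {a b c d w : Q} (hab : a ≠ b) (hac : a ≠ c) (had : a ≠ d)
    (hbc : b ≠ c) (hbd : b ≠ d) (hcd : c ≠ d) : w = a ∨ w = b ∨ w = c ∨ w = d := by
  classical
  haveI := Fintype.ofFinite Q
  by_contra h
  push Not at h
  obtain ⟨h1, h2, h3, h4⟩ := h
  have h5 : ({w, a, b, c, d} : Finset Q).card = 5 := by
    rw [Finset.card_insert_of_notMem (by simp [h1, h2, h3, h4]),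
      Finset.card_insert_of_notMem (by simp [hab, hac, had]),
      Finset.card_insert_of_notMem (by simp [hbc, hbd]),
      Finset.card_insert_of_notMem (by simp [hcd]), Finset.card_singleton]
  have h6 := Finset.card_le_univ ({w, a, b, c, d} : Finset Q)
  rw [Nat.card_eq_fintype_card] at hcard
  omega

theorem iter_of_sq {Y : Type*} {f : Y → Y} {y : Y} (h : f (f y) = y) {r : ℕ} (hr : Odd r)
    (hf : f^[r] y = y) : f y = y := by
  obtain ⟨m, rfl⟩ := hr
  have h1 : ∀ n : ℕ, f^[2 * n] y = y := by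
    intro n
    induction n with
    | zero => rfl
    | succ n ih =>
      rw [show 2 * (n + 1) = 2 * n + 2 by ring, Function.iterate_add_apply]
      simp only [Function.iterate_succ, Function.iterate_zero, Function.comp_apply, id]
      rw [h, ih]
  have e : f^[2 * m + 1] y = f (f^[2 * m] y) := Function.iterate_succ_apply' f (2 * m) y
  rw [e, h1] at hf
  exact hf

/-- The action of an automorphism of odd order on a group of exponent two and order at most `4`. -/
theorem action_E4 (hsq : ∀ q : Q, q * q = 1) (hcard : Nat.card Q ≤ 4) (β : Q ≃* Q) {r : ℕ} (hr : Odd r)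
    (hβ : ∀ q, β^[r] q = q) {q₀ : Q} (h₀ : β q₀ ≠ q₀) :
    (∀ q, q ≠ 1 → β q ≠ q) ∧ (∀ q, q * β q * β (β q) = 1) := by
  have hinv : ∀ q : Q, q⁻¹ = q := fun q => inv_eq_of_mul_eq_one_left (hsq q)
  have hcm : ∀ a b : Q, a * b = b * a := fun a b => by
    have := hsq (a * b)
    have h2 : a * b = (a * b)⁻¹ := (hinv _).symm
    rw [h2, mul_inv_rev, hinv, hinv]
  have hne1 : ∀ {a b : Q}, a ≠ b → a * b ≠ 1 := fun {a b} hab h => by
    apply hab
    have := mul_eq_one_iff_eq_inv.1 h
    rwa [hinv] at this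
  have hi : ∀ q, q ≠ 1 → β q ≠ q := by
    intro q hq hfix
    have hq₀1 : q₀ ≠ 1 := by
      rintro rfl
      exact h₀ (map_one β)
    have hq₀q : q₀ ≠ q := by
      rintro rfl
      exact h₀ hfix
    have h4 := mem_of_four (w := β q₀) hcard (a := 1) (b := q) (c := q₀) (d := q * q₀)
      hq.symm hq₀1.symm (hne1 hq₀q.symm).symm hq₀q.symm
      (fun h => hq₀1 (by
        have := h
        simpa using this.symm))
      (fun h => hq (by
        have : q₀ = q * q₀ := h
        simpa using this.symm))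
    rcases h4 with h5 | h5 | h5 | h5
    · apply hq₀1
      exact (map_eq_one_iff β β.injective).1 h5
    · apply hq₀q
      apply β.injective
      rw [h5, hfix]
    · exact h₀ h5
    · apply h₀
      apply iter_of_sq (f := β) (r := r) _ hr (hβ q₀)
      rw [h5, map_mul, hfix, h5, ← mul_assoc, hsq, one_mul]
  refine ⟨hi, ?_⟩
  intro q
  by_cases hq : q = 1
  · subst hq
    simp
  have h1 := hi q hq
  have h2 : β q ≠ 1 := fun h => hq ((map_eq_one_iff β β.injective).1 h)
  have h3 := hi (β q) h2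
  have h4 := mem_of_four (w := β (β q)) hcard (a := 1) (b := q) (c := β q) (d := q * β q)
    (Ne.symm hq) (Ne.symm h2) (hne1 h1.symm).symm h1.symm
    (fun h => h2 (by
      have : q = q * β q := h
      simpa using this.symm))
    (fun h => hq (by
      have : β q = q * β q := h
      simpa using this.symm))
  rcases h4 with h5 | h5 | h5 | h5
  · exact absurd ((map_eq_one_iff β β.injective).1 h5) h2
  · exact absurd (iter_of_sq (f := β) (r := r) h5 hr (hβ q)) h1
  · exact absurd h5 h3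
  · rw [h5]
    exact hsq _

end E4

section Setup

variable {X : Type*} [Group X] [Finite X]

/-- Fixed point free action of an automorphism on the Frattini quotient of order four. -/
structure FPF (α : X ≃* X) : Prop where
  a1 : ∀ x, x ∉ frattini X → x⁻¹ * α x ∉ frattini X
  a2 : ∀ x, x * α x * α (α x) ∈ frattini X
  card : Nat.card (X ⧸ frattini X) ≤ 4
  odd : ∃ r : ℕ, Odd r ∧ ∀ x, α^[r] x = x
  ex : ∃ x, x ∉ frattini X

theorem sq_mem_frattini (hX : IsPGroup 2 X) (x : X) : x * x ∈ frattini X := by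
  haveI : Fact (Nat.Prime 2) := ⟨Nat.prime_two⟩
  have := (frattini_pgroup 2 hX).2 x
  rwa [pow_two] at this

theorem fpf_of_odd (hX : IsPGroup 2 X) (hm : IsMetacyclic X) (α : X ≃* X) {r : ℕ} (hr : Odd r)
    (hαr : ∀ x, α^[r] x = x) {x₀ : X} (hx₀ : x₀⁻¹ * α x₀ ∉ frattini X) : FPF α := by
  classical
  haveI : Fact (Nat.Prime 2) := ⟨Nat.prime_two⟩
  have hcard : Nat.card (X ⧸ frattini X) ≤ 4 := Cfsg.Agent.Lib.ClassSizes.Metacyclic.card_frattini_quotient_le hX hm
  have hmap : (frattini X).map (α : X →* X) = frattini X :=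
    Subgroup.characteristic_iff_map_eq.mp inferInstance α
  let β : (X ⧸ frattini X) ≃* (X ⧸ frattini X) := QuotientGroup.congr _ _ α hmap
  have hβmk : ∀ x : X, β (x : X ⧸ frattini X) = ((α x : X) : X ⧸ frattini X) := fun x => rfl
  have hsq : ∀ q : X ⧸ frattini X, q * q = 1 := by
    intro q
    obtain ⟨x, rfl⟩ := QuotientGroup.mk_surjective q
    rw [← QuotientGroup.mk_mul, QuotientGroup.eq_one_iff]
    exact sq_mem_frattini hX x
  have hβr : ∀ q, β^[r] q = q := by
    intro q
    obtain ⟨x, rfl⟩ := QuotientGroup.mk_surjective q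
    have : ∀ n : ℕ, β^[n] (x : X ⧸ frattini X) = ((α^[n] x : X) : X ⧸ frattini X) := by
      intro n
      induction n with
      | zero => rfl
      | succ n ih =>
        rw [Function.iterate_succ_apply', ih, hβmk, Function.iterate_succ_apply']
    rw [this, hαr]
  have h₀ : β (x₀ : X ⧸ frattini X) ≠ (x₀ : X ⧸ frattini X) := by
    rw [hβmk]
    intro h
    apply hx₀
    have := QuotientGroup.eq.1 h.symm
    exact this
  obtain ⟨h1, h2⟩ := action_E4 hsq hcard β hr hβr h₀
  refine ⟨?_, ?_, hcard, ⟨r, hr, hαr⟩, ?_⟩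
  · intro x hx
    have hx1 : (x : X ⧸ frattini X) ≠ 1 := fun h => hx ((QuotientGroup.eq_one_iff x).1 h)
    have := h1 _ hx1
    rw [hβmk] at this
    intro h
    apply this
    exact (QuotientGroup.eq.2 h).symm
  · intro x
    rw [← QuotientGroup.eq_one_iff]
    exact h2 (x : X ⧸ frattini X)
  · by_contra hall
    push Not at hall
    exact hx₀ (hall _)

variable {α : X ≃* X}

theorem map_mem_frattini (α : X ≃* X) {x : X} : α x ∈ frattini X ↔ x ∈ frattini X := by
  have hmap : (frattini X).map (α : X →* X) = frattini X :=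
    Subgroup.characteristic_iff_map_eq.mp inferInstance α
  constructor
  · intro h
    rw [← hmap] at h
    obtain ⟨y, hy, e⟩ := h
    have : y = x := α.injective e
    rwa [← this]
  · intro h
    rw [← hmap]
    exact ⟨x, h, rfl⟩

theorem mul_notMem (hX : IsPGroup 2 X) (h : FPF α) {u : X} (hu : u ∉ frattini X) :
    u * α u ∉ frattini X := by
  intro huv
  apply h.a1 u hu
  have e : u⁻¹ * α u = (u * u)⁻¹ * (u * α u) := by group
  rw [e]
  exact mul_mem (inv_mem (sq_mem_frattini hX u)) huv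

/-- The four cosets. -/
theorem FPF.four (hX : IsPGroup 2 X) (h : FPF α) {u : X} (hu : u ∉ frattini X) (x : X) :
    x ∈ frattini X ∨ u⁻¹ * x ∈ frattini X ∨ (α u)⁻¹ * x ∈ frattini X ∨ (u * α u)⁻¹ * x ∈ frattini X := by
  classical
  haveI : Fact (Nat.Prime 2) := ⟨Nat.prime_two⟩
  have mk1 : ∀ y : X, y ∉ frattini X → (y : X ⧸ frattini X) ≠ 1 := fun y hy h =>
    hy ((QuotientGroup.eq_one_iff y).1 h)
  have hv : α u ∉ frattini X := fun hv => hu ((map_mem_frattini α).1 hv)
  have huv := mul_notMem hX h hu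
  have h4 := mem_of_four (w := (x : X ⧸ frattini X)) h.card (a := 1) (b := (u : X ⧸ frattini X))
    (c := ((α u : X) : X ⧸ frattini X)) (d := ((u * α u : X) : X ⧸ frattini X))
    (mk1 u hu).symm (mk1 _ hv).symm (mk1 _ huv).symm
    (fun e => h.a1 u hu (QuotientGroup.eq.1 e))
    (fun e => hv (by
      have := QuotientGroup.eq.1 e
      simpa using this))
    (fun e => hu (by
      have := QuotientGroup.eq.1 e
      have e2 : (α u)⁻¹ * (u * α u) = (α u)⁻¹ * u * α u := by group
      rw [e2] at this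
      have e3 : u = α u * ((α u)⁻¹ * u * α u) * (α u)⁻¹ := by group
      rw [e3]
      exact (inferInstance : (frattini X).Normal).conj_mem _ this _))
  rcases h4 with h5 | h5 | h5 | h5
  · exact Or.inl ((QuotientGroup.eq_one_iff x).1 h5)
  · exact Or.inr (Or.inl (QuotientGroup.eq.1 h5.symm))
  · exact Or.inr (Or.inr (Or.inl (QuotientGroup.eq.1 h5.symm)))
  · exact Or.inr (Or.inr (Or.inr (QuotientGroup.eq.1 h5.symm)))

theorem FPF.gen (hX : IsPGroup 2 X) (h : FPF α) {u : X} (hu : u ∉ frattini X) :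
    closure ({u, α u} : Set X) = ⊤ := by
  have hu' : u ∈ closure ({u, α u} : Set X) := subset_closure (by simp)
  have hv' : α u ∈ closure ({u, α u} : Set X) := subset_closure (by simp)
  have hs : closure ({u, α u} : Set X) ⊔ frattini X = ⊤ := by
    rw [eq_top_iff]
    intro x _
    have hmem : ∀ g ∈ closure ({u, α u} : Set X), g⁻¹ * x ∈ frattini X →
        x ∈ closure ({u, α u} : Set X) ⊔ frattini X := fun g hg ht => by
      have e : x = g * (g⁻¹ * x) := by group
      rw [e]
      exact mul_mem_sup hg ht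
    rcases h.four hX hu x with h5 | h5 | h5 | h5
    · exact (le_sup_right : frattini X ≤ _) h5
    · exact hmem u hu' h5
    · exact hmem _ hv' h5
    · exact hmem _ (mul_mem hu' hv') h5
  exact Cfsg.Agent.Lib.Core.eq_top_of_sup_eq_top_of_le_frattini le_rfl hs

theorem FPF.third (hX : IsPGroup 2 X) (h : FPF α) (u : X) : ∃ t ∈ frattini X, α (α u) = u * α u * t := by
  refine ⟨(u * α u)⁻¹ * α (α u), ?_, by group⟩
  have e : (u * α u)⁻¹ * α (α u) = ((u * α u) * (u * α u))⁻¹ * (u * α u * α (α u)) := by group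
  rw [e]
  exact mul_mem (inv_mem (sq_mem_frattini hX _)) (h.a2 u)

theorem invol_unique {w y : X} {a : ℕ} (ho : orderOf w = 2 ^ (a + 1)) (hy : y ∈ zpowers w) (hy1 : y ≠ 1)
    (hy2 : y * y = 1) : y = w ^ (2 ^ a) := by
  obtain ⟨i, rfl⟩ := mem_zpowers_iff.1 hy
  have h1 : w ^ (2 * i) = 1 := by
    rw [two_mul, zpow_add, hy2]
  have h2 : ((2 ^ (a + 1) : ℕ) : ℤ) ∣ 2 * i := by
    rw [← ho]
    exact orderOf_dvd_iff_zpow_eq_one.2 h1
  obtain ⟨m, hm⟩ : ((2 ^ a : ℕ) : ℤ) ∣ i := by
    obtain ⟨c, hc⟩ := h2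
    refine ⟨c, ?_⟩
    push_cast at hc ⊢
    have : (2 : ℤ) * i = 2 * (2 ^ a * c) := by rw [hc, pow_succ]; ring
    exact mul_left_cancel₀ (by norm_num) this
  have hz2 : (w ^ (2 ^ a : ℕ)) * (w ^ (2 ^ a : ℕ)) = 1 := by
    rw [← pow_add, ← two_mul, ← pow_succ', ← ho]
    exact pow_orderOf_eq_one w
  rw [hm, zpow_mul, zpow_natCast] at hy1 ⊢
  rcases Int.even_or_odd' m with ⟨c, rfl | rfl⟩
  · exfalso
    apply hy1
    rw [zpow_mul, zpow_ofNat, pow_two, hz2, one_zpow]
  · rw [zpow_add, zpow_mul, zpow_ofNat, pow_two, hz2, one_zpow, one_mul, zpow_one]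

theorem mem_squares_of_frattini (hc : ∀ a b : X, a * b = b * a) {f : X} (hf : f ∈ frattini X) :
    ∃ s, f = s * s := by
  haveI : Fact (Nat.Prime 2) := ⟨Nat.prime_two⟩
  let N : Subgroup X :=
    { carrier := {y | ∃ s, y = s * s}
      mul_mem' := by
        rintro _ _ ⟨s, rfl⟩ ⟨t, rfl⟩
        refine ⟨s * t, ?_⟩
        calc s * s * (t * t) = s * (s * t) * t := by group
          _ = s * (t * s) * t := by rw [hc s t]
          _ = s * t * (s * t) := by group
      one_mem' := ⟨1, by simp⟩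
      inv_mem' := by
        rintro _ ⟨s, rfl⟩
        exact ⟨s⁻¹, by group⟩ }
  have hΦN : frattini X ≤ N := by
    refine frattini_le_of_elementary 2 N ?_ (fun x => ⟨x, pow_two x⟩)
    rw [_root_.commutator_def, commutator_le]
    intro x _ y _
    rw [commutatorElement_eq_one_iff_mul_comm.2 (hc x y)]
    exact one_mem N
  exact hΦN hf

theorem homocyclic_of_comm (hX : IsPGroup 2 X) (hc : ∀ a b : X, a * b = b * a) (h : FPF α) :
    ∃ n : ℕ, Nonempty (X ≃* Multiplicative (ZMod (2 ^ n)) × Multiplicative (ZMod (2 ^ n))) := by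
  classical
  haveI : Fact (Nat.Prime 2) := ⟨Nat.prime_two⟩
  obtain ⟨u, hmax⟩ := Finite.exists_max (fun x : X => orderOf x)
  have hpow : ∀ x : X, ∃ k, orderOf x = 2 ^ k := fun x => by
    obtain ⟨k, hk⟩ := hX x
    obtain ⟨j, -, hj⟩ := (Nat.dvd_prime_pow Nat.prime_two).1 (orderOf_dvd_of_pow_eq_one hk)
    exact ⟨j, hj⟩
  obtain ⟨a, ha⟩ := hpow u
  have hle : ∀ x : X, x ^ (2 ^ a) = 1 := fun x => by
    obtain ⟨b, hb⟩ := hpow x
    have h1 : 2 ^ b ≤ 2 ^ a := by rw [← hb, ← ha]; exact hmax x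
    have hba : b ≤ a := (Nat.pow_le_pow_iff_right (by norm_num)).1 h1
    have h2 : orderOf x ∣ 2 ^ a := by rw [hb]; exact pow_dvd_pow 2 hba
    exact orderOf_dvd_iff_pow_eq_one.1 h2
  obtain ⟨x₀, hx₀⟩ := h.ex
  have hx₀1 : x₀ ≠ 1 := by
    rintro rfl
    exact hx₀ (one_mem _)
  have ha0 : a ≠ 0 := by
    rintro rfl
    have h1 : x₀ ^ (2 ^ 0) = 1 := hle x₀
    simp at h1
    exact hx₀1 h1
  obtain ⟨a', rfl⟩ : ∃ a', a = a' + 1 := Nat.exists_eq_succ_of_ne_zero ha0
  have hnot : ∀ w : X, orderOf w = 2 ^ (a' + 1) → w ^ (2 ^ a') ≠ 1 := fun w hw =>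
    pow_ne_one_of_lt_orderOf (by positivity) (by rw [hw, pow_succ]; have : 0 < 2 ^ a' := by positivity
                                                 omega)
  have huo := hnot u ha
  have hsq2 : ∀ s : X, (s * s) ^ (2 ^ a') = 1 := fun s => by
    rw [← pow_two, ← pow_mul, ← pow_succ']
    exact hle s
  have huΦ : u ∉ frattini X := by
    intro hu
    obtain ⟨s, hs⟩ := mem_squares_of_frattini hc hu
    rw [hs] at huo
    exact huo (hsq2 s)
  have hcoset : ∀ w y : X, w ^ (2 ^ a') ≠ 1 → y ∈ frattini X → (w * y) ^ (2 ^ a') ≠ 1 := by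
    intro w y hw hy
    obtain ⟨s, hs⟩ := mem_squares_of_frattini hc hy
    have hcm : Commute w y := hc w y
    rw [hcm.mul_pow, hs, hsq2, mul_one]
    exact hw
  have hα : ∀ w : X, w ^ (2 ^ a') ≠ 1 → (α w) ^ (2 ^ a') ≠ 1 := fun w hw => by
    rw [← map_pow]
    exact fun e => hw ((map_eq_one_iff α α.injective).1 e)
  have hkey : ∀ v : X, v ∉ frattini X → v ^ (2 ^ a') ≠ 1 := by
    intro v hv
    have hgo : ∀ w : X, w ^ (2 ^ a') ≠ 1 → w⁻¹ * v ∈ frattini X → v ^ (2 ^ a') ≠ 1 := fun w hw hy => by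
      have := hcoset w _ hw hy
      simpa using this
    rcases h.four hX huΦ v with h5 | h5 | h5 | h5
    · exact absurd h5 hv
    · exact hgo u huo h5
    · exact hgo _ (hα u huo) h5
    · obtain ⟨t, ht, e⟩ := h.third hX u
      apply hgo _ (hα _ (hα u huo))
      rw [e]
      have e2 : (u * α u * t)⁻¹ * v = t⁻¹ * ((u * α u)⁻¹ * v) := by group
      rw [e2]
      exact mul_mem (inv_mem ht) h5
  obtain ⟨v, hvd⟩ : ∃ v, v = α u := ⟨_, rfl⟩
  have hvo : orderOf v = 2 ^ (a' + 1) := by rw [hvd, MulEquiv.orderOf_eq, ha]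
  have huv : u * v ∉ frattini X := hvd ▸ mul_notMem hX h huΦ
  have hdis : zpowers u ⊓ zpowers v = ⊥ := by
    by_contra hne
    obtain ⟨y, hy1⟩ := (Subgroup.ne_bot_iff_exists_ne_one.1 hne)
    obtain ⟨c, hcy⟩ := hpow (y : X)
    have hy1' : (y : X) ≠ 1 := fun e => hy1 (Subtype.ext e)
    have hc0 : c ≠ 0 := by
      rintro rfl
      apply hy1'
      exact orderOf_eq_one_iff.1 (by simpa using hcy)
    obtain ⟨c', rfl⟩ : ∃ c', c = c' + 1 := Nat.exists_eq_succ_of_ne_zero hc0
    have hy2 := hnot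
    obtain ⟨y₁, hy₁d⟩ : ∃ y₁ : X, y₁ = (y : X) ^ (2 ^ c') := ⟨_, rfl⟩
    have hy₁1 : y₁ ≠ 1 := by
      rw [hy₁d]
      exact pow_ne_one_of_lt_orderOf (by positivity)
        (by rw [hcy, pow_succ]; have : 0 < 2 ^ c' := by positivity
            omega)
    have hy₁2 : y₁ * y₁ = 1 := by
      rw [hy₁d, ← pow_add, ← two_mul, ← pow_succ', ← hcy]
      exact pow_orderOf_eq_one _
    have hmemu : y₁ ∈ zpowers u := hy₁d ▸ pow_mem (inf_le_left (a := zpowers u) (b := zpowers v) y.2) _
    have hmemv : y₁ ∈ zpowers v := hy₁d ▸ pow_mem (inf_le_right (a := zpowers u) (b := zpowers v) y.2) _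
    have e1 := invol_unique ha hmemu hy₁1 hy₁2
    have e2 := invol_unique hvo hmemv hy₁1 hy₁2
    apply hkey _ huv
    have hcm : Commute u v := hc u v
    rw [hcm.mul_pow, ← e1, ← e2, hy₁2]
  -- the product map
  let f : ↥(zpowers u) × ↥(zpowers v) →* X :=
    { toFun := fun p => (p.1 : X) * p.2
      map_one' := by simp
      map_mul' := fun p q => by
        show ((p.1 : X) * q.1) * ((p.2 : X) * q.2) = ((p.1 : X) * p.2) * ((q.1 : X) * q.2)
        rw [mul_assoc, ← mul_assoc (q.1 : X), hc (q.1 : X) (p.2 : X), mul_assoc (p.2 : X), mul_assoc] }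
  have hinj : Function.Injective f := by
    rw [injective_iff_map_eq_one]
    rintro ⟨p, q⟩ hpq
    have hpq' : (p : X) * q = 1 := hpq
    have hp : (p : X) = (q : X)⁻¹ := eq_inv_of_mul_eq_one_left hpq'
    have hmem : (p : X) ∈ zpowers u ⊓ zpowers v :=
      Subgroup.mem_inf.2 ⟨p.2, by rw [hp]; exact (zpowers v).inv_mem q.2⟩
    rw [hdis] at hmem
    have hp1 : (p : X) = 1 := hmem
    have hq1 : (q : X) = 1 := by simpa [hp1] using hpq'
    exact Prod.ext (Subtype.ext hp1) (Subtype.ext hq1)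
  have hsurj : Function.Surjective f := by
    have hr : f.range = ⊤ := by
      rw [eq_top_iff, ← h.gen hX huΦ, ← hvd, closure_le]
      rintro y (hy | hy)
      · rw [hy]
        exact ⟨(⟨u, mem_zpowers u⟩, 1), by simp [f]⟩
      · rw [Set.mem_singleton_iff.1 hy]
        exact ⟨(1, ⟨v, mem_zpowers v⟩), by simp [f]⟩
    exact MonoidHom.range_eq_top.1 hr
  have e₀ := (MulEquiv.ofBijective f ⟨hinj, hsurj⟩).symm
  have hcard1 : Nat.card (zpowers u) = 2 ^ (a' + 1) := by rw [Nat.card_zpowers, ha]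
  have hcard2 : Nat.card (zpowers v) = 2 ^ (a' + 1) := by rw [Nat.card_zpowers, hvo]
  have e₁ := (zmodCyclicMulEquiv (inferInstance : IsCyclic (zpowers u)))
  have e₂ := (zmodCyclicMulEquiv (inferInstance : IsCyclic (zpowers v)))
  rw [hcard1] at e₁
  rw [hcard2] at e₂
  exact ⟨a' + 1, ⟨e₀.trans (MulEquiv.prodCongr e₁.symm e₂.symm)⟩⟩

/-- The action on the commutator subgroup is central. -/
theorem class_two_of_fpf (hX : IsPGroup 2 X) (hm : IsMetacyclic X) (h : FPF α) : Cl2 X := by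
  classical
  obtain ⟨N, hNn, hNc, hQc⟩ := hm
  have hLN : commutator X ≤ N := by
    rw [_root_.commutator_def, commutator_le]
    intro x _ y _
    rw [← QuotientGroup.eq_one_iff]
    have h1 : (QuotientGroup.mk' N) ⁅x, y⁆ = 1 := by
      rw [map_commutatorElement]
      exact commutatorElement_eq_one_iff_mul_comm.2 (mul_comm' _ _)
    exact h1
  haveI hLc : IsCyclic ↥(commutator X) := by
    haveI : IsCyclic ↥((commutator X).subgroupOf N) := inferInstance
    exact isCyclic_of_surjective (subgroupOfEquivOfLe hLN).toMonoidHom (MulEquiv.surjective _)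
  obtain ⟨g₀, hg₀⟩ := IsCyclic.exists_generator (α := ↥(commutator X))
  obtain ⟨y₀, hy₀d⟩ : ∃ y₀ : X, y₀ = g₀ := ⟨_, rfl⟩
  have hy₀L : y₀ ∈ commutator X := hy₀d ▸ g₀.2
  have hgen : ∀ l ∈ commutator X, ∃ i : ℤ, l = y₀ ^ i := fun l hl => by
    obtain ⟨i, hi⟩ := mem_zpowers_iff.1 (hg₀ ⟨l, hl⟩)
    refine ⟨i, ?_⟩
    rw [hy₀d]
    exact (congrArg Subtype.val hi).symm
  have hmap : (commutator X).map (α : X →* X) = commutator X :=
    Subgroup.characteristic_iff_map_eq.mp inferInstance α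
  have hαL : ∀ l ∈ commutator X, α l ∈ commutator X := fun l hl => by
    rw [← hmap]
    exact ⟨l, hl, rfl⟩
  have hαsL : ∀ l ∈ commutator X, α.symm l ∈ commutator X := fun l hl => by
    rw [← hmap] at hl
    obtain ⟨x, hx, e⟩ := hl
    have e' : α x = l := e
    rw [← e', α.symm_apply_apply]
    exact hx
  obtain ⟨k, hk⟩ := hgen _ (hαL y₀ hy₀L)
  obtain ⟨m, hm'⟩ := hgen _ (hαsL y₀ hy₀L)
  have hkm : y₀ ^ (k * m) = y₀ := by
    have h1 : α (α.symm y₀) = y₀ := α.apply_symm_apply y₀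
    rw [hm', map_zpow, hk, ← zpow_mul] at h1
    exact h1
  have htkm : ∀ t ∈ commutator X, t ^ (k * m) = t := fun t ht => by
    obtain ⟨i, rfl⟩ := hgen t ht
    rw [← zpow_mul, mul_comm, zpow_mul, hkm]
  have hconjL : ∀ x : X, ∀ l ∈ commutator X, x * l * x⁻¹ ∈ commutator X := fun x l hl =>
    (inferInstance : (commutator X).Normal).conj_mem l hl x
  have hconj : ∀ x : X, α x * y₀ * (α x)⁻¹ = x * y₀ * x⁻¹ := by
    intro x
    have hy₁ := hconjL (α x) y₀ hy₀L
    have hy₂ := hconjL x y₀ hy₀L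
    obtain ⟨e, he⟩ := hgen _ hy₂
    have h1 : α (x * y₀ * x⁻¹) = (α x * y₀ * (α x)⁻¹) ^ k := by
      rw [map_mul, map_mul, map_inv, hk, conj_zpow]
    have h2 : α (x * y₀ * x⁻¹) = (x * y₀ * x⁻¹) ^ k := by
      rw [he, map_zpow, hk, ← zpow_mul, ← zpow_mul, mul_comm]
    have h3 : (α x * y₀ * (α x)⁻¹) ^ k = (x * y₀ * x⁻¹) ^ k := h1.symm.trans h2
    calc α x * y₀ * (α x)⁻¹ = (α x * y₀ * (α x)⁻¹) ^ (k * m) := (htkm _ hy₁).symm
      _ = ((α x * y₀ * (α x)⁻¹) ^ k) ^ m := zpow_mul _ _ _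
      _ = ((x * y₀ * x⁻¹) ^ k) ^ m := by rw [h3]
      _ = (x * y₀ * x⁻¹) ^ (k * m) := (zpow_mul _ _ _).symm
      _ = x * y₀ * x⁻¹ := htkm _ hy₂
  have hC : ∀ x : X, x⁻¹ * α x ∈ centralizer ((commutator X : Subgroup X) : Set X) := by
    intro x
    rw [mem_centralizer_iff]
    intro l hl
    obtain ⟨i, rfl⟩ := hgen l hl
    have hc1 : Commute (x⁻¹ * α x) y₀ := by
      show x⁻¹ * α x * y₀ = y₀ * (x⁻¹ * α x)
      have h1 := hconj x
      have h2 : α x * y₀ = x * y₀ * x⁻¹ * α x := by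
        rw [← h1]
        group
      calc x⁻¹ * α x * y₀ = x⁻¹ * (α x * y₀) := by group
        _ = x⁻¹ * (x * y₀ * x⁻¹ * α x) := by rw [h2]
        _ = y₀ * (x⁻¹ * α x) := by group
    exact ((hc1.zpow_right i).eq).symm
  obtain ⟨u, hu⟩ := h.ex
  have hw := h.a1 u hu
  have hgen2 := h.gen hX hw
  have hCtop : centralizer ((commutator X : Subgroup X) : Set X) = ⊤ := by
    rw [eq_top_iff, ← hgen2, closure_le]
    rintro y (hy | hy)
    · rw [hy]
      exact hC u
    · rw [Set.mem_singleton_iff.1 hy, map_mul, map_inv]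
      exact hC (α u)
  intro x y z
  have hz : z ∈ centralizer ((commutator X : Subgroup X) : Set X) := by
    rw [hCtop]
    trivial
  have hc := mem_centralizer_iff.1 hz ⁅x, y⁆
    (commutator_mem_commutator (mem_top x) (mem_top y))
  exact commutatorElement_eq_one_iff_mul_comm.2 hc

end Setup

section LemmaW

theorem lemma_W {W : Type*} [Group W] [Finite W] (hsq : ∀ w : W, w * w = 1) (hcard : Nat.card W ≤ 4)
    (β : W ≃* W) {r : ℕ} (hr : Odd r) (hβ : ∀ q, β^[r] q = q) {A z : W} (hz : β z = z)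
    (hE : β (β A) = A * β A * z) :
    (A = z ∧ β A = z) ∨ (z = 1 ∧ ∀ w, w * β w * β (β w) = 1) := by
  by_cases hAB : β A = A
  · left
    have h1 : A = A * A * z := by
      rw [hAB, hAB] at hE
      exact hE
    rw [hsq, one_mul] at h1
    exact ⟨h1, hAB.trans h1⟩
  · right
    have hA1 : A ≠ 1 := by
      rintro rfl
      exact hAB (map_one β)
    have hB1 : β A ≠ 1 := fun e => hA1 ((map_eq_one_iff β β.injective).1 e)
    have hz1 : z = 1 := by
      by_contra hz1
      have hzA : z ≠ A := by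
        rintro rfl
        exact hAB hz
      have hzB : z ≠ β A := fun e => hzA (β.injective (hz.trans e))
      have h4 := mem_of_four (w := A * β A) hcard (a := 1) (b := z) (c := A) (d := β A)
        (Ne.symm hz1) hA1.symm hB1.symm hzA hzB (Ne.symm hAB)
      rcases h4 with h5 | h5 | h5 | h5
      · apply hAB
        have h6 := mul_eq_one_iff_eq_inv.1 h5
        have hinv : (β A)⁻¹ = β A := inv_eq_of_mul_eq_one_left (hsq _)
        rw [hinv] at h6
        exact h6.symm
      · rw [h5, hsq] at hE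
        exact hB1 ((map_eq_one_iff β β.injective).1 hE)
      · exact hB1 (by simpa using h5)
      · exact hA1 (by simpa using h5)
    refine ⟨hz1, ?_⟩
    exact (action_E4 hsq hcard β hr hβ hAB).2

end LemmaW

section Y

variable {Y : Type*} [Group Y] [Finite Y]

theorem sq_of_Y (hY : IsPGroup 2 Y) (hm : IsMetacyclic Y) (β : Y ≃* Y)
    (h : FPF β) {z : Y} (hz1 : z ≠ 1) (hz : ∀ x y : Y, ⁅x, y⁆ = 1 ∨ ⁅x, y⁆ = z)
    (hna : ∃ a b : Y, ⁅a, b⁆ = z) : ∀ x : Y, x * x = 1 ∨ x * x = z := by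
  classical
  haveI : Fact (Nat.Prime 2) := ⟨Nat.prime_two⟩
  obtain ⟨a₀, b₀, hab⟩ := hna
  have hzc : ∀ g : Y, g * z = z * g := fun g => by
    have e : g * z * g⁻¹ = ⁅g * a₀ * g⁻¹, g * b₀ * g⁻¹⁆ := by
      rw [← hab]
      simp only [commutatorElement_def]
      group
    rcases hz (g * a₀ * g⁻¹) (g * b₀ * g⁻¹) with h1 | h1
    · rw [h1] at e
      exact absurd ((conj_eq_one_iff).1 e) hz1
    · rw [h1] at e
      exact (mul_inv_eq_iff_eq_mul).1 e
  have hcl : Cl2 Y := fun x y w => by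
    rcases hz x y with h1 | h1 <;> rw [h1]
    · simp
    · exact commutatorElement_eq_one_iff_mul_comm.2 (hzc w).symm
  have hzz : z * z = 1 := by
    have h1 := hcl.pow_comm_left a₀ b₀ 2
    rw [hab] at h1
    rcases hz (a₀ ^ 2) b₀ with h2 | h2
    · rw [h2, pow_two] at h1
      exact h1.symm
    · rw [h2, pow_two] at h1
      exact absurd (mul_eq_left.1 h1.symm) hz1
  have hsqcomm : ∀ x y : Y, ⁅x, y⁆ * ⁅x, y⁆ = 1 := fun x y => by
    rcases hz x y with h1 | h1 <;> rw [h1]
    · simp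
    · exact hzz
  have hsqc : ∀ x : Y, x * x ∈ center Y := fun x => by
    rw [mem_center_iff]
    intro y
    have h1 := hcl.pow_comm_left x y 2
    rw [pow_two, pow_two, hsqcomm] at h1
    exact (commutatorElement_eq_one_iff_mul_comm.1 h1).symm
  have hΦc : frattini Y ≤ center Y := by
    refine frattini_le_of_elementary 2 (center Y) ?_ (fun x => by rw [pow_two]; exact hsqc x)
    rw [_root_.commutator_def, commutator_le]
    intro x _ y _
    rcases hz x y with h1 | h1 <;> rw [h1]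
    · exact one_mem _
    · rw [mem_center_iff]
      exact hzc
  have hcen : ∀ t ∈ frattini Y, ∀ g, t * g = g * t := fun t ht g =>
    (mem_center_iff.1 (hΦc ht) g).symm
  have hβz : β z = z := by
    have e : β z = ⁅β a₀, β b₀⁆ := by rw [← hab, map_commutatorElement]
    rcases hz (β a₀) (β b₀) with h1 | h1
    · rw [h1] at e
      exact absurd ((map_eq_one_iff β β.injective).1 e) hz1
    · rw [e, h1]
  have hcommΦ : ∀ x y : Y, ⁅x, y⁆ ∈ frattini Y := fun x y =>
    (frattini_pgroup 2 hY).1 (commutator_mem_commutator (mem_top x) (mem_top y))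
  have hzΦ : z ∈ frattini Y := hab ▸ hcommΦ a₀ b₀
  obtain ⟨u, hu⟩ := h.ex
  obtain ⟨v, hvd⟩ : ∃ v, v = β u := ⟨_, rfl⟩
  have hgen := h.gen hY hu
  rw [← hvd] at hgen
  have hvu : ⁅v, u⁆ = z := by
    rcases hz v u with h1 | h1
    · exfalso
      apply hz1
      have hc : v * u = u * v := commutatorElement_eq_one_iff_mul_comm.1 h1
      have hK : closure ({u, v} : Set Y) ≤ centralizer ({u, v} : Set Y) := by
        rw [closure_le]
        rintro y (hy | hy)
        · rw [hy]
          rw [SetLike.mem_coe, mem_centralizer_iff]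
          rintro w (hw | hw)
          · rw [hw]
          · rw [Set.mem_singleton_iff.1 hw]
            exact hc
        · rw [Set.mem_singleton_iff.1 hy]
          rw [SetLike.mem_coe, mem_centralizer_iff]
          rintro w (hw | hw)
          · rw [hw]
            exact hc.symm
          · rw [Set.mem_singleton_iff.1 hw]
      rw [hgen] at hK
      have hZ : closure ({u, v} : Set Y) ≤ center Y := by
        rw [closure_le]
        rintro y hy
        rw [SetLike.mem_coe, mem_center_iff]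
        intro g
        exact (mem_centralizer_iff.1 (hK (mem_top g)) y hy).symm
      rw [hgen] at hZ
      have hc' := mem_center_iff.1 (hZ (mem_top a₀)) b₀
      rw [← hab]
      exact commutatorElement_eq_one_iff_mul_comm.2 hc'.symm
    · exact h1
  -- the module `W`
  obtain ⟨t₀, ht₀, hE₀⟩ := h.third hY u
  rw [← hvd] at hE₀
  have hΦp : IsPGroup 2 ↥(frattini Y) := hY.to_subgroup _
  have hWcard : Nat.card (↥(frattini Y) ⧸ frattini ↥(frattini Y)) ≤ 4 :=
    Cfsg.Agent.Lib.ClassSizes.Metacyclic.card_frattini_quotient_le hΦp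
      (Cfsg.Agent.Lib.ClassSizes.Metacyclic.isMetacyclic_subgroup hm _)
  let βΦ : ↥(frattini Y) ≃* ↥(frattini Y) :=
    { toFun := fun t => ⟨β (t : Y), (map_mem_frattini β).2 t.2⟩
      invFun := fun t => ⟨β.symm (t : Y), (map_mem_frattini β).1 (by simp)⟩
      left_inv := fun t => Subtype.ext (β.symm_apply_apply (t : Y))
      right_inv := fun t => Subtype.ext (β.apply_symm_apply (t : Y))
      map_mul' := fun s t => Subtype.ext (map_mul β (s : Y) (t : Y)) }
  have hβΦ : ∀ t : ↥(frattini Y), ((βΦ t : ↥(frattini Y)) : Y) = β (t : Y) := fun _ => rfl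
  have hmapΦ : (frattini ↥(frattini Y)).map (βΦ : ↥(frattini Y) →* ↥(frattini Y)) =
      frattini ↥(frattini Y) := Subgroup.characteristic_iff_map_eq.mp inferInstance βΦ
  let βq : (↥(frattini Y) ⧸ frattini ↥(frattini Y)) ≃* (↥(frattini Y) ⧸ frattini ↥(frattini Y)) :=
    QuotientGroup.congr _ _ βΦ hmapΦ
  have hβqmk : ∀ t : ↥(frattini Y), βq (t : ↥(frattini Y) ⧸ frattini ↥(frattini Y)) =
      ((βΦ t : ↥(frattini Y)) : ↥(frattini Y) ⧸ frattini ↥(frattini Y)) := fun _ => rfl
  have hWsq : ∀ w : ↥(frattini Y) ⧸ frattini ↥(frattini Y), w * w = 1 := by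
    intro w
    obtain ⟨t, rfl⟩ := QuotientGroup.mk_surjective w
    rw [← QuotientGroup.mk_mul, QuotientGroup.eq_one_iff]
    exact sq_mem_frattini hΦp t
  obtain ⟨r, hr, hβr⟩ := h.odd
  have hβqr : ∀ q, βq^[r] q = q := by
    intro q
    obtain ⟨t, rfl⟩ := QuotientGroup.mk_surjective q
    have e1 : ∀ n : ℕ, βq^[n] (t : ↥(frattini Y) ⧸ frattini ↥(frattini Y)) =
        ((βΦ^[n] t : ↥(frattini Y)) : ↥(frattini Y) ⧸ frattini ↥(frattini Y)) := by
      intro n
      induction n with
      | zero => rfl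
      | succ n ih =>
        rw [Function.iterate_succ_apply', ih, hβqmk, Function.iterate_succ_apply']
    have e2 : ∀ n : ℕ, ((βΦ^[n] t : ↥(frattini Y)) : Y) = β^[n] t := by
      intro n
      induction n with
      | zero => rfl
      | succ n ih =>
        rw [Function.iterate_succ_apply', hβΦ, ih, Function.iterate_succ_apply']
    rw [e1]
    congr 1
    exact Subtype.ext (by rw [e2, hβr])
  have huu : u * u ∈ frattini Y := sq_mem_frattini hY u
  have hvv : v * v ∈ frattini Y := sq_mem_frattini hY v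
  obtain ⟨A, hAd⟩ : ∃ A : ↥(frattini Y) ⧸ frattini ↥(frattini Y),
      A = ((⟨u * u, huu⟩ : ↥(frattini Y)) : ↥(frattini Y) ⧸ frattini ↥(frattini Y)) := ⟨_, rfl⟩
  obtain ⟨zb, hzbd⟩ : ∃ zb : ↥(frattini Y) ⧸ frattini ↥(frattini Y),
      zb = ((⟨z, hzΦ⟩ : ↥(frattini Y)) : ↥(frattini Y) ⧸ frattini ↥(frattini Y)) := ⟨_, rfl⟩
  have hβzb : βq zb = zb := by
    rw [hzbd, hβqmk]
    congr 1
    exact Subtype.ext hβz
  have hBA : βq A = ((⟨v * v, hvv⟩ : ↥(frattini Y)) : ↥(frattini Y) ⧸ frattini ↥(frattini Y)) := by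
    rw [hAd, hβqmk]
    congr 1
    apply Subtype.ext
    show β (u * u) = v * v
    rw [map_mul, hvd]
  have hprod : ∀ a b : Y, (a * b) * (a * b) = a * a * (b * b) * ⁅b, a⁆ := fun a b => by
    have h1 : b * a = ⁅b, a⁆ * a * b := by
      simp only [commutatorElement_def]
      group
    calc (a * b) * (a * b) = a * (b * a) * b := by group
      _ = a * (⁅b, a⁆ * a * b) * b := by rw [← h1]
      _ = a * (⁅b, a⁆ * (a * b * b)) := by group
      _ = a * ((a * b * b) * ⁅b, a⁆) := by rw [hcl.comm b a (a * b * b)]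
      _ = a * a * (b * b) * ⁅b, a⁆ := by group
  have hcomm_mk : ∀ a b : ↥(frattini Y), ((a * b : ↥(frattini Y)) : ↥(frattini Y) ⧸ frattini ↥(frattini Y))
      = (a : ↥(frattini Y) ⧸ frattini ↥(frattini Y)) * (b : ↥(frattini Y) ⧸ frattini ↥(frattini Y)) :=
    fun _ _ => rfl
  have hE : βq (βq A) = A * βq A * zb := by
    have e : βΦ ⟨v * v, hvv⟩ = ⟨u * u, huu⟩ * ⟨v * v, hvv⟩ * ⟨z, hzΦ⟩ * (⟨t₀, ht₀⟩ * ⟨t₀, ht₀⟩) := by
      apply Subtype.ext
      show β (v * v) = u * u * (v * v) * z * (t₀ * t₀)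
      have e1 : β v = u * v * t₀ := by rw [hvd]; rw [hvd] at hE₀; exact hE₀
      have hct : ∀ g, t₀ * g = g * t₀ := hcen t₀ ht₀
      rw [map_mul, e1]
      calc (u * v * t₀) * (u * v * t₀) = u * v * (t₀ * (u * v)) * t₀ := by group
        _ = (u * v) * (u * v) * (t₀ * t₀) := by rw [hct (u * v)]; group
        _ = u * u * (v * v) * z * (t₀ * t₀) := by rw [hprod, hvu]
    have hone : (((⟨t₀, ht₀⟩ * ⟨t₀, ht₀⟩ : ↥(frattini Y))) : ↥(frattini Y) ⧸ frattini ↥(frattini Y)) = 1 :=
      (QuotientGroup.eq_one_iff _).2 (sq_mem_frattini hΦp _)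
    rw [hBA, hβqmk, e, hcomm_mk _ (⟨t₀, ht₀⟩ * ⟨t₀, ht₀⟩), hone, mul_one, hAd, hzbd]
    rfl
  have hΦcomm : ∀ s t : ↥(frattini Y), s * t = t * s := fun s t =>
    Subtype.ext (hcen s s.2 t)
  rcases lemma_W hWsq hWcard βq hr hβqr hβzb hE with ⟨h1, h2⟩ | ⟨h1, h2⟩
  · -- the main case
    obtain ⟨F', hF'⟩ : ∃ F' : Subgroup Y, F' = (frattini ↥(frattini Y)).map (frattini Y).subtype := ⟨_, rfl⟩
    obtain ⟨N, hNd⟩ : ∃ N : Subgroup Y, N = zpowers z ⊔ F' := ⟨_, rfl⟩
    have hzN : z ∈ N := hNd ▸ (le_sup_left : zpowers z ≤ zpowers z ⊔ F') (mem_zpowers z)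
    have hF'N : F' ≤ N := hNd ▸ le_sup_right
    have hfrat : ∀ f ∈ frattini ↥(frattini Y), (f : Y) ∈ N := fun f hf =>
      hF'N (hF' ▸ mem_map_of_mem _ hf)
    have hsqN : ∀ t ∈ frattini Y, t * t ∈ N := fun t ht =>
      hfrat (⟨t, ht⟩ * ⟨t, ht⟩) (sq_mem_frattini hΦp _)
    have hfromeq : ∀ t : ↥(frattini Y), ((t : ↥(frattini Y)) : ↥(frattini Y) ⧸ frattini ↥(frattini Y)) = zb →
        (t : Y) ∈ N := fun t ht => by
      rw [hzbd] at ht
      have h3 := QuotientGroup.eq.1 ht.symm
      have h4 := hfrat _ h3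
      have e : (t : Y) = z * ((⟨z, hzΦ⟩ : ↥(frattini Y))⁻¹ * t : ↥(frattini Y)) := by
        show (t : Y) = z * (z⁻¹ * (t : Y))
        group
      rw [e]
      exact mul_mem hzN h4
    have huuN : u * u ∈ N := hfromeq ⟨u * u, huu⟩ (hAd ▸ h1)
    have hvvN : v * v ∈ N := hfromeq ⟨v * v, hvv⟩ (by rw [← hBA]; exact h2)
    have huvN : (u * v) * (u * v) ∈ N := by
      rw [hprod, hvu]
      exact mul_mem (mul_mem huuN hvvN) hzN
    have hgt : ∀ g t : Y, g * g ∈ N → t ∈ frattini Y → (g * t) * (g * t) ∈ N := fun g t hg ht => by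
      have e : (g * t) * (g * t) = g * g * (t * t) := by
        calc (g * t) * (g * t) = g * (t * g) * t := by group
          _ = g * (g * t) * t := by rw [hcen t ht g]
          _ = g * g * (t * t) := by group
      rw [e]
      exact mul_mem hg (hsqN t ht)
    have hpowN : ∀ x : Y, x ^ 2 ∈ N := by
      intro x
      rw [pow_two]
      have hdec : ∀ g : Y, g * g ∈ N → g⁻¹ * x ∈ frattini Y → x * x ∈ N := fun g hg ht => by
        have e : x = g * (g⁻¹ * x) := by group
        rw [e]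
        exact hgt _ _ hg ht
      rcases h.four hY hu x with h5 | h5 | h5 | h5
      · exact hsqN x h5
      · exact hdec u huuN h5
      · rw [← hvd] at h5
        exact hdec v hvvN h5
      · rw [← hvd] at h5
        exact hdec (u * v) huvN h5
    have hΦN : frattini Y ≤ N := by
      refine frattini_le_of_elementary 2 N ?_ hpowN
      rw [_root_.commutator_def, commutator_le]
      intro a _ b _
      rcases hz a b with h3 | h3 <;> rw [h3]
      · exact one_mem _
      · exact hzN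
    haveI hKn : (zpowers z).Normal := by
      refine ⟨fun n hn g => ?_⟩
      have hn' : n ∈ frattini Y := (zpowers_le.2 hzΦ) hn
      have e : g * n * g⁻¹ = n := by
        rw [← hcen n hn' g]
        group
      rw [e]
      exact hn
    have htop : (zpowers z).subgroupOf (frattini Y) ⊔ frattini ↥(frattini Y) = ⊤ := by
      rw [eq_top_iff]
      intro t _
      have h3 : (t : Y) ∈ zpowers z ⊔ F' := hNd ▸ hΦN t.2
      rw [mem_sup_of_normal_left] at h3
      obtain ⟨k, hk, f', hf', e⟩ := h3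
      rw [hF'] at hf'
      obtain ⟨f, hf, rfl⟩ := hf'
      have hkΦ : k ∈ frattini Y := (zpowers_le.2 hzΦ) hk
      have e' : t = ⟨k, hkΦ⟩ * f := Subtype.ext e.symm
      rw [e']
      exact mul_mem_sup (by rw [mem_subgroupOf]; exact hk) hf
    have hKtop := Cfsg.Agent.Lib.Core.eq_top_of_sup_eq_top_of_le_frattini le_rfl htop
    intro x
    have hxx := sq_mem_frattini hY x
    have h3 : (⟨x * x, hxx⟩ : ↥(frattini Y)) ∈ (zpowers z).subgroupOf (frattini Y) := by
      rw [hKtop]
      trivial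
    rw [mem_subgroupOf] at h3
    obtain ⟨i, hi⟩ := mem_zpowers_iff.1 h3
    have hi' : z ^ i = x * x := hi
    rcases Int.even_or_odd' i with ⟨c, rfl | rfl⟩
    · left
      rw [← hi', zpow_mul, zpow_ofNat, pow_two, hzz, one_zpow]
    · right
      rw [← hi', zpow_add, zpow_mul, zpow_ofNat, pow_two, hzz, one_zpow, one_mul, zpow_one]
  · -- the other case is impossible
    exfalso
    have hNt : ∀ t ∈ frattini Y, ∃ s ∈ frattini Y, t * β t * β (β t) = s * s := by
      intro t ht
      have h3 := h2 ((⟨t, ht⟩ : ↥(frattini Y)) : ↥(frattini Y) ⧸ frattini ↥(frattini Y))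
      rw [hβqmk, hβqmk, ← hcomm_mk, ← hcomm_mk, QuotientGroup.eq_one_iff] at h3
      obtain ⟨s, hs⟩ := mem_squares_of_frattini hΦcomm h3
      exact ⟨s.1, s.2, congrArg Subtype.val hs⟩
    have hiter : ∀ k : ℕ, ∃ t ∈ frattini Y, z = t ^ (2 ^ k) := by
      intro k
      induction k with
      | zero => exact ⟨z, hzΦ, by simp⟩
      | succ k ih =>
        obtain ⟨t, ht, e⟩ := ih
        obtain ⟨s, hs, es⟩ := hNt t ht
        refine ⟨s, hs, ?_⟩
        have hc1 : Commute t (β t) := hcen t ht _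
        have hbt : β t ∈ frattini Y := (map_mem_frattini β).2 ht
        have hc2 : Commute (t * β t) (β (β t)) :=
          (show Commute t (β (β t)) from hcen t ht _).mul_left (show Commute (β t) (β (β t)) from hcen _ hbt _)
        calc z = z * z * z := by rw [hzz, one_mul]
          _ = z * β z * β (β z) := by rw [hβz, hβz]
          _ = t ^ (2 ^ k) * β (t ^ (2 ^ k)) * β (β (t ^ (2 ^ k))) := by rw [← e]
          _ = t ^ (2 ^ k) * (β t) ^ (2 ^ k) * (β (β t)) ^ (2 ^ k) := by
              simp only [map_pow]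
          _ = (t * β t * β (β t)) ^ (2 ^ k) := by rw [hc2.mul_pow, hc1.mul_pow]
          _ = (s * s) ^ (2 ^ k) := by rw [es]
          _ = s ^ (2 ^ (k + 1)) := by
              rw [← pow_two, ← pow_mul, pow_succ']
    obtain ⟨n, hn⟩ := IsPGroup.iff_card.1 hY
    obtain ⟨t, _, e⟩ := hiter n
    apply hz1
    rw [e, ← hn]
    exact pow_card_eq_one'

end Y

section Main

variable {X : Type*} [Group X] [Finite X] {α : X ≃* X}

theorem isMetacyclic_quotient (hm : IsMetacyclic X) (D : Subgroup X) [hD : D.Normal] : IsMetacyclic (X ⧸ D) := by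
  obtain ⟨N, hN, h1, h2⟩ := hm
  haveI hn' : (N.map (QuotientGroup.mk' D)).Normal := hN.map _ (QuotientGroup.mk'_surjective D)
  refine ⟨N.map (QuotientGroup.mk' D), hn', ?_, ?_⟩
  · exact isCyclic_of_surjective ((QuotientGroup.mk' D).subgroupMap N)
      ((QuotientGroup.mk' D).subgroupMap_surjective N)
  · let g : X ⧸ N →* (X ⧸ D) ⧸ N.map (QuotientGroup.mk' D) :=
      QuotientGroup.lift N ((QuotientGroup.mk' _).comp (QuotientGroup.mk' D)) (fun x hx =>
        (QuotientGroup.eq_one_iff _).2 (mem_map_of_mem _ hx))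
    refine isCyclic_of_surjective g ?_
    intro y
    obtain ⟨y', rfl⟩ := QuotientGroup.mk_surjective y
    obtain ⟨x, rfl⟩ := QuotientGroup.mk_surjective y'
    exact ⟨(x : X ⧸ N), rfl⟩

theorem exists_gen_commutator (hm : IsMetacyclic X) :
    ∃ y₀ ∈ commutator X, ∀ l ∈ commutator X, ∃ i : ℤ, l = y₀ ^ i := by
  obtain ⟨N, hNn, hNc, hQc⟩ := hm
  have hLN : commutator X ≤ N := by
    rw [_root_.commutator_def, commutator_le]
    intro x _ y _
    rw [← QuotientGroup.eq_one_iff]
    have h1 : (QuotientGroup.mk' N) ⁅x, y⁆ = 1 := by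
      rw [map_commutatorElement]
      exact commutatorElement_eq_one_iff_mul_comm.2 (mul_comm' _ _)
    exact h1
  haveI hLc : IsCyclic ↥(commutator X) := by
    haveI : IsCyclic ↥((commutator X).subgroupOf N) := inferInstance
    exact isCyclic_of_surjective (subgroupOfEquivOfLe hLN).toMonoidHom (MulEquiv.surjective _)
  obtain ⟨g₀, hg₀⟩ := IsCyclic.exists_generator (α := ↥(commutator X))
  refine ⟨g₀, g₀.2, fun l hl => ?_⟩
  obtain ⟨i, hi⟩ := mem_zpowers_iff.1 (hg₀ ⟨l, hl⟩)
  exact ⟨i, (congrArg Subtype.val hi).symm⟩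

theorem comm_of_gen {u v : X} (hgen : closure ({u, v} : Set X) = ⊤) (hc : v * u = u * v) :
    ∀ a b : X, a * b = b * a := by
  have hK : closure ({u, v} : Set X) ≤ centralizer ({u, v} : Set X) := by
    rw [closure_le]
    rintro y (hy | hy)
    · rw [hy]
      rw [SetLike.mem_coe, mem_centralizer_iff]
      rintro w (hw | hw)
      · rw [hw]
      · rw [Set.mem_singleton_iff.1 hw]
        exact hc
    · rw [Set.mem_singleton_iff.1 hy]
      rw [SetLike.mem_coe, mem_centralizer_iff]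
      rintro w (hw | hw)
      · rw [hw]
        exact hc.symm
      · rw [Set.mem_singleton_iff.1 hw]
  rw [hgen] at hK
  have hZ : closure ({u, v} : Set X) ≤ center X := by
    rw [closure_le]
    rintro y hy
    rw [SetLike.mem_coe, mem_center_iff]
    intro g
    exact (mem_centralizer_iff.1 (hK (mem_top g)) y hy).symm
  rw [hgen] at hZ
  intro a b
  exact (mem_center_iff.1 (hZ (mem_top a)) b).symm

theorem four_le_card {Q : Type*} [Finite Q] {a b c d : Q} (hab : a ≠ b) (hac : a ≠ c) (had : a ≠ d)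
    (hbc : b ≠ c) (hbd : b ≠ d) (hcd : c ≠ d) : 4 ≤ Nat.card Q := by
  classical
  haveI := Fintype.ofFinite Q
  have hc : ({a, b, c, d} : Finset Q).card = 4 := by
    rw [Finset.card_insert_of_notMem (by simp [hab, hac, had]),
      Finset.card_insert_of_notMem (by simp [hbc, hbd]),
      Finset.card_insert_of_notMem (by simp [hcd]), Finset.card_singleton]
  rw [Nat.card_eq_fintype_card, ← hc]
  exact Finset.card_le_univ _

theorem FPF.card_eq (hX : IsPGroup 2 X) (h : FPF α) : Nat.card (X ⧸ frattini X) = 4 := by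
  classical
  haveI := Fintype.ofFinite (X ⧸ frattini X)
  apply le_antisymm h.card
  obtain ⟨u, hu⟩ := h.ex
  have mk1 : ∀ y : X, y ∉ frattini X → (y : X ⧸ frattini X) ≠ 1 := fun y hy h =>
    hy ((QuotientGroup.eq_one_iff y).1 h)
  have hv : α u ∉ frattini X := fun hv => hu ((map_mem_frattini α).1 hv)
  have huv := mul_notMem hX h hu
  have h1 := (mk1 u hu).symm
  have h2 := (mk1 _ hv).symm
  have h3 := (mk1 _ huv).symm
  have h4 : (u : X ⧸ frattini X) ≠ ((α u : X) : X ⧸ frattini X) := fun e => h.a1 u hu (QuotientGroup.eq.1 e)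
  have h5 : (u : X ⧸ frattini X) ≠ ((u * α u : X) : X ⧸ frattini X) := fun e => hv (by
    have := QuotientGroup.eq.1 e
    simpa using this)
  have h6 : ((α u : X) : X ⧸ frattini X) ≠ ((u * α u : X) : X ⧸ frattini X) := fun e => hu (by
    have := QuotientGroup.eq.1 e
    have e2 : (α u)⁻¹ * (u * α u) = (α u)⁻¹ * u * α u := by group
    rw [e2] at this
    have e3 : u = α u * ((α u)⁻¹ * u * α u) * (α u)⁻¹ := by group
    rw [e3]
    exact (inferInstance : (frattini X).Normal).conj_mem _ this _)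
  exact four_le_card h1 h2 h3 h4 h5 h6

theorem quaternion_of_fpf (hX : IsPGroup 2 X) (hm : IsMetacyclic X) (h : FPF α)
    (hna : ¬ ∀ a b : X, a * b = b * a) : Nonempty (X ≃* QuaternionGroup 2) := by
  classical
  haveI : Fact (Nat.Prime 2) := ⟨Nat.prime_two⟩
  have hcl := class_two_of_fpf hX hm h
  obtain ⟨y₀, hy₀L, hgen⟩ := exists_gen_commutator hm
  have hLcen : commutator X ≤ center X := by
    rw [_root_.commutator_def, commutator_le]
    intro x _ y _
    rw [mem_center_iff]
    intro g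
    exact (hcl.comm x y g).symm
  have hcen : ∀ l ∈ commutator X, ∀ g, l * g = g * l := fun l hl g =>
    (mem_center_iff.1 (hLcen hl) g).symm
  have hy₀1 : y₀ ≠ 1 := by
    rintro rfl
    apply hna
    intro a b
    obtain ⟨i, hi⟩ := hgen _ (commutator_mem_commutator (mem_top a) (mem_top b))
    rw [one_zpow] at hi
    exact commutatorElement_eq_one_iff_mul_comm.1 hi
  obtain ⟨D, hDd⟩ : ∃ D : Subgroup X, D = zpowers (y₀ * y₀) := ⟨_, rfl⟩
  have hDL : D ≤ commutator X := by
    rw [hDd, zpowers_le]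
    exact mul_mem hy₀L hy₀L
  haveI hDn : D.Normal := by
    refine ⟨fun n hn g => ?_⟩
    have e : g * n * g⁻¹ = n := by
      rw [← hcen n (hDL hn) g]
      group
    rw [e]
    exact hn
  have hDΦ : D ≤ frattini X := by
    rw [hDd, zpowers_le]
    exact sq_mem_frattini hX y₀
  have hmapL : (commutator X).map (α : X →* X) = commutator X :=
    Subgroup.characteristic_iff_map_eq.mp inferInstance α
  have hαL : ∀ l ∈ commutator X, α l ∈ commutator X := fun l hl => by
    rw [← hmapL]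
    exact ⟨l, hl, rfl⟩
  have hDα : D.map (α : X →* X) = D := by
    apply Subgroup.eq_of_le_of_card_ge
    · rw [map_le_iff_le_comap, hDd, zpowers_le, mem_comap]
      obtain ⟨k, hk⟩ := hgen _ (hαL y₀ hy₀L)
      have e : (α : X →* X) (y₀ * y₀) = (y₀ * y₀) ^ k := by
        show α (y₀ * y₀) = _
        rw [map_mul, hk, (Commute.refl y₀).mul_zpow]
      rw [e]
      exact zpow_mem (mem_zpowers _) k
    · exact le_of_eq (Nat.card_congr (D.equivMapOfInjective _ α.injective).toEquiv)
  let β : (X ⧸ D) ≃* (X ⧸ D) := QuotientGroup.congr D D α hDα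
  have hβmk : ∀ x : X, β (x : X ⧸ D) = ((α x : X) : X ⧸ D) := fun _ => rfl
  have hY : IsPGroup 2 (X ⧸ D) := hX.to_quotient D
  have hmY : IsMetacyclic (X ⧸ D) := isMetacyclic_quotient hm D
  obtain ⟨r, hr, hαr⟩ := h.odd
  have hβr : ∀ q, β^[r] q = q := by
    intro q
    obtain ⟨x, rfl⟩ := QuotientGroup.mk_surjective q
    have e : ∀ n : ℕ, β^[n] (x : X ⧸ D) = ((α^[n] x : X) : X ⧸ D) := by
      intro n
      induction n with
      | zero => rfl
      | succ n ih =>
        rw [Function.iterate_succ_apply', ih, hβmk, Function.iterate_succ_apply']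
    rw [e, hαr]
  obtain ⟨u, hu⟩ := h.ex
  have hmemΦ : ∀ y : X, (y : X ⧸ D) ∈ (frattini X).map (QuotientGroup.mk' D) → y ∈ frattini X := by
    intro y hy
    obtain ⟨f, hf, e⟩ := hy
    have e' : (f : X ⧸ D) = (y : X ⧸ D) := e
    have h1 := hDΦ (QuotientGroup.eq.1 e')
    have e2 : y = f * (f⁻¹ * y) := by group
    rw [e2]
    exact mul_mem hf h1
  have hfratY : frattini (X ⧸ D) ≤ (frattini X).map (QuotientGroup.mk' D) := by
    refine frattini_le_of_elementary 2 _ ?_ ?_
    · rw [_root_.commutator_def, commutator_le]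
      intro a _ b _
      obtain ⟨a', rfl⟩ := QuotientGroup.mk_surjective a
      obtain ⟨b', rfl⟩ := QuotientGroup.mk_surjective b
      refine ⟨⁅a', b'⁆, (frattini_pgroup 2 hX).1 (commutator_mem_commutator (mem_top a') (mem_top b')), ?_⟩
      exact map_commutatorElement (QuotientGroup.mk' D) a' b'
    · intro a
      obtain ⟨a', rfl⟩ := QuotientGroup.mk_surjective a
      exact ⟨a' ^ 2, (frattini_pgroup 2 hX).2 a', rfl⟩
  have hfpf : FPF β := by
    apply fpf_of_odd hY hmY β hr hβr (x₀ := (u : X ⧸ D))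
    intro hmem
    apply h.a1 u hu
    apply hmemΦ
    exact hfratY hmem
  obtain ⟨z, hzd⟩ : ∃ z : X ⧸ D, z = (y₀ : X ⧸ D) := ⟨_, rfl⟩
  have hpi : ∀ d ∈ D, (d : X ⧸ D) = 1 := fun d hd => (QuotientGroup.eq_one_iff d).2 hd
  have hy₀D : y₀ ∉ D := by
    intro hmem
    rw [hDd] at hmem
    obtain ⟨c, hc⟩ := mem_zpowers_iff.1 hmem
    have h1 : y₀ ^ (2 * c - 1) = 1 := by
      rw [zpow_sub, zpow_one, zpow_mul, zpow_ofNat, pow_two, hc]
      group
    have h2 := orderOf_dvd_iff_zpow_eq_one.2 h1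
    obtain ⟨k, hk⟩ := hX y₀
    have h3 := orderOf_dvd_of_pow_eq_one hk
    obtain ⟨j, -, hj⟩ := (Nat.dvd_prime_pow Nat.prime_two).1 h3
    have hj0 : j ≠ 0 := by
      rintro rfl
      simp at hj
      exact hy₀1 hj
    obtain ⟨j', rfl⟩ : ∃ j', j = j' + 1 := Nat.exists_eq_succ_of_ne_zero hj0
    rw [hj, pow_succ] at h2
    push_cast at h2
    have h4 : (2 : ℤ) ∣ 2 * c - 1 := (Dvd.intro_left _ rfl).trans h2
    omega
  have hz1 : z ≠ 1 := by
    rw [hzd]
    intro e
    exact hy₀D ((QuotientGroup.eq_one_iff y₀).1 e)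
  have hzmk : ∀ i : ℤ, ((y₀ ^ i : X) : X ⧸ D) = 1 ∨ ((y₀ ^ i : X) : X ⧸ D) = z := by
    intro i
    rcases Int.even_or_odd' i with ⟨c, rfl | rfl⟩
    · left
      apply hpi
      rw [hDd, zpow_mul, zpow_ofNat, pow_two]
      exact zpow_mem (mem_zpowers _) c
    · right
      rw [zpow_add, zpow_one, QuotientGroup.mk_mul, hpi, one_mul, hzd]
      rw [hDd, zpow_mul, zpow_ofNat, pow_two]
      exact zpow_mem (mem_zpowers _) c
  have hmkcomm : ∀ a b : X, ⁅(a : X ⧸ D), (b : X ⧸ D)⁆ = ((⁅a, b⁆ : X) : X ⧸ D) := fun a b =>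
    (map_commutatorElement (QuotientGroup.mk' D) a b).symm
  have hcommY : ∀ a b : X ⧸ D, ⁅a, b⁆ = 1 ∨ ⁅a, b⁆ = z := by
    intro a b
    obtain ⟨a', rfl⟩ := QuotientGroup.mk_surjective a
    obtain ⟨b', rfl⟩ := QuotientGroup.mk_surjective b
    obtain ⟨i, hi⟩ := hgen _ (commutator_mem_commutator (mem_top a') (mem_top b'))
    rw [hmkcomm, hi]
    exact hzmk i
  have hnaY : ∃ a b : X ⧸ D, ⁅a, b⁆ = z := by
    by_contra hall
    push Not at hall
    apply hy₀D
    have hLD : commutator X ≤ D := by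
      rw [_root_.commutator_def, commutator_le]
      intro a _ b _
      rw [← QuotientGroup.eq_one_iff]
      have h1 := hcommY (a : X ⧸ D) (b : X ⧸ D)
      rcases h1 with h1 | h1
      · rw [hmkcomm] at h1
        exact h1
      · exact absurd h1 (hall _ _)
    exact hLD hy₀L
  have hsq := sq_of_Y hY hmY β hfpf hz1 hcommY hnaY
  have hxxL : ∀ x : X, x * x ∈ commutator X := by
    intro x
    rcases hsq (x : X ⧸ D) with h1 | h1
    · rw [← QuotientGroup.mk_mul, QuotientGroup.eq_one_iff] at h1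
      exact hDL h1
    · rw [hzd, ← QuotientGroup.mk_mul] at h1
      have h2 := hDL (QuotientGroup.eq.1 h1.symm)
      have e : x * x = y₀ * (y₀⁻¹ * (x * x)) := by group
      rw [e]
      exact mul_mem hy₀L h2
  have hcsq : ∀ a b : X, ⁅a, b⁆ * ⁅a, b⁆ = 1 := by
    intro a b
    have h1 := hcl.pow_comm_left a b 2
    rw [pow_two, pow_two] at h1
    rw [← h1]
    exact commutatorElement_eq_one_iff_mul_comm.2 (hcen _ (hxxL a) b)
  have hLsq : ∀ l ∈ commutator X, l * l = 1 := by
    intro l hl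
    rw [commutator_eq_closure] at hl
    induction hl using closure_induction with
    | mem x hx =>
      obtain ⟨a, b, rfl⟩ := hx
      exact hcsq a b
    | one => simp
    | mul x y hx hy ihx ihy =>
      have hx' : x ∈ commutator X := by rw [commutator_eq_closure]; exact hx
      calc x * y * (x * y) = x * (y * x) * y := by group
        _ = x * (x * y) * y := by
            have hy' : y ∈ commutator X := by rw [commutator_eq_closure]; exact hy
            rw [hcen y hy' x]
        _ = (x * x) * (y * y) := by group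
        _ = 1 := by rw [ihx, ihy, one_mul]
    | inv x _ ih =>
      rw [← mul_inv_rev, ih, inv_one]
  have hy₀2 : y₀ * y₀ = 1 := hLsq y₀ hy₀L
  have hL12 : ∀ l ∈ commutator X, l = 1 ∨ l = y₀ := by
    intro l hl
    obtain ⟨i, rfl⟩ := hgen l hl
    rcases Int.even_or_odd' i with ⟨c, rfl | rfl⟩
    · left
      rw [zpow_mul, zpow_ofNat, pow_two, hy₀2, one_zpow]
    · right
      rw [zpow_add, zpow_mul, zpow_ofNat, pow_two, hy₀2, one_zpow, one_mul, zpow_one]
  have hΦL : frattini X ≤ commutator X :=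
    frattini_le_of_elementary 2 _ le_rfl (fun x => by rw [pow_two]; exact hxxL x)
  have hLΦ : commutator X ≤ frattini X := (frattini_pgroup 2 hX).1
  have hΦz : frattini X = zpowers y₀ := by
    apply le_antisymm
    · intro t ht
      obtain ⟨i, rfl⟩ := hgen t (hΦL ht)
      exact zpow_mem (mem_zpowers _) i
    · rw [zpowers_le]
      exact hLΦ hy₀L
  have hord2 : orderOf y₀ = 2 := orderOf_eq_prime (by rw [pow_two]; exact hy₀2) hy₀1
  have hcardX : Nat.card X = 2 ^ (2 + 1) := by
    have h1 := (frattini X).card_mul_index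
    have hc1 : Nat.card (frattini X) = 2 := by
      rw [hΦz, Nat.card_zpowers, hord2]
    have hc2 : (frattini X).index = 4 := h.card_eq hX
    rw [hc1, hc2] at h1
    omega
  obtain ⟨v, hvd⟩ : ∃ v, v = α u := ⟨_, rfl⟩
  have hgen2 := h.gen hX hu
  rw [← hvd] at hgen2
  have hcomm1 : ⁅v, u⁆ ≠ 1 := fun e =>
    hna (comm_of_gen hgen2 (commutatorElement_eq_one_iff_mul_comm.1 e))
  have hvu : ⁅v, u⁆ = y₀ :=
    (hL12 _ (commutator_mem_commutator (mem_top v) (mem_top u))).resolve_left hcomm1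
  have hprod : ∀ a b : X, (a * b) * (a * b) = a * a * (b * b) * ⁅b, a⁆ := fun a b => by
    have h1 : b * a = ⁅b, a⁆ * a * b := by
      simp only [commutatorElement_def]
      group
    calc (a * b) * (a * b) = a * (b * a) * b := by group
      _ = a * (⁅b, a⁆ * a * b) * b := by rw [← h1]
      _ = a * (⁅b, a⁆ * (a * b * b)) := by group
      _ = a * ((a * b * b) * ⁅b, a⁆) := by rw [hcl.comm b a (a * b * b)]
      _ = a * a * (b * b) * ⁅b, a⁆ := by group
  have huu : u * u = y₀ := by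
    refine (hL12 _ (hxxL u)).resolve_left ?_
    intro h1
    have hv1 : v * v = 1 := by
      rw [hvd, ← map_mul, h1, map_one]
    obtain ⟨t, ht, e⟩ := h.third hX u
    rw [← hvd] at e
    have h2 : α v * α v = 1 := by
      rw [← map_mul, hv1, map_one]
    have hct : ∀ g, t * g = g * t := hcen t (hΦL ht)
    have h3 : (u * v * t) * (u * v * t) = (u * v) * (u * v) * (t * t) := by
      calc (u * v * t) * (u * v * t) = u * v * (t * (u * v)) * t := by group
        _ = (u * v) * (u * v) * (t * t) := by rw [hct (u * v)]; group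
    have hα : α v = u * v * t := by rw [hvd]; rw [hvd] at e; exact e
    rw [hα, h3, hprod, h1, hv1, hLsq t (hΦL ht), hvu] at h2
    apply hy₀1
    simpa using h2
  have hαy₀ : α y₀ = y₀ := by
    refine (hL12 _ (hαL y₀ hy₀L)).resolve_left ?_
    exact fun e => hy₀1 ((map_eq_one_iff α α.injective).1 e)
  have hvv : v * v = y₀ := by
    rw [hvd, ← map_mul, huu, hαy₀]
  have hu2 : u ^ 2 = y₀ := by rw [pow_two, huu]
  have hu4 : u ^ 4 = 1 := by
    rw [show (4 : ℕ) = 2 * 2 from rfl, pow_mul, hu2, pow_two, hy₀2]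
  have hordu : orderOf u = 2 ^ 2 := by
    apply orderOf_eq_prime_pow
    · rw [pow_one, hu2]
      exact hy₀1
    · exact hu4
  have hg : v ∉ zpowers u := by
    intro hmem
    apply hna
    have h1 : closure ({u, v} : Set X) ≤ zpowers u := by
      rw [closure_le]
      rintro y (hy | hy)
      · rw [hy]
        exact mem_zpowers u
      · rw [Set.mem_singleton_iff.1 hy]
        exact hmem
    rw [hgen2] at h1
    intro a b
    obtain ⟨i, hi⟩ := mem_zpowers_iff.1 (h1 (mem_top a))
    obtain ⟨j, hj⟩ := mem_zpowers_iff.1 (h1 (mem_top b))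
    rw [← hi, ← hj]
    exact zpow_mul_comm u i j
  have hg2 : v ^ 2 = u ^ 2 ^ (2 - 1) := by
    rw [pow_two, hvv]
    show y₀ = u ^ 2
    rw [hu2]
  have hga : v * u * v⁻¹ = u⁻¹ := by
    have h1 : v * u * v⁻¹ = ⁅v, u⁆ * u := by
      simp only [commutatorElement_def]
      group
    rw [h1, hvu, ← hu2]
    rw [← pow_succ, eq_inv_iff_mul_eq_one, ← pow_succ]
    exact hu4
  obtain ⟨m, ⟨e⟩⟩ := Cfsg.Agent.Lib.Cl.quaternion_of_inverts hordu (by norm_num) hcardX hg hg2 hga
  have hm0 : m ≠ 0 := by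
    rintro rfl
    have h1 := Nat.card_congr e.toEquiv
    rw [hcardX] at h1
    have h2 : Nat.card (QuaternionGroup 0) = 0 := by
      haveI : Infinite (ZMod (2 * 0)) := (inferInstance : Infinite ℤ)
      haveI : Infinite (QuaternionGroup 0) :=
        Infinite.of_injective (QuaternionGroup.a (n := 0)) (fun _ _ he => QuaternionGroup.a.inj he)
      exact Nat.card_eq_zero_of_infinite
    omega
  haveI : NeZero m := ⟨hm0⟩
  have hm2 : m = 2 := by
    have h1 := Nat.card_congr e.toEquiv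
    rw [hcardX, Nat.card_eq_fintype_card, QuaternionGroup.card] at h1
    omega
  subst hm2
  exact ⟨e⟩

theorem mulAut_pow_apply (a : MulAut X) (n : ℕ) (x : X) : (a ^ n) x = a^[n] x := by
  induction n generalizing x with
  | zero => rfl
  | succ n ih =>
    rw [pow_succ, MulAut.mul_apply, ih, Function.iterate_succ_apply]

/-- **The classification of metacyclic `2`-groups with an automorphism of odd order.** -/
theorem main_meta (hX : IsPGroup 2 X) (hm : IsMetacyclic X) (hA : ¬ IsPGroup 2 (MulAut X)) :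
    Nonempty (X ≃* QuaternionGroup 2) ∨
      ∃ n : ℕ, Nonempty (X ≃* Multiplicative (ZMod (2 ^ n)) × Multiplicative (ZMod (2 ^ n))) := by
  classical
  haveI : Fact (Nat.Prime 2) := ⟨Nat.prime_two⟩
  haveI : Finite (MulAut X) := inferInstance
  obtain ⟨r, hrp, hrd, hr2⟩ : ∃ r : ℕ, r.Prime ∧ r ∣ Nat.card (MulAut X) ∧ r ≠ 2 := by
    by_contra hall
    push Not at hall
    apply hA
    have hc := Nat.eq_prime_pow_of_unique_prime_dvd (Nat.card_pos (α := MulAut X)).ne'
      (fun {d} hd hdd => hall d hd hdd)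
    exact IsPGroup.of_card hc
  haveI : Fact r.Prime := ⟨hrp⟩
  obtain ⟨a, ha⟩ := exists_prime_orderOf_dvd_card' r hrd
  have hrodd : Odd r := hrp.odd_of_ne_two hr2
  have har : ∀ x, a^[r] x = x := fun x => by
    rw [← mulAut_pow_apply, ← ha, pow_orderOf_eq_one]
    rfl
  -- a moved coset exists
  obtain ⟨x₀, hx₀⟩ : ∃ x₀ : X, x₀⁻¹ * a x₀ ∉ frattini X := by
    by_contra hall
    push Not at hall
    obtain ⟨n, hn⟩ := IsPGroup.iff_card.1 hX
    have hidx : ∃ l, (frattini X).index = 2 ^ l := by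
      have h1 : (frattini X).index ∣ 2 ^ n := hn ▸ Subgroup.index_dvd_card _
      obtain ⟨l, -, hl⟩ := (Nat.dvd_prime_pow Nat.prime_two).1 h1
      exact ⟨l, hl⟩
    obtain ⟨l, hl⟩ := hidx
    have hpow : ∀ k : ℕ, ∀ x : X, (a ^ k) x * x⁻¹ ∈ frattini X := by
      intro k
      induction k with
      | zero => intro x; simp
      | succ k ih =>
        intro x
        have e1 : (a ^ (k + 1)) x = a ((a ^ k) x) := by
          rw [pow_succ', MulAut.mul_apply]
        have h1 := hall ((a ^ k) x)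
        have h2 : a ((a ^ k) x) * ((a ^ k) x)⁻¹ ∈ frattini X := by
          have e2 : a ((a ^ k) x) * ((a ^ k) x)⁻¹ =
              (a ^ k) x * (((a ^ k) x)⁻¹ * a ((a ^ k) x)) * ((a ^ k) x)⁻¹ := by group
          rw [e2]
          exact (inferInstance : (frattini X).Normal).conj_mem _ h1 _
        rw [e1]
        have e3 : a ((a ^ k) x) * x⁻¹ = (a ((a ^ k) x) * ((a ^ k) x)⁻¹) * ((a ^ k) x * x⁻¹) := by group
        rw [e3]
        exact mul_mem h2 (ih x)
    have hd := Cfsg.Agent.Lib.ClassSizes.AutFrattini.card_dvd_of_trivial_on_frattini hn hl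
      (zpowers a) (fun b hb x => by
        obtain ⟨k, rfl⟩ := (mem_powers_iff_mem_zpowers).2 hb
        exact hpow k x)
    rw [Nat.card_zpowers, ha] at hd
    have h3 := (Nat.prime_dvd_prime_iff_eq hrp Nat.prime_two).1 (hrp.dvd_of_dvd_pow hd)
    exact hr2 h3
  have hfpf : FPF (a : X ≃* X) := fpf_of_odd hX hm a hrodd har hx₀
  by_cases hc : ∀ a b : X, a * b = b * a
  · exact Or.inr (homocyclic_of_comm hX hc hfpf)
  · exact Or.inl (quaternion_of_fpf hX hm hfpf hc)

end Main

end Cfsg.Agent.Lib.Techniques.MetaAut
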