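import Mathlib
import Cfsg.Agent.Lib.FStar.Layer
import Cfsg.Agent.Lib.FStar.GenFitting
import Cfsg.Agent.Lib.FStar.Constrained

/-!
# The centralizer of a transvection in `SL(n, 2)`.
-/

set_option autoImplicit false
set_option linter.unusedSectionVars false
set_option linter.unusedVariables false
set_option linter.style.haveILetI false

namespace Cfsg.Agent.Lib.Techniques

open Subgroup Cfsg Cfsg.Agent.Lib.Core Cfsg.Agent.Lib.FStar
open Matrix
open scoped commutatorElement

section Gen

variable {G : Type*} [Group G] [Finite G] {p : ℕ} [hp : Fact p.Prime]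

/-- A normal self-centralizing `p`-subgroup forces `F*(G) = O_p(G)`. -/
theorem gen_eq_pCore_of_selfCentralizing {Q : Subgroup G} (hQn : Q.Normal) (hQp : IsPGroup p Q)
    (hQc : centralizer (Q : Set G) ≤ Q) : generalizedFittingSubgroup G = pCore p G := by
  have hQO : Q ≤ pCore p G := le_pCore hQn hQp
  have hbot : pPrimeCore p G = ⊥ := by
    rw [eq_bot_iff]
    intro d hd
    have h1 : d ∈ centralizer (Q : Set G) := by
      rw [mem_centralizer_iff]
      intro q hq
      have h2 : ⁅q, d⁆ ∈ Q := by
        rw [commutatorElement_def]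
        have h4 : q * d * q⁻¹ * d⁻¹ = q * (d * q⁻¹ * d⁻¹) := by group
        rw [h4]
        exact mul_mem hq (hQn.conj_mem _ (inv_mem hq) d)
      have h3 : ⁅q, d⁆ ∈ pPrimeCore p G := by
        rw [commutatorElement_def]
        have h4 : q * d * q⁻¹ * d⁻¹ = (q * d * q⁻¹) * d⁻¹ := rfl
        rw [h4]
        exact mul_mem ((pPrimeCore_normal p G).conj_mem d hd q) (inv_mem hd)
      obtain ⟨k, hk⟩ := hQp ⟨_, h2⟩
      have hk' : ⁅q, d⁆ ^ p ^ k = 1 := congrArg Subtype.val hk
      have h5 : (orderOf ⁅q, d⁆).Coprime p := by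
        have h6 := orderOf_dvd_natCard (⟨_, h3⟩ : pPrimeCore p G)
        rw [Subgroup.orderOf_mk] at h6
        exact Nat.Coprime.coprime_dvd_left h6 (pPrimeCore_coprime p G)
      have h7 := eq_one_of_pow_of_coprime hk' (pow_orderOf_eq_one _) h5
      exact (commutatorElement_eq_one_iff_mul_comm.1 h7)
    have h2 := hQc h1
    obtain ⟨k, hk⟩ := hQp ⟨d, h2⟩
    have hk' : d ^ p ^ k = 1 := congrArg Subtype.val hk
    have h5 : (orderOf d).Coprime p := by
      have h6 := orderOf_dvd_natCard (⟨d, hd⟩ : pPrimeCore p G)
      rw [Subgroup.orderOf_mk] at h6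
      exact Nat.Coprime.coprime_dvd_left h6 (pPrimeCore_coprime p G)
    exact eq_one_of_pow_of_coprime hk' (pow_orderOf_eq_one _) h5
  have hF : fittingSubgroup G = pCore p G := fitting_eq_pCore_of_pPrimeCore_bot hbot
  have hlay : layer G = ⊥ := by
    rw [← centralizer_fitting_le_iff, hF]
    exact (Subgroup.centralizer_le hQO).trans (hQc.trans hQO)
  show layer G ⊔ fittingSubgroup G = _
  rw [hlay, hF, bot_sup_eq]

end Gen

section Mat

variable {F : Type*} [Field F] [Fintype F] [DecidableEq F] {n : ℕ} {i j : Fin n}

local notation "M" => Matrix (Fin n) (Fin n) F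

theorem f2_zero_or_one (hF : Fintype.card F = 2) (x : F) : x = 0 ∨ x = 1 := by
  have h : x ^ 2 = x := by
    have := FiniteField.pow_card x
    rwa [hF] at this
  have h2 : x * (x - 1) = 0 := by
    rw [mul_sub, mul_one, ← pow_two, h, sub_self]
  rcases mul_eq_zero.1 h2 with h3 | h3
  · exact Or.inl h3
  · exact Or.inr (sub_eq_zero.1 h3)

theorem f2_add_self (hF : Fintype.card F = 2) (x : F) : x + x = 0 := by
  have h : ((Fintype.card F : ℕ) : F) = 0 := FiniteField.cast_card_eq_zero F
  rw [hF] at h
  have h2 : x + x = ((2 : ℕ) : F) * x := by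
    push_cast
    ring
  rw [h2, h, zero_mul]

theorem col_row (hF : Fintype.card F = 2) (hij : i ≠ j) {y t : SpecialLinearGroup (Fin n) F}
    (ht : (t : M) = transvection i j 1) (hy : y * t = t * y) :
    (∀ a, (y : M) a i = (1 : M) a i) ∧ (∀ b, (y : M) j b = (1 : M) j b) := by
  have hm : (y : M) * transvection i j 1 = transvection i j 1 * (y : M) := by
    have h0 := congrArg (fun g : SpecialLinearGroup (Fin n) F => (g : M)) hy
    have h1 : (y : M) * (t : M) = (t : M) * (y : M) := h0
    rwa [ht] at h1
  have h1 : ∀ a, a ≠ i → (y : M) a i = 0 := by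
    intro a ha
    have h2 := congrFun (congrFun hm a) j
    rw [mul_transvection_apply_same, transvection_mul_apply_of_ne _ _ _ _ ha] at h2
    simpa using h2
  have h3 : ∀ b, b ≠ j → (y : M) j b = 0 := by
    intro b hb
    have h2 := congrFun (congrFun hm i) b
    rw [mul_transvection_apply_of_ne _ _ _ _ hb, transvection_mul_apply_same] at h2
    simpa using h2
  have h4 : (y : M) i i = (y : M) j j := by
    have h2 := congrFun (congrFun hm i) j
    rw [mul_transvection_apply_same, transvection_mul_apply_same] at h2
    simpa using h2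
  have h5 : (y : M) i i ≠ 0 := by
    intro h0
    have hdet : det (y : M) = 0 := by
      rw [← det_transpose]
      refine det_eq_zero_of_row_eq_zero i ?_
      intro a
      rw [transpose_apply]
      by_cases ha : a = i
      · rw [ha]; exact h0
      · exact h1 a ha
    have := y.2
    rw [hdet] at this
    exact zero_ne_one this
  have h6 : (y : M) i i = 1 := (f2_zero_or_one hF _).resolve_left h5
  refine ⟨?_, ?_⟩
  · intro a
    by_cases ha : a = i
    · rw [ha, h6, one_apply_eq]
    · rw [h1 a ha, one_apply_ne ha]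
  · intro b
    by_cases hb : b = j
    · rw [hb, ← h4, h6, one_apply_eq]
    · rw [h3 b hb, one_apply_ne (Ne.symm hb)]

/-- Matrices that vanish outside row `i` and column `j`. -/
def RowCol (i j : Fin n) (N : M) : Prop := ∀ a b, a ≠ i → b ≠ j → N a b = 0

theorem RowCol.mul_left {N y : M} (hN : RowCol i j N) (hy : ∀ a, y a i = (1 : M) a i) : RowCol i j (y * N) := by
  intro a b ha hb
  rw [Matrix.mul_apply, Finset.sum_eq_single i]
  · rw [hy a, one_apply_ne ha, zero_mul]
  · intro c _ hc
    rw [hN c b hc hb, mul_zero]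
  · intro h
    exact absurd (Finset.mem_univ i) h

theorem RowCol.mul_right {N z : M} (hN : RowCol i j N) (hz : ∀ b, z j b = (1 : M) j b) : RowCol i j (N * z) := by
  intro a b ha hb
  rw [Matrix.mul_apply, Finset.sum_eq_single j]
  · rw [hz b, one_apply_ne (Ne.symm hb), mul_zero]
  · intro d _ hd
    rw [hN a d ha hd, zero_mul]
  · intro h
    exact absurd (Finset.mem_univ j) h

theorem RowCol.add {N N' : M} (hN : RowCol i j N) (hN' : RowCol i j N') : RowCol i j (N + N') := by
  intro a b ha hb
  rw [Matrix.add_apply, hN a b ha hb, hN' a b ha hb, add_zero]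

theorem RowCol.neg {N : M} (hN : RowCol i j N) : RowCol i j (-N) := by
  intro a b ha hb
  rw [Matrix.neg_apply, hN a b ha hb, neg_zero]

/-- The cube of such a nilpotent part vanishes. -/
theorem cube_eq_zero {N : M} (hN : RowCol i j N) (hc : ∀ a, N a i = 0) (hr : ∀ b, N j b = 0) : N * N * N = 0 := by
  have h1 : ∀ a d, d ≠ j → (N * N) a d = 0 := by
    intro a d hd
    rw [Matrix.mul_apply]
    refine Finset.sum_eq_zero fun c _ => ?_
    by_cases hci : c = i
    · rw [hci, hc a, zero_mul]
    · rw [hN c d hci hd, mul_zero]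
  ext a b
  rw [Matrix.mul_apply, Finset.sum_eq_single j]
  · rw [hr b, mul_zero, Matrix.zero_apply]
  · intro d _ hd
    rw [h1 a d hd, zero_mul]
  · intro h
    exact absurd (Finset.mem_univ j) h

theorem one_add_pow_four (hF : Fintype.card F = 2) {N : M} (h3 : N * N * N = 0) : (1 + N) ^ 4 = 1 := by
  have h2 : ∀ X : M, X + X = 0 := by
    intro X
    ext a b
    rw [Matrix.add_apply, Matrix.zero_apply, f2_add_self hF]
  have hs : (1 + N) ^ 2 = 1 + N * N := by
    rw [pow_two, add_mul, mul_add, mul_add, one_mul, mul_one, one_mul]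
    calc 1 + N + (N + N * N) = 1 + (N + N) + N * N := by abel
      _ = 1 + N * N := by rw [h2 N, add_zero]
  have h4 : (1 + N) ^ 4 = (1 + N * N) * (1 + N * N) := by
    calc (1 + N) ^ 4 = (1 + N) ^ 2 * (1 + N) ^ 2 := by rw [← pow_add]
      _ = _ := by rw [hs]
  rw [h4, add_mul, mul_add, mul_add, one_mul, mul_one, one_mul]
  have h5 : N * N * (N * N) = 0 := by
    rw [← mul_assoc, h3, zero_mul]
  rw [h5, add_zero]
  calc 1 + N * N + N * N = 1 + (N * N + N * N) := by abel
    _ = 1 := by rw [h2, add_zero]

/-- (S1339) -/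
theorem gen_centralizer_transvection (hF : Fintype.card F = 2) (hij : i ≠ j)
    (t : SpecialLinearGroup (Fin n) F) (ht : (t : M) = transvection i j 1) :
    generalizedFittingSubgroup ↥(centralizer ({t} : Set (SpecialLinearGroup (Fin n) F))) =
      pCore 2 ↥(centralizer ({t} : Set (SpecialLinearGroup (Fin n) F))) := by
  classical
  set C := centralizer ({t} : Set (SpecialLinearGroup (Fin n) F)) with hC
  have hcr : ∀ y : C, (∀ a, (((y : SpecialLinearGroup (Fin n) F) : M)) a i = (1 : M) a i) ∧
      (∀ b, (((y : SpecialLinearGroup (Fin n) F) : M)) j b = (1 : M) j b) := fun y =>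
    col_row hF hij ht (mem_centralizer_singleton_iff.1 y.2)
  let Q : Subgroup C :=
    { carrier := {g | RowCol i j (((g : SpecialLinearGroup (Fin n) F) : M) - 1)}
      one_mem' := by
        intro a b _ _
        simp
      mul_mem' := by
        intro g h hg hh
        have e : (((g * h : C) : SpecialLinearGroup (Fin n) F) : M) - 1 =
            ((((g : SpecialLinearGroup (Fin n) F) : M) - 1) * ((h : SpecialLinearGroup (Fin n) F) : M)) +
              (((h : SpecialLinearGroup (Fin n) F) : M) - 1) := by
          simp [sub_mul]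
        show RowCol i j _
        rw [e]
        exact RowCol.add (RowCol.mul_right hg (hcr h).2) hh
      inv_mem' := by
        intro g hg
        have e : (((g⁻¹ : C) : SpecialLinearGroup (Fin n) F) : M) - 1 =
            -(((g⁻¹ : C) : SpecialLinearGroup (Fin n) F) : M) * (((g : SpecialLinearGroup (Fin n) F) : M) - 1) := by
          have h1 : (((g⁻¹ : C) : SpecialLinearGroup (Fin n) F) : M) * ((g : SpecialLinearGroup (Fin n) F) : M) = 1 := by
            have h0 : (((g⁻¹ * g : C) : SpecialLinearGroup (Fin n) F) : M) = 1 := by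
              rw [inv_mul_cancel]; rfl
            exact h0
          rw [neg_mul, mul_sub, h1, mul_one]
          abel
        show RowCol i j _
        rw [e, neg_mul]
        exact RowCol.neg (RowCol.mul_left hg (hcr g⁻¹).1) }
  have hQmem : ∀ g : C, g ∈ Q ↔ RowCol i j (((g : SpecialLinearGroup (Fin n) F) : M) - 1) := fun _ => Iff.rfl
  have hQn : Q.Normal := by
    constructor
    intro g hg y
    rw [hQmem] at hg ⊢
    have e : (((y * g * y⁻¹ : C) : SpecialLinearGroup (Fin n) F) : M) - 1 =
        ((y : SpecialLinearGroup (Fin n) F) : M) * (((g : SpecialLinearGroup (Fin n) F) : M) - 1) *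
          (((y⁻¹ : C) : SpecialLinearGroup (Fin n) F) : M) := by
      have h1 : ((y : SpecialLinearGroup (Fin n) F) : M) * (((y⁻¹ : C) : SpecialLinearGroup (Fin n) F) : M) = 1 := by
        have h0 : (((y * y⁻¹ : C) : SpecialLinearGroup (Fin n) F) : M) = 1 := by
          rw [mul_inv_cancel]; rfl
        exact h0
      rw [mul_sub, sub_mul, mul_one, h1]
      simp
    rw [e]
    exact RowCol.mul_right (RowCol.mul_left hg (hcr y).1) (hcr y⁻¹).2
  have hQp : IsPGroup 2 Q := by
    rintro ⟨g, hg⟩
    refine ⟨2, ?_⟩
    have hg' := (hQmem g).1 hg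
    set N := ((g : SpecialLinearGroup (Fin n) F) : M) - 1 with hN
    have hc : ∀ a, N a i = 0 := by
      intro a
      rw [hN, Matrix.sub_apply, (hcr g).1 a, sub_self]
    have hr : ∀ b, N j b = 0 := by
      intro b
      rw [hN, Matrix.sub_apply, (hcr g).2 b, sub_self]
    have h3 := cube_eq_zero hg' hc hr
    have h4 := one_add_pow_four hF h3
    have h5 : ((g : SpecialLinearGroup (Fin n) F) : M) = 1 + N := by
      rw [hN]; abel
    apply Subtype.ext
    apply Subtype.ext
    apply Subtype.ext
    rw [← h5] at h4
    simpa using h4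
  have hQc : centralizer (Q : Set C) ≤ Q := by
    intro y hy
    rw [hQmem]
    intro a b ha hb
    -- `y` commutes with `1 + E_{ia}`
    have hrow : ∀ d, d ≠ a → ((y : SpecialLinearGroup (Fin n) F) : M) a d = 0 := by
      intro d hd
      set g₀ : SpecialLinearGroup (Fin n) F := SpecialLinearGroup.transvection (Ne.symm ha) 1 with hg₀
      have hg₀c : (g₀ : M) = transvection i a 1 := by
        rw [hg₀]; rfl
      have hg₀t : g₀ ∈ C := by
        rw [hC, mem_centralizer_singleton_iff]
        apply Subtype.ext
        have h1 : (transvection i a (1 : F) * transvection i j 1 : M) = transvection i j 1 * transvection i a 1 := by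
          have e1 : (Matrix.single i a (1 : F) * Matrix.single i j (1 : F) : M) = 0 :=
            Matrix.single_mul_single_of_ne _ _ _ _ ha _
          have e2 : (Matrix.single i j (1 : F) * Matrix.single i a (1 : F) : M) = 0 :=
            Matrix.single_mul_single_of_ne _ _ _ _ (Ne.symm hij) _
          simp only [transvection, Matrix.add_mul, Matrix.mul_add, one_mul, mul_one, e1, e2]
          abel
        show (g₀ : M) * (t : M) = (t : M) * (g₀ : M)
        rw [hg₀c, ht]
        exact h1
      set g₁ : C := ⟨g₀, hg₀t⟩ with hg₁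
      have hg₁Q : g₁ ∈ Q := by
        rw [hQmem]
        intro c e hc _
        show (g₀ : M) c e - (1 : M) c e = 0
        rw [hg₀c, transvection, Matrix.add_apply, Matrix.single_apply_of_row_ne (Ne.symm hc)]
        ring
      have hcomm : g₁ * y = y * g₁ := (mem_centralizer_iff.1 hy) g₁ hg₁Q
      have hm : (g₀ : M) * ((y : SpecialLinearGroup (Fin n) F) : M) = ((y : SpecialLinearGroup (Fin n) F) : M) * g₀ := by
        have h0 := congrArg (fun x : C => ((x : SpecialLinearGroup (Fin n) F) : M)) hcomm
        exact h0
      rw [hg₀c] at hm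
      have h2 := congrFun (congrFun hm i) d
      rw [transvection_mul_apply_same, mul_transvection_apply_of_ne _ _ _ _ hd] at h2
      simpa using h2
    have hdiag : ((y : SpecialLinearGroup (Fin n) F) : M) a a = 1 := by
      refine (f2_zero_or_one hF _).resolve_left ?_
      intro h0
      have hdet : det ((y : SpecialLinearGroup (Fin n) F) : M) = 0 := by
        refine det_eq_zero_of_row_eq_zero a ?_
        intro d
        by_cases hd : d = a
        · rw [hd]; exact h0
        · exact hrow d hd
      have h1 := (y : SpecialLinearGroup (Fin n) F).2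
      rw [hdet] at h1
      exact zero_ne_one h1
    rw [Matrix.sub_apply]
    by_cases hab : b = a
    · rw [hab, hdiag, one_apply_eq, sub_self]
    · rw [hrow b hab, one_apply_ne (Ne.symm hab), sub_self]
  exact gen_eq_pCore_of_selfCentralizing hQn hQp hQc

end Mat

end Cfsg.Agent.Lib.Techniques
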