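import Mathlib
import Cfsg.Agent.Lib.OddLocal.Coprime
import Cfsg.Agent.Lib.Transfer.Frobenius
import Cfsg.Agent.Lib.Techniques.QuadChief

/-! A `p'`-group acting nontrivially on a `p`-group acts nontrivially on an invariant subgroup of exponent `p`
(at most `4` for `p = 2`). -/

set_option autoImplicit false

namespace Cfsg.Agent.Lib.Techniques

open Cfsg Subgroup Cfsg.Agent.Lib.OddLocal
open scoped commutatorElement

variable {G : Type*} [Group G] [Finite G]

/-- The exponent reduction (Itô). -/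
theorem exists_small_subgroup {p : ℕ} [Fact p.Prime] {A : Subgroup G}
    (hcop : (Nat.card A).Coprime p) : ∀ D : Subgroup G, IsPGroup p D → A ≤ normalizer (D : Set G) →
    ¬ A ≤ centralizer (D : Set G) →
    ∃ U : Subgroup G, U ≤ D ∧ A ≤ normalizer (U : Set G) ∧ ¬ A ≤ centralizer (U : Set G) ∧
      ∀ x ∈ U, x ^ p = 1 ∨ (p = 2 ∧ x ^ 4 = 1) := by
  have hpp : p.Prime := Fact.out
  intro D
  induction' hn : Nat.card D using Nat.strong_induction_on with n ih generalizing D
  intro hD hAD hne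
  by_cases hsm : ∃ W : Subgroup G, W < D ∧ A ≤ normalizer (W : Set G) ∧ ¬ A ≤ centralizer (W : Set G)
  · obtain ⟨W, hW, hWn, hWc⟩ := hsm
    obtain ⟨U, hU, hrest⟩ := ih (Nat.card W) (hn ▸ Cfsg.Agent.Lib.Core.card_lt_card_of_lt hW) W rfl
      (hD.to_le hW.le) hWn hWc
    exact ⟨U, hU.trans hW.le, hrest⟩
  have hmin : ∀ W : Subgroup G, W < D → A ≤ normalizer (W : Set G) → A ≤ centralizer (W : Set G) := by
    intro W hW hAW
    by_contra hc
    exact hsm ⟨W, hW, hAW, hc⟩
  refine ⟨D, le_rfl, hAD, hne, ?_⟩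
  have hcopD := coprime_card_of_isPGroup hD hcop
  have hsolv := isSolvable_of_isPGroup hD
  have hfixT := Cfsg.Agent.Lib.Hall.commutator_commutator_eq A D hAD hcopD (Or.inr hsolv)
  have hTD : ⁅D, A⁆ ≤ D := Cfsg.Agent.Lib.Hall.commutator_le_of_normalizes hAD
  have hTn : A ≤ normalizer ((⁅D, A⁆ : Subgroup G) : Set G) :=
    Cfsg.Agent.Lib.Hall.le_normalizer_commutator_right hAD
  -- step 1
  have hT : ⁅D, A⁆ = D := by
    by_contra hTne
    have h1 := hmin _ (lt_of_le_of_ne hTD hTne) hTn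
    have h2 : ⁅⁅D, A⁆, A⁆ = ⊥ := comm_eq_bot_iff_le_centralizer'.mpr h1
    rw [hfixT] at h2
    exact hne (comm_eq_bot_iff_le_centralizer'.mp h2)
  have hD1 : D ≠ ⊥ := by
    rintro rfl
    apply hne
    rw [Subgroup.le_centralizer_iff]
    exact bot_le
  -- step 2: the Frattini subgroup
  haveI : Nontrivial D := (Subgroup.nontrivial_iff_ne_bot D).mpr hD1
  let Φ : Subgroup G := (frattini (↥D)).map D.subtype
  have hΦD : Φ ≤ D := by
    rintro _ ⟨x, -, rfl⟩
    exact x.2
  have hΦlt : Φ < D := by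
    refine lt_of_le_of_ne hΦD (fun h => ?_)
    have hD' : IsPGroup p ↥D := hD
    have : Group.IsNilpotent ↥D := hD'.isNilpotent
    have htop : frattini (↥D) = ⊤ := by
      rw [eq_top_iff]
      intro x _
      have hx : (x : G) ∈ Φ := by rw [h]; exact x.2
      obtain ⟨y, hy, hyx⟩ := hx
      have : y = x := Subtype.ext hyx
      rwa [← this]
    obtain ⟨M, hM⟩ : ∃ M : Subgroup D, IsCoatom M := by
      obtain h' | h' := eq_top_or_exists_le_coatom (⊥ : Subgroup D)
      · exact absurd h' bot_ne_top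
      · obtain ⟨M, hM, -⟩ := h'
        exact ⟨M, hM⟩
    have h1 : frattini (↥D) ≤ M := by
      intro x hx
      exact (Cfsg.Agent.Lib.Core.mem_frattini_iff.mp hx) M hM
    rw [htop] at h1
    exact hM.1 (top_le_iff.mp h1)
  have hΦchar : (frattini (↥D)).Characteristic := inferInstance
  have hAΦ : A ≤ normalizer (Φ : Set G) := hAD.trans
    (Cfsg.Agent.Lib.Hall.normalizer_le_normalizer_map_of_characteristic D (frattini (↥D)))
  have hDΦ : D ≤ normalizer (Φ : Set G) := Subgroup.le_normalizer.trans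
    (Cfsg.Agent.Lib.Hall.normalizer_le_normalizer_map_of_characteristic D (frattini (↥D)))
  have hAcΦ : A ≤ centralizer (Φ : Set G) := hmin Φ hΦlt hAΦ
  -- step 3
  have h3 : D ≤ centralizer (Φ : Set G) := by
    have h1 : ⁅⁅A, Φ⁆, D⁆ = ⊥ := by
      have : ⁅A, Φ⁆ = ⊥ := (Subgroup.commutator_eq_bot_iff_le_centralizer).mpr hAcΦ
      rw [this, Subgroup.commutator_bot_left]
    have h2 : ⁅⁅Φ, D⁆, A⁆ = ⊥ := by
      have h4 : ⁅Φ, A⁆ = ⊥ := comm_eq_bot_iff_le_centralizer'.mpr hAcΦ
      have h5 : ⁅Φ, D⁆ ≤ Φ := by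
        rw [Subgroup.commutator_le]
        intro c hc n hn
        have h := (Subgroup.mem_normalizer_iff.mp (hDΦ hn) c).mp hc
        have h2 : ⁅c, n⁆ = c * (n * c * n⁻¹)⁻¹ := by
          simp only [commutatorElement_def]
          group
        rw [h2]
        exact Φ.mul_mem hc (Φ.inv_mem h)
      exact le_bot_iff.mp ((Subgroup.commutator_mono h5 le_rfl).trans h4.le)
    have h6 : ⁅⁅D, A⁆, Φ⁆ = ⊥ := Subgroup.commutator_commutator_eq_bot_of_rotate h1 h2
    rw [hT] at h6
    exact (Subgroup.commutator_eq_bot_iff_le_centralizer).mp h6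
  -- powers and commutators lie in Φ
  have hpow : ∀ x ∈ D, x ^ p ∈ Φ := by
    intro x hx
    have hD' : IsPGroup p ↥D := hD
    have := Cfsg.Agent.Lib.Transfer.pow_mem_frattini hD' (⟨x, hx⟩ : D)
    exact ⟨_, this, rfl⟩
  have hcomm : ∀ x ∈ D, ∀ y ∈ D, ⁅x, y⁆ ∈ Φ := by
    intro x hx y hy
    have hD' : IsPGroup p ↥D := hD
    have := Cfsg.Agent.Lib.Transfer.commutator_le_frattini hD'
      (Subgroup.commutator_mem_commutator (mem_top (⟨x, hx⟩ : D)) (mem_top (⟨y, hy⟩ : D)))
    exact ⟨_, this, rfl⟩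
  have hcentral : ∀ z ∈ Φ, ∀ x ∈ D, Commute z x := fun z hz x hx =>
    (Subgroup.mem_centralizer_iff.mp (h3 hx) z hz)
  -- the exponent
  let e : ℕ := if p = 2 then 4 else p
  have hpe : ∃ k, e = p * k := by
    by_cases h2 : p = 2
    · exact ⟨2, by simp [e, h2]⟩
    · exact ⟨1, by simp [e, h2]⟩
  have hchoose : p ∣ e.choose 2 := by
    by_cases h2 : p = 2
    · subst h2
      have : e = 4 := by simp [e]
      rw [this]
      decide
    · have : e = p := by simp [e, h2]
      rw [this]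
      exact hpp.dvd_choose_self (by norm_num) (lt_of_le_of_ne hpp.two_le (Ne.symm h2))
  have hpowe : ∀ x ∈ D, x ^ e ∈ Φ := by
    intro x hx
    obtain ⟨k, hk⟩ := hpe
    rw [hk, pow_mul]
    exact pow_mem (hpow x hx) k
  have hcp : ∀ x ∈ D, ∀ y ∈ D, ⁅y, x⁆ ^ p = 1 := by
    intro x hx y hy
    have hcy : Commute ⁅y, x⁆ y := hcentral _ (hcomm y hy x hx) _ hy
    have h5 := Cfsg.Agent.Lib.Transfer.comm_pow_left (x := y) (y := x) hcy p
    rw [← h5]
    have h7 := hcentral _ (hpow y hy) _ hx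
    rw [commutatorElement_def, h7.eq]
    group
  have hmulpow : ∀ x ∈ D, ∀ y ∈ D, (x * y) ^ e = x ^ e * y ^ e := by
    intro x hx y hy
    have hcx : Commute ⁅y, x⁆ x := hcentral _ (hcomm y hy x hx) _ hx
    have hcy : Commute ⁅y, x⁆ y := hcentral _ (hcomm y hy x hx) _ hy
    have hform := Cfsg.Agent.Lib.Transfer.mul_pow_class2 hcx hcy e
    obtain ⟨k, hk⟩ := hchoose
    rw [hform, hk, pow_mul, hcp x hx y hy, one_pow, mul_one]
  -- the subgroup of elements of exponent `e`
  have hinvpow : ∀ x : G, x⁻¹ ^ e = (x ^ e)⁻¹ := fun x => inv_pow x e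
  let K : Subgroup G :=
    { carrier := {x | x ∈ D ∧ x ^ e = 1}
      mul_mem' := by
        rintro x y ⟨hx, hx1⟩ ⟨hy, hy1⟩
        refine ⟨D.mul_mem hx hy, ?_⟩
        rw [hmulpow x hx y hy, hx1, hy1, one_mul]
      one_mem' := ⟨D.one_mem, one_pow _⟩
      inv_mem' := by
        rintro x ⟨hx, hx1⟩
        refine ⟨D.inv_mem hx, ?_⟩
        rw [inv_pow, hx1, inv_one] }
  have hKD : K ≤ D := fun x hx => hx.1
  have hKn : A ≤ normalizer (K : Set G) := by
    intro a ha
    have han := hAD ha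
    rw [Subgroup.mem_normalizer_iff]
    intro x
    constructor
    · rintro ⟨hx, hx1⟩
      refine ⟨(Subgroup.mem_normalizer_iff.mp han x).mp hx, ?_⟩
      rw [conj_pow, hx1]
      group
    · rintro ⟨hx, hx1⟩
      refine ⟨(Subgroup.mem_normalizer_iff.mp han x).mpr hx, ?_⟩
      rw [conj_pow] at hx1
      have : x ^ e = a⁻¹ * (a * x ^ e * a⁻¹) * a := by group
      rw [this, hx1]
      group
  -- the commutators have exponent `e`
  have h4 : ∀ x ∈ D, ∀ a ∈ A, x⁻¹ * (a * x * a⁻¹) ∈ K := by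
    intro x hx a ha
    have hyD : a * x * a⁻¹ ∈ D := (Subgroup.mem_normalizer_iff.mp (hAD ha) x).mp hx
    refine ⟨D.mul_mem (D.inv_mem hx) hyD, ?_⟩
    rw [hmulpow _ (D.inv_mem hx) _ hyD, conj_pow, inv_pow]
    have h6 := Subgroup.mem_centralizer_iff.mp (hAcΦ ha) (x ^ e) (hpowe x hx)
    have h7 : a * x ^ e * a⁻¹ = x ^ e := by
      calc a * x ^ e * a⁻¹ = x ^ e * a * a⁻¹ := by rw [h6]
        _ = x ^ e := by group
    rw [h7]
    group
  -- `K = D`, or else `A` centralizes `D`
  have hKeq : K = D := by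
    by_contra hKne
    have hKc := hmin K (lt_of_le_of_ne hKD hKne) hKn
    have h5 : ⁅D, A⁆ ≤ centralizer (A : Set G) := by
      rw [Subgroup.commutator_le]
      intro x hx a ha
      have h6 := h4 x⁻¹ (D.inv_mem hx) a ha
      have h7 : ⁅x, a⁆ = x⁻¹⁻¹ * (a * x⁻¹ * a⁻¹) := by
        simp only [commutatorElement_def]
        group
      rw [h7]
      rw [Subgroup.mem_centralizer_iff]
      intro b hb
      have h8 := Subgroup.mem_centralizer_iff.mp (hKc hb) _ h6
      exact h8.symm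
    have h6 : ⁅⁅D, A⁆, A⁆ = ⊥ := (Subgroup.commutator_eq_bot_iff_le_centralizer).mpr h5
    rw [hfixT] at h6
    exact hne (comm_eq_bot_iff_le_centralizer'.mp h6)
  intro x hx
  have hx' : x ∈ K := hKeq ▸ hx
  have hx1 : x ^ e = 1 := hx'.2
  by_cases h2 : p = 2
  · right
    refine ⟨h2, ?_⟩
    have : e = 4 := by simp [e, h2]
    rwa [this] at hx1
  · left
    have : e = p := by simp [e, h2]
    rwa [this] at hx1

/-- Reduction of Frobenius' criterion to subgroups of small exponent. -/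
theorem frobeniusHyp_of_small {p : ℕ} [Fact p.Prime] {P : Subgroup G}
    (hP : IsPGroup p P)
    (h : ∀ U : Subgroup G, U ≤ P → ∀ g ∈ normalizer (U : Set G), Nat.Coprime (orderOf g) p →
      (∀ x ∈ U, x ^ p = 1 ∨ (p = 2 ∧ x ^ 4 = 1)) → g ∈ centralizer (U : Set G)) :
    Cfsg.Agent.Lib.Transfer.FrobeniusHyp p P := by
  intro Q hQ g hg hgc
  by_contra hcon
  have hA : (Nat.card (Subgroup.zpowers g)).Coprime p := by
    rw [Nat.card_zpowers]; exact hgc
  have hn : Subgroup.zpowers g ≤ normalizer (Q : Set G) := by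
    rw [Subgroup.zpowers_le]; exact hg
  have hc : ¬ Subgroup.zpowers g ≤ centralizer (Q : Set G) := by
    intro h'
    exact hcon (h' (Subgroup.mem_zpowers g))
  obtain ⟨U, hUQ, hUn, hUc, hUs⟩ := exists_small_subgroup hA Q (hP.to_le hQ) hn hc
  apply hUc
  rw [Subgroup.zpowers_le]
  exact h U (hUQ.trans hQ) g (hUn (Subgroup.mem_zpowers g)) hgc hUs

/-- An element acting trivially on the factors of a central-type chain on a `p`-group centralizes it. -/
theorem comm_of_chain {p : ℕ} [Fact p.Prime] {U : Subgroup G} (hU : IsPGroup p U) {g : G}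
    (hg : g ∈ normalizer (U : Set G)) (hgc : Nat.Coprime (orderOf g) p) (T : ℕ → Set G)
    (h0 : ∀ a ∈ T 0, a = 1)
    (hstep : ∀ i, ∀ a ∈ U, a ∈ T (i + 1) → ⁅g, a⁆ ∈ T i) :
    ∀ i, ∀ a ∈ U, a ∈ T i → g * a = a * g := by
  intro i
  induction i with
  | zero =>
    intro a _ ha
    rw [h0 a ha]; group
  | succ i ih =>
    intro a haU ha
    have hb := hstep i a haU ha
    have hbU : ⁅g, a⁆ ∈ U := by
      have e : ⁅g, a⁆ = (g * a * g⁻¹) * a⁻¹ := by
        simp only [commutatorElement_def]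
      rw [e]
      exact mul_mem ((Subgroup.mem_normalizer_iff.mp hg a).mp haU) (inv_mem haU)
    have hc := ih _ hbU hb
    have hp : ∃ n : ℕ, ⁅g, a⁆ ^ (p ^ n) = 1 := by
      obtain ⟨n, hn⟩ := hU ⟨_, hbU⟩
      exact ⟨n, by simpa using congrArg Subtype.val hn⟩
    have h1 := comm_eq_one_of_coprime hgc hp hc
    have h2 : g * a * g⁻¹ * a⁻¹ = 1 := by
      simpa [commutatorElement_def] using h1
    have h3 : g * a * g⁻¹ = a := mul_inv_eq_one.mp h2
    calc g * a = g * a * g⁻¹ * g := by group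
      _ = a * g := by rw [h3]

/-- An automorphism of order prime to `p` of a `p`-group fixing the elements of order `p`
(dividing `4` if `p = 2`) is trivial. -/
theorem aut_eq_one_of_small {X : Type*} [Group X] [Finite X] {p : ℕ} [Fact p.Prime] (hX : IsPGroup p X)
    (ψ : MulAut X) (hψ : (orderOf ψ).Coprime p)
    (hfix : ∀ g : X, (g ^ p = 1 ∨ (p = 2 ∧ g ^ 4 = 1)) → ψ g = g) : ψ = 1 := by
  classical
  let Γ := SemidirectProduct X (MulAut X) (MonoidHom.id (MulAut X))
  haveI : Finite (MulAut X) := inferInstance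
  haveI : Finite Γ := Finite.of_equiv _ (SemidirectProduct.equivProd (N := X) (G := MulAut X)
    (φ := MonoidHom.id (MulAut X))).symm
  let r : Γ := SemidirectProduct.inr ψ
  have hord : orderOf r = orderOf ψ :=
    orderOf_injective (SemidirectProduct.inr (N := X) (G := MulAut X) (φ := MonoidHom.id (MulAut X)))
      SemidirectProduct.inr_injective ψ
  let D : Subgroup Γ := (SemidirectProduct.inl (N := X) (G := MulAut X) (φ := MonoidHom.id (MulAut X))).range
  have hDp : IsPGroup p D := by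
    intro ⟨x, hx⟩
    obtain ⟨g, rfl⟩ := hx
    obtain ⟨k, hk⟩ := hX g
    refine ⟨k, ?_⟩
    apply Subtype.ext
    show (SemidirectProduct.inl g : Γ) ^ p ^ k = 1
    rw [← map_pow, hk, map_one]
  have hconj : ∀ g : X, r * SemidirectProduct.inl g * r⁻¹ = SemidirectProduct.inl (ψ g) := by
    intro g
    have h1 := (SemidirectProduct.inl_aut (N := X) (G := MulAut X) (φ := MonoidHom.id (MulAut X)) ψ g).symm
    have h2 : r⁻¹ = SemidirectProduct.inr ψ⁻¹ := (map_inv _ _).symm
    rw [h2]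
    exact h1
  have hrn : r ∈ normalizer (D : Set Γ) := by
    rw [Subgroup.mem_normalizer_iff]
    intro x
    constructor
    · rintro ⟨g, rfl⟩
      exact ⟨ψ g, (hconj g).symm⟩
    · rintro ⟨g, hg⟩
      refine ⟨ψ.symm g, ?_⟩
      have h1 := hconj (ψ.symm g)
      have h2 : ψ (ψ.symm g) = g := MulEquiv.apply_symm_apply ψ g
      rw [h2, hg] at h1
      have h3 : r * (SemidirectProduct.inl (ψ.symm g) : Γ) * r⁻¹ = r * x * r⁻¹ := h1
      have h4 : (SemidirectProduct.inl (ψ.symm g) : Γ) * r⁻¹ = x * r⁻¹ := by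
        simpa [mul_assoc] using h3
      simpa using h4
  have hA : (Nat.card (Subgroup.zpowers r)).Coprime p := by
    rw [Nat.card_zpowers, hord]; exact hψ
  have hn : Subgroup.zpowers r ≤ normalizer (D : Set Γ) := by
    rw [Subgroup.zpowers_le]; exact hrn
  have hc : Subgroup.zpowers r ≤ centralizer (D : Set Γ) := by
    by_contra hcon
    obtain ⟨U, hUD, hUn, hUc, hUs⟩ := exists_small_subgroup hA D hDp hn hcon
    apply hUc
    rw [Subgroup.zpowers_le]
    refine Subgroup.mem_centralizer_iff.2 fun u hu => ?_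
    obtain ⟨g, rfl⟩ := hUD hu
    have hinj := SemidirectProduct.inl_injective (N := X) (G := MulAut X) (φ := MonoidHom.id (MulAut X))
    have h1 : g ^ p = 1 ∨ (p = 2 ∧ g ^ 4 = 1) := by
      rcases hUs _ hu with h | ⟨h2, h⟩
      · left
        apply hinj
        rw [map_pow, h, map_one]
      · right
        refine ⟨h2, ?_⟩
        apply hinj
        rw [map_pow, h, map_one]
    have h2 := hconj g
    rw [hfix g h1] at h2
    have h3 : r * (SemidirectProduct.inl g : Γ) = SemidirectProduct.inl g * r := by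
      calc r * (SemidirectProduct.inl g : Γ) = r * SemidirectProduct.inl g * r⁻¹ * r :=
            (inv_mul_cancel_right _ r).symm
        _ = SemidirectProduct.inl g * r := by rw [h2]
    exact h3.symm
  apply MulEquiv.ext
  intro g
  have h1 := (Subgroup.mem_centralizer_iff.1 (hc (Subgroup.mem_zpowers r))) (SemidirectProduct.inl g) ⟨g, rfl⟩
  have h2 := hconj g
  have h3 : r * (SemidirectProduct.inl g : Γ) * r⁻¹ = SemidirectProduct.inl g := by
    rw [← h1]; exact mul_inv_cancel_right _ r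
  rw [h3] at h2
  exact (SemidirectProduct.inl_injective h2).symm

end Cfsg.Agent.Lib.Techniques
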