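import Cfsg.Agent.Lib.Techniques.NormChief
import Cfsg.Agent.Lib.Hall.CoprimeSylow
import Mathlib

/-! Groups with a maximal Sylow subgroup, `G/O_p(G)` `p`-nilpotent. -/

set_option autoImplicit false
set_option linter.style.haveILetI false

namespace Cfsg.Agent.Lib.Techniques

open Cfsg Cfsg.Agent.Lib.FrobThm
open scoped commutatorElement

universe u

section Stable

variable {Z : Type*} [Group Z] [Finite Z] {p : ℕ} [hp : Fact p.Prime]

/-- Groups of the class are `p`-stable for odd `p`. -/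
theorem stable_of_classA (hp2 : p ≠ 2) (h : ClassA p Z) : IsNormalizerPStable p Z := by
  classical
  intro P hP g hg hq
  set N : Subgroup Z := Subgroup.normalizer (P : Set Z) with hN
  set C' : Subgroup ↥N := (Subgroup.centralizer (P : Set Z)).subgroupOf N with hC'
  haveI hC'n : C'.Normal := by
    constructor
    intro n hn z
    refine Subgroup.mem_subgroupOf.2 ?_
    have hn' : (n : Z) ∈ Subgroup.centralizer (P : Set Z) := hn
    refine Subgroup.mem_centralizer_iff.2 fun a ha => ?_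
    have hz1 : (z : Z)⁻¹ * a * z ∈ P := by
      have := (Subgroup.mem_normalizer_iff.1 (N.inv_mem z.2) a).1 ha
      simpa using this
    have h1 := Subgroup.mem_centralizer_iff.1 hn' _ hz1
    show a * ((z * n * z⁻¹ : ↥N) : Z) = ((z * n * z⁻¹ : ↥N) : Z) * a
    push_cast
    have e1 : a = z * ((z : Z)⁻¹ * a * z) * (z : Z)⁻¹ := by group
    calc a * (z * n * (z : Z)⁻¹) = z * (((z : Z)⁻¹ * a * z) * n) * (z : Z)⁻¹ := by group
      _ = z * (n * ((z : Z)⁻¹ * a * z)) * (z : Z)⁻¹ := by rw [h1]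
      _ = _ := by group
  obtain ⟨A, B, hA, hB, hAp, hBB, hBq, hZ⟩ := h.sub N
  haveI := hA
  haveI := hB
  let mk : ↥N →* ↥N ⧸ C' := QuotientGroup.mk' C'
  have hmk : Function.Surjective mk := QuotientGroup.mk'_surjective C'
  let gh : ↥N := ⟨g, hg⟩
  set Pn : Subgroup ↥N := P.subgroupOf N with hPn
  haveI hPnn : Pn.Normal := by
    constructor
    intro a ha n
    refine Subgroup.mem_subgroupOf.2 ?_
    have h1 : (a : Z) ∈ P := ha
    exact (Subgroup.mem_normalizer_iff.1 n.2 a).1 h1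
  have hPnp : IsPGroup p Pn := isPGroup_subgroupOf Subgroup.le_normalizer hP
  have hmapP : Pn.map N.subtype = P := by
    rw [hPn, Subgroup.subgroupOf_map_subtype]
    exact inf_eq_left.2 Subgroup.le_normalizer
  have hz : (Subgroup.zpowers gh).map N.subtype = Subgroup.zpowers g := by
    rw [MonoidHom.map_zpowers]
    rfl
  have hquad : ⁅⁅Pn, Subgroup.zpowers gh⁆, Subgroup.zpowers gh⁆ = ⊥ := by
    apply Subgroup.map_injective N.subtype_injective
    rw [Subgroup.map_commutator, Subgroup.map_commutator, hmapP, hz, Subgroup.map_bot]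
    exact hq
  have hmkC : ∀ x : ↥N, (∀ a ∈ Pn, ⁅x, a⁆ = 1) → mk x = 1 := by
    intro x hx
    refine (QuotientGroup.eq_one_iff x).2 ?_
    refine Subgroup.mem_subgroupOf.2 (Subgroup.mem_centralizer_iff.2 fun a ha => ?_)
    have h1 := hx ⟨a, Subgroup.le_normalizer ha⟩ ha
    have h2 := commutatorElement_eq_one_iff_mul_comm.1 h1
    exact (congrArg Subtype.val h2).symm
  set y : ↥N ⧸ C' := mk gh with hy
  -- `y` is a `p`-element
  have hyp : ∃ k : ℕ, y ^ p ^ k = 1 := by
    obtain ⟨k, hk⟩ := exists_pow_coprime_order (p := p) gh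
    refine ⟨k, ?_⟩
    rw [hy, ← map_pow]
    refine hmkC _ fun a ha => ?_
    set x : ↥N := gh ^ p ^ k with hx
    have hxz : x ∈ Subgroup.zpowers gh := Subgroup.npow_mem_zpowers _ _
    have h1 : ⁅x, a⁆ ∈ Pn := by
      have e : ⁅x, a⁆ = (x * a * x⁻¹) * a⁻¹ := by simp [commutatorElement_def]
      rw [e]
      exact Pn.mul_mem (hPnn.conj_mem a ha x) (Pn.inv_mem ha)
    apply comm_eq_one_of_coprime hk
    · obtain ⟨n, hn⟩ := hPnp ⟨_, h1⟩
      exact ⟨n, by simpa using congrArg Subtype.val hn⟩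
    · have h2 : ⁅⁅a, x⁆, x⁆ ∈ ⁅⁅Pn, Subgroup.zpowers gh⁆, Subgroup.zpowers gh⁆ :=
        Subgroup.commutator_mem_commutator (Subgroup.commutator_mem_commutator ha hxz) hxz
      rw [hquad] at h2
      have h3 := commutatorElement_eq_one_iff_mul_comm.1 (Subgroup.mem_bot.1 h2)
      have e : ⁅x, a⁆ = ⁅a, x⁆⁻¹ := (commutatorElement_inv a x).symm
      rw [e]
      have h4 : x * ⁅a, x⁆ = ⁅a, x⁆ * x := h3.symm
      calc x * ⁅a, x⁆⁻¹ = ⁅a, x⁆⁻¹ * (⁅a, x⁆ * x) * ⁅a, x⁆⁻¹ := by group
        _ = ⁅a, x⁆⁻¹ * (x * ⁅a, x⁆) * ⁅a, x⁆⁻¹ := by rw [h4]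
        _ = ⁅a, x⁆⁻¹ * x := by group
  -- commutators with `B`
  have hcomm : ∀ b ∈ B.map mk, ⁅y, b⁆ ∈ A.map mk := by
    rintro _ ⟨b₀, hb₀, rfl⟩
    set c : ↥N := ⁅gh, b₀⁆ with hc
    have hcB : c ∈ B := by
      have e : c = (gh * b₀ * gh⁻¹) * b₀⁻¹ := by simp [hc, commutatorElement_def]
      rw [e]
      exact B.mul_mem (hB.conj_mem b₀ hb₀ gh) (B.inv_mem hb₀)
    have hp3 : 2 ≤ p - 1 := by
      have h1 := hp.out.two_le
      have h2 : p ≠ 2 := hp2
      omega
    have hchief : ∀ U V : Subgroup ↥N, IsChiefFactor U V → U ≤ Pn → ∀ u ∈ U, ⁅c, u⁆ ∈ V := by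
      intro U V hc' hU u hu
      haveI := hc'.2.1
      refine norm_chief hc' (hPnp.to_le hU) hAp hBB hBq ?_ b₀ hb₀ u hu
      refine (iterCommutator_anti hp3).trans ?_
      have h1 : iterCommutator U (Subgroup.zpowers gh) 2 ≤ ⁅⁅Pn, Subgroup.zpowers gh⁆, Subgroup.zpowers gh⁆ :=
        Subgroup.commutator_mono (Subgroup.commutator_mono hU le_rfl) le_rfl
      rw [hquad] at h1
      exact h1.trans bot_le
    obtain ⟨k, hk⟩ := exists_pow_coprime_order (p := p) c
    have h1 : (mk c) ^ p ^ k = 1 := by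
      rw [← map_pow]
      refine hmkC _ fun a ha => ?_
      have := chain_centralize hPnn hPnp hk (fun U V hc' hU u hu => ?_) a ha
      · exact this
      · haveI := hc'.2.2.1
        have hs : c ∈ stabS U V := ⟨by rw [Subgroup.normalizer_eq_top_iff.2 inferInstance]; trivial,
          hchief U V hc' hU⟩
        exact ((stabS U V).pow_mem hs _).2 u hu
    obtain ⟨m, hm, hcm⟩ := hBq c hcB
    have h2 : (mk c) ^ m ∈ A.map mk := ⟨c ^ m, hcm, map_pow _ _ _⟩
    have h3 := mem_of_pow_mem_of_pow_eq_one (Nat.Coprime.pow_right k hm) h2 h1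
    rwa [map_commutatorElement] at h3
  have hypz : IsPGroup p (Subgroup.zpowers y) := by
    obtain ⟨k, hk⟩ := hyp
    rintro ⟨_, n, rfl⟩
    refine ⟨k, Subtype.ext ?_⟩
    show (y ^ n) ^ p ^ k = 1
    rw [← zpow_natCast, ← zpow_mul, mul_comm, zpow_mul, zpow_natCast, hk, one_zpow]
  obtain ⟨T, hyT, hT⟩ := exists_sylowIn_ge (p := p) (le_top : Subgroup.zpowers y ≤ ⊤) hypz
  haveI hA' : (A.map mk).Normal := Subgroup.Normal.map hA mk hmk
  haveI hB' : (B.map mk).Normal := Subgroup.Normal.map hB mk hmk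
  refine mem_pCore_of_comm hT (hAp.map mk) ?_ (hyT (Subgroup.mem_zpowers y)) hcomm
  intro z
  obtain ⟨a, rfl⟩ := hmk z
  obtain ⟨k, hk⟩ := hZ a
  exact ⟨k, a ^ p ^ k, hk, map_pow _ _ _⟩

end Stable

section Coatom

variable {X : Type u} [Group X] [Finite X] {p : ℕ} [hp : Fact p.Prime]

/-- The preimage of the normal `p`-complement of `X/O_p(X)`. -/
def kerOf (hq : PNil p (⊤ : Subgroup (X ⧸ pCore p X))) : Subgroup X :=
  hq.ker.comap (QuotientGroup.mk' (pCore p X))

theorem mem_kerOf (hq : PNil p (⊤ : Subgroup (X ⧸ pCore p X))) {x : X} :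
    x ∈ kerOf hq ↔ (orderOf (QuotientGroup.mk' (pCore p X) x)).Coprime p := by
  show QuotientGroup.mk' (pCore p X) x ∈ hq.ker ↔ _
  rw [PNil.mem_ker]
  exact ⟨fun h => h.2, fun h => ⟨trivial, h⟩⟩

instance kerOf_normal (hq : PNil p (⊤ : Subgroup (X ⧸ pCore p X))) : (kerOf hq).Normal := by
  constructor
  intro n hn g
  rw [mem_kerOf] at hn ⊢
  rw [map_mul, map_mul, map_inv, orderOf_conj_eq]
  exact hn

theorem pCore_le_kerOf (hq : PNil p (⊤ : Subgroup (X ⧸ pCore p X))) : pCore p X ≤ kerOf hq := by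
  intro x hx
  rw [mem_kerOf]
  have h1 : QuotientGroup.mk' (pCore p X) x = 1 := (QuotientGroup.eq_one_iff x).2 hx
  rw [h1, orderOf_one]
  exact Nat.coprime_one_left p

theorem kerOf_pow (hq : PNil p (⊤ : Subgroup (X ⧸ pCore p X))) :
    ∀ b ∈ kerOf hq, ∃ m : ℕ, m.Coprime p ∧ b ^ m ∈ pCore p X := by
  intro b hb
  refine ⟨_, (mem_kerOf hq).1 hb, ?_⟩
  refine (QuotientGroup.eq_one_iff _).1 ?_
  have : QuotientGroup.mk' (pCore p X) (b ^ orderOf (QuotientGroup.mk' (pCore p X) b)) = 1 := by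
    rw [map_pow, pow_orderOf_eq_one]
  exact this

theorem kerOf_top (hq : PNil p (⊤ : Subgroup (X ⧸ pCore p X))) (z : X) : ∃ k : ℕ, z ^ p ^ k ∈ kerOf hq := by
  obtain ⟨k, hk⟩ := exists_pow_coprime_order (p := p) (QuotientGroup.mk' (pCore p X) z)
  refine ⟨k, ?_⟩
  rw [mem_kerOf, map_pow]
  exact hk

theorem sylow_inf_kerOf_le (hq : PNil p (⊤ : Subgroup (X ⧸ pCore p X))) {T : Subgroup X} (hT : IsPGroup p T) :
    T ⊓ kerOf hq ≤ pCore p X := by
  rintro s ⟨hs, hsK⟩
  have h1 := (mem_kerOf hq).1 hsK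
  obtain ⟨k, hk⟩ := hT ⟨s, hs⟩
  have h2 : s ^ p ^ k = 1 := by simpa using congrArg Subtype.val hk
  have h3 : (QuotientGroup.mk' (pCore p X) s) ^ p ^ k = 1 := by rw [← map_pow, h2, map_one]
  have h4 := Nat.Coprime.eq_one_of_dvd (Nat.Coprime.pow_right k h1) (orderOf_dvd_of_pow_eq_one h3)
  exact (QuotientGroup.eq_one_iff s).1 (orderOf_eq_one_iff.1 h4)

/-- `T`-invariant subgroups between `O_p(X)` and the preimage of the complement. -/
theorem coatom_invariant (hq : PNil p (⊤ : Subgroup (X ⧸ pCore p X))) (T : Sylow p X) (hco : IsCoatom (T : Subgroup X))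
    {M : Subgroup X} (hQM : pCore p X ≤ M) (hMK : M ≤ kerOf hq) (hTM : (T : Subgroup X) ≤ Subgroup.normalizer (M : Set X)) :
    M = pCore p X ∨ M = kerOf hq := by
  by_cases hle : M ≤ (T : Subgroup X)
  · left
    exact le_antisymm (le_trans (le_inf hle hMK) (sylow_inf_kerOf_le hq T.isPGroup')) hQM
  · right
    refine le_antisymm hMK fun k hk => ?_
    have hlt : (T : Subgroup X) < M ⊔ T := by
      refine lt_of_le_of_ne le_sup_right fun he => hle ?_
      rw [he]
      exact le_sup_left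
    have htop := hco.2 _ hlt
    obtain ⟨m, hm, t, ht, rfl⟩ := mem_sup_of_le_normalizer hTM (show k ∈ M ⊔ (T : Subgroup X) by rw [htop]; trivial)
    have h1 : t ∈ kerOf hq := by
      have e : t = m⁻¹ * (m * t) := by group
      rw [e]
      exact (kerOf hq).mul_mem ((kerOf hq).inv_mem (hMK hm)) hk
    exact M.mul_mem hm (hQM (sylow_inf_kerOf_le hq T.isPGroup' ⟨ht, h1⟩))

/-- The complement is abelian. -/
theorem coatom_abelian (hq : PNil p (⊤ : Subgroup (X ⧸ pCore p X))) (T : Sylow p X) (hco : IsCoatom (T : Subgroup X)) :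
    ⁅kerOf hq, kerOf hq⁆ ≤ pCore p X := by
  classical
  set Q : Subgroup X := pCore p X with hQ
  let π : X →* X ⧸ Q := QuotientGroup.mk' Q
  have hπ : Function.Surjective π := QuotientGroup.mk'_surjective Q
  have hker : π.ker = Q := QuotientGroup.ker_mk' Q
  set Kb : Subgroup (X ⧸ Q) := hq.ker with hKb
  haveI hKbn : Kb.Normal := PNil.ker_normal hq
  set Tb : Subgroup (X ⧸ Q) := (T : Subgroup X).map π with hTb
  have hTbp : IsPGroup p Tb := T.isPGroup'.map π
  have hinv : ∀ Mb : Subgroup (X ⧸ Q), Mb ≤ Kb → Tb ≤ Subgroup.normalizer (Mb : Set (X ⧸ Q)) → Mb = ⊥ ∨ Mb = Kb := by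
    intro Mb hMb hT
    have hQM : Q ≤ Mb.comap π := by
      intro x hx
      show π x ∈ Mb
      have : π x = 1 := by
        rw [← MonoidHom.mem_ker, hker]
        exact hx
      rw [this]
      exact Mb.one_mem
    have hMK : Mb.comap π ≤ kerOf hq := fun x hx => hMb hx
    have hTM : (T : Subgroup X) ≤ Subgroup.normalizer ((Mb.comap π : Subgroup X) : Set X) := fun t ht =>
      mem_normalizer_comap π (hT ⟨t, ht, rfl⟩)
    rcases coatom_invariant hq T hco hQM hMK hTM with h | h
    · left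
      rw [eq_bot_iff]
      intro x hx
      obtain ⟨a, rfl⟩ := hπ x
      have h1 : a ∈ Mb.comap π := hx
      rw [h] at h1
      refine Subgroup.mem_bot.2 ?_
      rw [← MonoidHom.mem_ker, hker]
      exact h1
    · right
      refine le_antisymm hMb fun x hx => ?_
      obtain ⟨a, rfl⟩ := hπ x
      have h1 : a ∈ kerOf hq := hx
      rw [← h] at h1
      exact h1
  have hcop : (Nat.card Kb).Coprime p := by
    have := PNil.ker_not_dvd hq
    exact ((Nat.Prime.coprime_iff_not_dvd hp.out).2 this).symm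
  suffices hab : ⁅Kb, Kb⁆ = ⊥ by
    rw [Subgroup.commutator_le]
    intro a ha b hb
    rw [← hker, MonoidHom.mem_ker, map_commutatorElement]
    have h1 : ⁅π a, π b⁆ ∈ ⁅Kb, Kb⁆ := Subgroup.commutator_mem_commutator ha hb
    rw [hab] at h1
    exact Subgroup.mem_bot.1 h1
  by_cases hK0 : Kb = ⊥
  · rw [hK0]
    exact Subgroup.commutator_bot_left ⊥
  have hcard1 : Nat.card Kb ≠ 1 := fun h => hK0 (Subgroup.eq_bot_of_card_eq _ h)
  obtain ⟨q, hqp, hqd⟩ := Nat.exists_prime_and_dvd hcard1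
  haveI : Fact q.Prime := ⟨hqp⟩
  have hTK : Tb ≤ Subgroup.normalizer (Kb : Set (X ⧸ Q)) := by
    rw [Subgroup.normalizer_eq_top_iff.2 hKbn]
    exact le_top
  have hcopTK : (Nat.card Tb).Coprime (Nat.card Kb) := by
    obtain ⟨e, he⟩ := IsPGroup.iff_card.1 hTbp
    rw [he]
    exact Nat.Coprime.pow_left e hcop.symm
  haveI : Group.IsNilpotent Tb := hTbp.isNilpotent
  obtain ⟨P, hP⟩ := Lib.Hall.exists_invariant_sylow Tb Kb hTK hcopTK (Or.inl inferInstance) q
  have hP0 : (P : Subgroup Kb).map Kb.subtype ≠ ⊥ := by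
    intro h0
    have h1 := (Subgroup.map_eq_bot_iff_of_injective _ Kb.subtype_injective).1 h0
    exact P.ne_bot_of_dvd_card hqd h1
  have hPK : (P : Subgroup Kb).map Kb.subtype = Kb :=
    (hinv _ (Subgroup.map_subtype_le _) hP).resolve_left hP0
  have hKq : IsPGroup q Kb := by
    rw [← hPK]
    exact P.isPGroup'.map _
  haveI : Nontrivial Kb := (Subgroup.nontrivial_iff_ne_bot Kb).2 hK0
  have hZ := hKq.center_nontrivial
  obtain ⟨z, hz⟩ := exists_ne (1 : Subgroup.center Kb)
  set Zb : Subgroup (X ⧸ Q) := Kb ⊓ Subgroup.centralizer (Kb : Set (X ⧸ Q)) with hZb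
  have hZbn : Zb.Normal := by
    haveI : (Subgroup.centralizer (Kb : Set (X ⧸ Q))).Normal := Subgroup.normal_centralizer
    exact inferInstance
  have hZ0 : Zb ≠ ⊥ := by
    intro h0
    apply hz
    apply Subtype.ext
    apply Subtype.ext
    have h1 : ((z : Kb) : X ⧸ Q) ∈ Zb := by
      refine ⟨(z : Kb).2, Subgroup.mem_centralizer_iff.2 fun a ha => ?_⟩
      have h2 := (Subgroup.mem_center_iff.1 z.2) ⟨a, ha⟩
      exact congrArg Subtype.val h2
    rw [h0] at h1
    exact Subgroup.mem_bot.1 h1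
  have hZK : Zb = Kb := (hinv Zb inf_le_left (by
    rw [Subgroup.normalizer_eq_top_iff.2 hZbn]
    exact le_top)).resolve_left hZ0
  rw [eq_bot_iff, Subgroup.commutator_le]
  intro a ha b hb
  have h1 : a ∈ Zb := by rw [hZK]; exact ha
  have h2 := Subgroup.mem_centralizer_iff.1 h1.2 b hb
  exact Subgroup.mem_bot.2 (commutatorElement_eq_one_iff_mul_comm.2 h2.symm)

/-- The group lies in the class. -/
theorem classA_of_coatom (hq : PNil p (⊤ : Subgroup (X ⧸ pCore p X))) (T : Sylow p X) (hco : IsCoatom (T : Subgroup X)) :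
    ClassA p X :=
  ⟨pCore p X, kerOf hq, Lib.Core.pCore_normal p X, inferInstance, Lib.Core.pCore_isPGroup p X,
    coatom_abelian hq T hco, kerOf_pow hq, kerOf_top hq⟩

/-- Under the constraint, `O_{p'}` is trivial. -/
theorem pPrimeCore_eq_bot_of_constrained (hC : Subgroup.centralizer ((pCore p X : Subgroup X) : Set X) ≤ pCore p X) :
    pPrimeCore p X = ⊥ := by
  set D : Subgroup X := pPrimeCore p X with hD
  set Q : Subgroup X := pCore p X with hQ
  haveI hDn : D.Normal := Lib.Core.pPrimeCore_normal p X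
  haveI hQn : Q.Normal := Lib.Core.pCore_normal p X
  have hDc : (Nat.card D).Coprime p := Lib.Core.pPrimeCore_coprime p X
  have hQp : IsPGroup p Q := Lib.Core.pCore_isPGroup p X
  rw [eq_bot_iff]
  intro d hd
  have h1 : d ∈ Subgroup.centralizer (Q : Set X) := by
    rw [Subgroup.mem_centralizer_iff]
    intro q hq
    have h2 : ⁅d, q⁆ ∈ D := by
      have e : ⁅d, q⁆ = d * (q * d⁻¹ * q⁻¹) := by simp [commutatorElement_def, mul_assoc]
      rw [e]
      exact D.mul_mem hd (hDn.conj_mem _ (D.inv_mem hd) q)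
    have h3 : ⁅d, q⁆ ∈ Q := by
      have e : ⁅d, q⁆ = (d * q * d⁻¹) * q⁻¹ := by simp [commutatorElement_def]
      rw [e]
      exact Q.mul_mem (hQn.conj_mem _ hq d) (Q.inv_mem hq)
    have h4 := eq_one_of_mem_isPGroup_of_mem_coprime hQp hDc h3 h2
    exact (commutatorElement_eq_one_iff_mul_comm.1 h4).symm
  exact Subgroup.mem_bot.2 (eq_one_of_mem_isPGroup_of_mem_coprime hQp hDc (hC h1) hd)

/-- Control of strong fusion forces the functor value to be normal. -/
theorem normal_of_control_coatom {W : ∀ (Q : Type u) [Group Q], Subgroup Q} (hW : IsCharPFunctor.{u} p W)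
    (hC : Subgroup.centralizer ((pCore p X : Subgroup X) : Set X) ≤ pCore p X) (T : Sylow p X)
    (hco : IsCoatom (T : Subgroup X)) (hctl : ControlsStrongFusion p (inducedFunctor W (T : Subgroup X))) :
    (inducedFunctor W (T : Subgroup X)).Normal := by
  classical
  set U : Subgroup X := inducedFunctor W (T : Subgroup X) with hU
  have hTN : (T : Subgroup X) ≤ Subgroup.normalizer (U : Set X) := le_normW hW T.isPGroup'
  by_cases hNT : Subgroup.normalizer (U : Set X) ≤ (T : Subgroup X)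
  · exfalso
    obtain ⟨T', -, hctrl⟩ := hctl
    have frob : Lib.Transfer.FrobeniusHyp p (T' : Subgroup X) := by
      intro Q hQ g hg hgc
      obtain ⟨-, hf⟩ := hctrl (Q : Set X) hQ
      obtain ⟨x, hx, hxa⟩ := hf g (by
        rintro _ ⟨a, ha, rfl⟩
        exact hQ ((Subgroup.mem_normalizer_iff.1 hg a).1 ha))
      obtain ⟨k, hk⟩ := T.isPGroup' ⟨x, hNT hx⟩
      have hk' : x ^ p ^ k = 1 := by simpa using congrArg Subtype.val hk
      have hpow : ∀ (n : ℕ), ∀ a ∈ Q, g ^ n * a * (g ^ n)⁻¹ = x ^ n * a * (x ^ n)⁻¹ := by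
        intro n
        induction n with
        | zero => intro a _; simp
        | succ n ih =>
          intro a ha
          have h1 : g ^ n * a * (g ^ n)⁻¹ ∈ Q := by
            have : g ^ n ∈ Subgroup.normalizer (Q : Set X) := Subgroup.pow_mem _ hg n
            exact (Subgroup.mem_normalizer_iff.1 this a).1 ha
          have h2 := hxa _ h1
          rw [ih a ha] at h2
          calc g ^ (n + 1) * a * (g ^ (n + 1))⁻¹ = g * (g ^ n * a * (g ^ n)⁻¹) * g⁻¹ := by
                rw [pow_succ']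
                group
            _ = g * (x ^ n * a * (x ^ n)⁻¹) * g⁻¹ := by rw [ih a ha]
            _ = x * (x ^ n * a * (x ^ n)⁻¹) * x⁻¹ := h2
            _ = _ := by
                rw [pow_succ']
                group
      have h3 : g ^ p ^ k ∈ Subgroup.centralizer (Q : Set X) := by
        rw [Subgroup.mem_centralizer_iff]
        intro a ha
        have h4 := hpow (p ^ k) a ha
        rw [hk'] at h4
        simp only [one_mul, inv_one, mul_one] at h4
        calc a * g ^ p ^ k = (g ^ p ^ k * a * (g ^ p ^ k)⁻¹) * g ^ p ^ k := by rw [h4]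
          _ = _ := by group
      refine mem_of_pow_mem_of_pow_eq_one (a := p ^ k) (b := orderOf g) ?_ h3 (pow_orderOf_eq_one g)
      exact (Nat.Coprime.pow_right k hgc).symm
    obtain ⟨N₁, hN₁, hc⟩ := Lib.Transfer.frobenius T' frob
    haveI := hN₁
    have hcop : (Nat.card N₁).Coprime p := Lib.Transfer.complement_card_coprime hc
    have hle := Lib.Core.le_pPrimeCore hN₁ hcop
    rw [pPrimeCore_eq_bot_of_constrained hC, le_bot_iff] at hle
    have htop : (T' : Subgroup X) = ⊤ := by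
      have := hc.sup_eq_top
      rwa [hle, bot_sup_eq] at this
    have hXp : IsPGroup p (⊤ : Subgroup X) := by
      rw [← htop]
      exact T'.isPGroup'
    have hTtop : (⊤ : Subgroup X) = (T : Subgroup X) := T.is_maximal' hXp le_top
    exact hco.1 hTtop.symm
  · have hlt : (T : Subgroup X) < Subgroup.normalizer (U : Set X) := lt_of_le_not_ge hTN hNT
    exact Subgroup.normalizer_eq_top_iff.1 (hco.2 _ hlt)

/-- There is no element with a small minimal polynomial on a chief factor in the maximal situation. -/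
theorem no_chief_of_coatom (hq : PNil p (⊤ : Subgroup (X ⧸ pCore p X))) (T : Sylow p X) (hco : IsCoatom (T : Subgroup X))
    {g : X} (hgT : g ∈ (T : Subgroup X)) (hgQ : g ∉ pCore p X) {U V : Subgroup X} (hc : IsChiefFactor U V)
    (hUQ : U ≤ pCore p X) (hit : iterCommutator U (Subgroup.zpowers g) (p - 1) ≤ V)
    (hnm : ¬ ⁅U, Subgroup.zpowers g⁆ ≤ V) : False := by
  classical
  set Q : Subgroup X := pCore p X with hQ
  set K : Subgroup X := kerOf hq with hK
  haveI hQn : Q.Normal := Lib.Core.pCore_normal p X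
  have hQp : IsPGroup p Q := Lib.Core.pCore_isPGroup p X
  haveI hUn : U.Normal := hc.2.1
  haveI hVn : V.Normal := hc.2.2.1
  haveI hKn : K.Normal := kerOf_normal hq
  have hUp : IsPGroup p U := hQp.to_le hUQ
  have hmain := norm_chief hc hUp (A := Q) (B := K) hQp (coatom_abelian hq T hco) (kerOf_pow hq) hit
  have hNV : ∀ x : X, x ∈ Subgroup.normalizer (V : Set X) := by
    intro x
    rw [Subgroup.normalizer_eq_top_iff.2 hVn]
    trivial
  have hQstab : Q ≤ stabS U V := fun q hq' => ⟨hNV q, fun u hu =>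
    (commutator_le_of_chief hQp hc hUQ) (Subgroup.commutator_mem_commutator hq' hu)⟩
  haveI hSn : (stabS U V).Normal := by
    constructor
    rintro y ⟨-, hy⟩ x
    refine ⟨hNV _, fun u hu => ?_⟩
    have e : ⁅x * y * x⁻¹, u⁆ = x * ⁅y, x⁻¹ * u * x⁆ * x⁻¹ := by
      simp only [commutatorElement_def]
      group
    rw [e]
    apply hVn.conj_mem
    apply hy
    have := hUn.conj_mem u hu x⁻¹
    simpa using this
  haveI hMn : (stabS U V ⊓ K).Normal := inferInstance
  have hTM : (T : Subgroup X) ≤ Subgroup.normalizer ((stabS U V ⊓ K : Subgroup X) : Set X) := by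
    rw [Subgroup.normalizer_eq_top_iff.2 hMn]
    exact le_top
  rcases coatom_invariant hq T hco (le_inf hQstab (pCore_le_kerOf hq)) inf_le_right hTM with hM | hM
  · -- `g` centralizes `K` modulo `Q`
    apply hgQ
    refine mem_pCore_of_comm (sylowIn_top_of_sylow T) hQp (kerOf_top hq) hgT ?_
    intro b hb
    have h1 : ⁅g, b⁆ ∈ K := by
      have e : ⁅g, b⁆ = (g * b * g⁻¹) * b⁻¹ := by simp [commutatorElement_def]
      rw [e]
      exact K.mul_mem (hKn.conj_mem b hb g) (K.inv_mem hb)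
    have h2 : ⁅g, b⁆ ∈ stabS U V ⊓ K := ⟨⟨hNV _, hmain b hb⟩, h1⟩
    rw [hM] at h2
    exact h2
  · -- `K` acts trivially
    have hKstab : K ≤ stabS U V := by
      intro k hk
      have h0 : k ∈ stabS U V ⊓ kerOf hq := by
        rw [hM]
        exact hk
      exact h0.1
    have hUT : U ≤ (T : Subgroup X) := hUQ.trans (pCore_le_of_sylowIn (sylowIn_top_of_sylow T))
    set W : Subgroup X := ⁅U, (T : Subgroup X)⁆ ⊔ V with hW
    have hq' : IsPGroup p (X ⧸ K) := by
      intro z
      obtain ⟨a, rfl⟩ := QuotientGroup.mk_surjective z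
      obtain ⟨k, hk⟩ := kerOf_top hq a
      refine ⟨k, ?_⟩
      rw [← QuotientGroup.mk_pow]
      exact (QuotientGroup.eq_one_iff _).2 hk
    have hsup := sylow_sup_of_quotient K hq' T
    have hWU : W ≤ U := sup_le (Subgroup.commutator_le_left _ _) hc.1.le
    have hWt : ∀ t ∈ (T : Subgroup X), conjS t W = W := by
      intro t ht
      have e1 : conjS t ⁅U, (T : Subgroup X)⁆ = ⁅U, (T : Subgroup X)⁆ := by
        show (⁅U, (T : Subgroup X)⁆).map _ = _
        rw [Subgroup.map_commutator]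
        have e2 : U.map (MulAut.conj t).toMonoidHom = U := conjS_of_normal t U
        have e3 : (T : Subgroup X).map (MulAut.conj t).toMonoidHom = (T : Subgroup X) := conjS_eq_of_mem ht
        rw [e2, e3]
      show (⁅U, (T : Subgroup X)⁆ ⊔ V).map _ = _
      rw [Subgroup.map_sup]
      have e4 : (⁅U, (T : Subgroup X)⁆).map (MulAut.conj t).toMonoidHom = ⁅U, (T : Subgroup X)⁆ := e1
      have e5 : V.map (MulAut.conj t).toMonoidHom = V := conjS_of_normal t V
      rw [e4, e5]
    haveI hWn : W.Normal := by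
      constructor
      intro w hw x
      have hx : x ∈ (T : Subgroup X) ⊔ K := by rw [hsup]; trivial
      obtain ⟨t, ht, k, hk, rfl⟩ := Subgroup.mem_sup_of_normal_right.1 hx
      have h1 : k * w * k⁻¹ ∈ W := by
        have e : k * w * k⁻¹ = ⁅k, w⁆ * w := by
          simp only [commutatorElement_def]
          group
        rw [e]
        exact W.mul_mem (Subgroup.mem_sup_right ((hKstab hk).2 w (hWU hw))) hw
      have h2 : t * (k * w * k⁻¹) * t⁻¹ ∈ conjS t W := conj_mem_conjS h1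
      rw [hWt t ht] at h2
      have e : t * k * w * (t * k)⁻¹ = t * (k * w * k⁻¹) * t⁻¹ := by group
      rw [e]
      exact h2
    rcases hc.2.2.2 W hWn le_sup_right hWU with h | h
    · apply hnm
      have h1 : ⁅U, (T : Subgroup X)⁆ ≤ V := by
        rw [← h]
        exact le_sup_left
      refine (Subgroup.commutator_mono le_rfl ?_).trans h1
      exact (Subgroup.zpowers_le).2 hgT
    · -- nilpotency
      apply hc.1.not_ge
      let mk : X →* X ⧸ V := QuotientGroup.mk' V
      have hnil : Group.IsNilpotent ((T : Subgroup X).map mk) := (T.isPGroup'.map mk).isNilpotent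
      have h1 : U.map mk ≤ ⁅U.map mk, (T : Subgroup X).map mk⁆ := by
        rw [← Subgroup.map_commutator]
        intro x hx
        obtain ⟨u, hu, rfl⟩ := hx
        rw [← h] at hu
        obtain ⟨a, ha, v, hv, rfl⟩ := Subgroup.mem_sup_of_normal_right.1 hu
        refine ⟨a, ha, ?_⟩
        have : mk v = 1 := (QuotientGroup.eq_one_iff v).2 hv
        rw [map_mul, this, mul_one]
      have h2 := Lib.Transfer.eq_bot_of_le_commutator hnil (Subgroup.map_mono hUT) h1
      intro u hu
      have h3 : mk u ∈ U.map mk := ⟨u, hu, rfl⟩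
      rw [h2] at h3
      exact (QuotientGroup.eq_one_iff u).1 h3

end Coatom

end Cfsg.Agent.Lib.Techniques
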