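import Cfsg.Agent.Lib.FrobThm.S4Free
import Cfsg.Agent.Lib.FStar.Hyperplane
import Cfsg.Agent.Lib.Techniques.CentricRadical
import Cfsg.Agent.Lib.Core.Batch
import Cfsg.Agent.Lib.Cl.OddLength
import Mathlib

/-! Solvable groups not involving `S₄`, with Sylow `2`-subgroups of class at most `2`. -/

set_option autoImplicit false
set_option linter.style.haveILetI false

namespace Cfsg.Agent.Lib.Techniques

open Cfsg Cfsg.Agent.Lib.FrobThm Cfsg.Agent.Lib.FrobThm.Rel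
open scoped commutatorElement

universe u

section config

variable {G : Type u} [Group G] [Finite G]

/-- The final configuration: a hyperplane of a member of `𝒜(P)`, centralizing an element of odd
prime power order modulo `D` which moves `Ω₁Z(D)`, with the rest inverting it, gives `S₄`. -/
theorem involves_of_hyperplane {P : Sylow 2 G} {D : Subgroup G} [hDn : D.Normal] (hDP : D ≤ (P : Subgroup G))
    {A : Subgroup G} (hA : A ∈ AA 2 (P : Subgroup G)) (Bb : Subgroup (G ⧸ D))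
    {a₁ r₀ : G} (ha₁ : a₁ ∈ A) {q k : ℕ} (hq : q.Prime) (hq2 : q ≠ 2) (hr₀q : r₀ ^ (q ^ k) = 1)
    (hdich : ∀ x ∈ A, (QuotientGroup.mk' D) x ∈ Bb ∨ (QuotientGroup.mk' D) a₁ * (QuotientGroup.mk' D) x ∈ Bb)
    (hBr₀ : ∀ b ∈ A, (QuotientGroup.mk' D) b ∈ Bb → (QuotientGroup.mk' D) b * (QuotientGroup.mk' D) r₀ = (QuotientGroup.mk' D) r₀ * (QuotientGroup.mk' D) b)
    (har : (QuotientGroup.mk' D) a₁ * (QuotientGroup.mk' D) r₀ = ((QuotientGroup.mk' D) r₀)⁻¹ * (QuotientGroup.mk' D) a₁)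
    (hr₀V : r₀ ∉ Subgroup.centralizer ((OmegaZ 2 D : Subgroup G) : Set G)) :
    Involves (Equiv.Perm (Fin 4)) G := by
  classical
  haveI : Fact q.Prime := ⟨hq⟩
  let V : Subgroup G := OmegaZ 2 D
  have hVc : ∀ a ∈ V, ∀ b ∈ V, a * b = b * a := (EA_OmegaZ 2 D).1
  have hVe : ∀ v ∈ V, v * v = 1 := fun v hv => by rw [← pow_two]; exact hv.2.2
  haveI hVn : V.Normal := OmegaZ_normal 2 D
  have hVP : V ≤ (P : Subgroup G) := fun v hv => hDP hv.1
  have hDV : ∀ d ∈ D, ∀ v ∈ V, d * v = v * d := fun d hd v hv =>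
    Subgroup.mem_centralizer_iff.1 hv.2.1 d hd
  have hVeA : EA 2 V := EA_OmegaZ 2 D
  let f : G →* G ⧸ D := QuotientGroup.mk' D
  have hfD : ∀ x, f x = 1 ↔ x ∈ D := fun x => QuotientGroup.eq_one_iff x
  have hconj : ∀ x y : G, f x = f y → ∀ v ∈ V, x * v * x⁻¹ = y * v * y⁻¹ := by
    intro x y hxy v hv
    have hd : y⁻¹ * x ∈ D := by
      rw [← hfD, map_mul, map_inv, hxy, inv_mul_cancel]
    have h1 := hDV _ hd v hv
    calc x * v * x⁻¹ = y * ((y⁻¹ * x) * v) * (y⁻¹ * x)⁻¹ * y⁻¹ := by group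
      _ = y * (v * (y⁻¹ * x)) * (y⁻¹ * x)⁻¹ * y⁻¹ := by rw [h1]
      _ = y * v * y⁻¹ := by group
  have hAcomm : ∀ x ∈ A, ∀ y ∈ A, f x * f y = f y * f x := by
    intro x hx y hy
    rw [← map_mul, ← map_mul, hA.2.1.1 x hx y hy]
  let B : Subgroup G := A ⊓ Bb.comap f
  have hBA' : B ≤ A := inf_le_left
  have hBr : ∀ b ∈ B, f b * f r₀ = f r₀ * f b := fun b hb => hBr₀ b hb.1 hb.2
  have hAB : Nat.card A ≤ 2 * Nat.card B := by
    have hstep : ∀ x : A, (x : G) ∉ B → a₁ * (x : G) ∈ B := by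
      intro x hx
      rcases hdich x x.2 with h1 | h1
      · exact absurd ⟨x.2, h1⟩ hx
      · refine ⟨A.mul_mem ha₁ x.2, ?_⟩
        show f (a₁ * x) ∈ Bb
        rw [map_mul]
        exact h1
    let g : A → Bool × B := fun x =>
      if hx : (x : G) ∈ B then (true, ⟨x, hx⟩) else (false, ⟨a₁ * x, hstep x hx⟩)
    have hg : Function.Injective g := by
      intro x y hxy
      by_cases hx : (x : G) ∈ B <;> by_cases hy : (y : G) ∈ B <;> simp only [g, hx, hy, dif_pos, dif_neg,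
        not_false_eq_true, Prod.mk.injEq, Subtype.mk.injEq] at hxy
      · exact Subtype.ext hxy.2
      · simp at hxy
      · simp at hxy
      · exact Subtype.ext (mul_left_cancel hxy.2)
    have h1 := Nat.card_le_card_of_injective g hg
    rwa [Nat.card_prod, Nat.card_eq_fintype_card (α := Bool), Fintype.card_bool] at h1
  let V1 : Subgroup G := V ⊓ Subgroup.centralizer (B : Set G)
  let CA : Subgroup G := V ⊓ Subgroup.centralizer (A : Set G)
  have hV1g : ∀ g : G, (∀ b ∈ B, f b * f g = f g * f b) → ∀ v ∈ V1, g * v * g⁻¹ ∈ V1 := by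
    intro g hg v hv
    refine ⟨hVn.conj_mem v hv.1 g, ?_⟩
    show g * v * g⁻¹ ∈ Subgroup.centralizer (B : Set G)
    rw [Subgroup.mem_centralizer_iff]
    intro b hb
    have h1 := hconj (b * g) (g * b) (by rw [map_mul, map_mul]; exact hg b hb) v hv.1
    have h2 : b * v = v * b := Subgroup.mem_centralizer_iff.1 hv.2 b hb
    have h3 : b * (g * v * g⁻¹) * b⁻¹ = g * v * g⁻¹ := by
      calc b * (g * v * g⁻¹) * b⁻¹ = (b * g) * v * (b * g)⁻¹ := by group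
        _ = (g * b) * v * (g * b)⁻¹ := h1
        _ = g * (b * v) * b⁻¹ * g⁻¹ := by group
        _ = g * (v * b) * b⁻¹ * g⁻¹ := by rw [h2]
        _ = g * v * g⁻¹ := by group
    rw [mul_inv_eq_iff_eq_mul] at h3
    exact h3
  have hV1CA : Nat.card V1 ≤ 2 * Nat.card CA := by
    have hcomm : ∀ v ∈ V1, ∀ b ∈ B, v * b = b * v := fun v hv b hb =>
      (Subgroup.mem_centralizer_iff.1 hv.2 b hb).symm
    have hEA := EA.sup (hVeA.mono inf_le_left) (hA.2.1.mono hBA') hcomm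
    have hle : V1 ⊔ B ≤ (P : Subgroup G) := sup_le (inf_le_left.trans hVP) (hBA'.trans hA.1)
    have h4 := hA.2.2 _ hle hEA
    have h5 := card_sup_mul_inf (le_normalizer_of_commute hcomm)
    have h6 : B ⊓ V1 ≤ CA := by
      rintro x ⟨hxB, hxV⟩
      refine ⟨hxV.1, ?_⟩
      show x ∈ Subgroup.centralizer (A : Set G)
      rw [Subgroup.mem_centralizer_iff]
      intro y hy
      exact hA.2.1.1 y hy x (hBA' hxB)
    have h7 : Nat.card (B ⊓ V1 : Subgroup G) ≤ Nat.card CA := Subgroup.card_le_of_le h6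
    have hposB : 0 < Nat.card B := Nat.card_pos
    apply Nat.le_of_mul_le_mul_right _ hposB
    calc Nat.card V1 * Nat.card B = Nat.card (V1 ⊔ B : Subgroup G) * Nat.card (B ⊓ V1 : Subgroup G) := h5.symm
      _ ≤ (2 * Nat.card B) * Nat.card CA := Nat.mul_le_mul (h4.trans hAB) h7
      _ = 2 * Nat.card CA * Nat.card B := by ring
  have hqodd : Odd (q ^ k) := (hq.odd_of_ne_two hq2).pow
  have hV1c : ∀ a ∈ V1, ∀ b ∈ V1, a * b = b * a := fun a ha b hb => hVc a ha.1 b hb.1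
  have hVr₀ : ∀ v ∈ V, r₀ * v * r₀⁻¹ ∈ V := fun v hv => hVn.conj_mem v hv r₀
  obtain ⟨t, ht, htr⟩ : ∃ t ∈ V1, r₀ * t * r₀⁻¹ ≠ t := by
    let W₀ : Subgroup G := commImage r₀ V hVc hVr₀
    have hW₀ne : ∃ v ∈ V, r₀ * v * r₀⁻¹ * v⁻¹ ≠ 1 := by
      by_contra hcon2
      push Not at hcon2
      apply hr₀V
      rw [Subgroup.mem_centralizer_iff]
      intro v hv
      have h1 := hcon2 v hv
      rw [mul_inv_eq_one, mul_inv_eq_iff_eq_mul] at h1
      exact h1.symm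
    obtain ⟨v₀, hv₀, hne⟩ := hW₀ne
    have hBW₀ : ∀ b ∈ B, ∀ w ∈ W₀, b * w * b⁻¹ ∈ W₀ := by
      rintro b hb _ ⟨v, hv, rfl⟩
      refine ⟨b * v * b⁻¹, hVn.conj_mem v hv b, ?_⟩
      have h1 := hconj (b * r₀) (r₀ * b) (by rw [map_mul, map_mul]; exact hBr b hb) v hv
      calc b * (r₀ * v * r₀⁻¹ * v⁻¹) * b⁻¹ = (b * r₀) * v * (b * r₀)⁻¹ * (b * v * b⁻¹)⁻¹ := by group
        _ = (r₀ * b) * v * (r₀ * b)⁻¹ * (b * v * b⁻¹)⁻¹ := by rw [h1]
        _ = _ := by group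
    have hB2 : IsPGroup 2 B := P.isPGroup'.to_le (hBA'.trans hA.1)
    letI act : MulAction B W₀ :=
      { smul := fun b w => ⟨(b : G) * w * (b : G)⁻¹, hBW₀ b b.2 w w.2⟩
        one_smul := by
          intro w
          apply Subtype.ext
          show ((1 : B) : G) * w * ((1 : B) : G)⁻¹ = w
          simp
        mul_smul := by
          intro b b' w
          apply Subtype.ext
          show ((b * b' : B) : G) * w * ((b * b' : B) : G)⁻¹ = (b : G) * ((b' : G) * w * (b' : G)⁻¹) * (b : G)⁻¹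
          simp [mul_assoc] }
    have hW₀e : ∀ w ∈ W₀, w * w = 1 := fun w hw => hVe w (commImage_le hw)
    have hW₀2 : IsPGroup 2 W₀ := by
      intro x
      refine ⟨1, ?_⟩
      apply Subtype.ext
      show ((x : G)) ^ 2 ^ 1 = 1
      rw [pow_one, pow_two]
      exact hW₀e _ x.2
    have h2card : 2 ∣ Nat.card W₀ := by
      refine (hW₀2.card_eq_or_dvd).resolve_left fun h1 => hne ?_
      have h2 : W₀ = ⊥ := Subgroup.card_eq_one.1 h1
      have h3 : r₀ * v₀ * r₀⁻¹ * v₀⁻¹ ∈ W₀ := ⟨v₀, hv₀, rfl⟩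
      rw [h2, Subgroup.mem_bot] at h3
      exact h3
    have hfix1 : (1 : W₀) ∈ MulAction.fixedPoints B W₀ := by
      intro b
      apply Subtype.ext
      show (b : G) * ((1 : W₀) : G) * (b : G)⁻¹ = ((1 : W₀) : G)
      simp
    obtain ⟨t, htf, htne⟩ := hB2.exists_fixed_point_of_prime_dvd_card_of_fixed_point W₀ h2card hfix1
    have ht1 : (t : G) ≠ 1 := fun h1 => htne (Subtype.ext h1.symm)
    refine ⟨t, ⟨commImage_le t.2, ?_⟩, fun h1 => ht1 (commImage_fpf hVe hqodd hr₀q t.2 h1)⟩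
    show (t : G) ∈ Subgroup.centralizer (B : Set G)
    rw [Subgroup.mem_centralizer_iff]
    intro b hb
    have h2 : (b : G) * t * (b : G)⁻¹ = t := congrArg Subtype.val (htf ⟨b, hb⟩)
    rw [mul_inv_eq_iff_eq_mul] at h2
    exact h2
  obtain ⟨W, hWV1, hW4, hWr, hWa, hWf, w₁, hw₁, hw₁a⟩ := exists_klein (V1 := V1) (CA := CA) (r := r₀)
    (a := a₁) hqodd hr₀q hV1c (fun x hx => hVe x hx.1)
    (hV1g r₀ fun b hb => hBr b hb)
    (fun v hv => by
      have h1 := hV1g r₀⁻¹ (fun b hb => by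
        rw [map_inv, eq_comm, inv_mul_eq_iff_eq_mul, ← mul_assoc, ← hBr b hb, mul_assoc, mul_inv_cancel,
          mul_one]) v hv
      simpa using h1)
    (hV1g a₁ fun b hb => hAcomm b (hBA' hb) a₁ ha₁)
    (fun v hv => by
      have h1 := hconj (a₁ * r₀) (r₀⁻¹ * a₁) (by rw [map_mul, map_mul, map_inv]; exact har) v hv.1
      calc a₁ * (r₀ * v * r₀⁻¹) * a₁⁻¹ = (a₁ * r₀) * v * (a₁ * r₀)⁻¹ := by group
        _ = (r₀⁻¹ * a₁) * v * (r₀⁻¹ * a₁)⁻¹ := h1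
        _ = _ := by group)
    (fun c hc => ⟨hc.1, Subgroup.centralizer_le hBA' hc.2⟩)
    (fun v hv => by
      have h1 : a₁ * v = v * a₁ := Subgroup.mem_centralizer_iff.1 hv.2 a₁ ha₁
      rw [h1]; group)
    hV1CA ht htr
  have hWV : W ≤ V := hWV1.trans inf_le_left
  have hWe : ∀ x ∈ W, x * x = 1 := fun x hx => hVe x (hWV hx)
  let Y : Subgroup G := Subgroup.zpowers r₀
  have hYq : IsPGroup q Y := by
    have h1 : orderOf r₀ ∣ q ^ k := orderOf_dvd_of_pow_eq_one hr₀q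
    obtain ⟨l, _, hl⟩ := (Nat.dvd_prime_pow hq).1 h1
    exact IsPGroup.of_card (n := l) (by rw [Nat.card_zpowers]; exact hl)
  have hDp : IsPGroup 2 D := P.isPGroup'.to_le hDP
  have hDq : ¬ q ∣ Nat.card D := by
    obtain ⟨j, hj⟩ := IsPGroup.iff_card.1 hDp
    rw [hj]
    intro hd
    exact hq2 ((Nat.prime_dvd_prime_iff_eq hq Nat.prime_two).1 (hq.dvd_of_dvd_pow hd))
  have hx : (QuotientGroup.mk' D) a₁ ∈
      Subgroup.normalizer ((Y.map (QuotientGroup.mk' D) : Subgroup (G ⧸ D)) : Set (G ⧸ D)) := by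
    apply mem_normalizer_of_forall_conj_mem
    rintro _ ⟨y, hy, rfl⟩
    obtain ⟨i, rfl⟩ := Subgroup.mem_zpowers_iff.1 hy
    refine ⟨r₀ ^ (-i), Subgroup.zpow_mem _ (Subgroup.mem_zpowers r₀) _, ?_⟩
    have h2 : f a₁ * f r₀ * (f a₁)⁻¹ = (f r₀)⁻¹ := by
      show f a₁ * f r₀ * (f a₁)⁻¹ = (f r₀)⁻¹
      have : f a₁ * f r₀ = (f r₀)⁻¹ * f a₁ := har
      rw [this]; group
    show f (r₀ ^ (-i)) = f a₁ * f (r₀ ^ i) * (f a₁)⁻¹
    rw [map_zpow, map_zpow, ← conj_zpow, h2]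
    simp
  obtain ⟨d, hd, hzY⟩ := frattini_descent hDq hYq hx
  let z : G := d * a₁
  have hfz : f z = f a₁ := by
    show f (d * a₁) = f a₁
    rw [map_mul, (hfD d).2 hd, one_mul]
  have hzP : z ∈ (P : Subgroup G) := mul_mem (hDP hd) (hA.1 ha₁)
  obtain ⟨j, hj⟩ := P.isPGroup' ⟨z, hzP⟩
  have hzj : z ^ 2 ^ j = 1 := by simpa using congrArg Subtype.val hj
  have hzV : ∀ v ∈ V, z * v * z⁻¹ = a₁ * v * a₁⁻¹ := hconj z a₁ hfz
  have hzYle : Subgroup.zpowers z ≤ Subgroup.normalizer (Y : Set G) := by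
    rw [Subgroup.zpowers_le]; exact hzY
  let H : Subgroup G := Subgroup.zpowers z ⊔ Y
  have hzH : z ∈ H := Subgroup.mem_sup_left (Subgroup.mem_zpowers z)
  have hr₀H : r₀ ∈ H := Subgroup.mem_sup_right (Subgroup.mem_zpowers r₀)
  have hHW : H ≤ Subgroup.normalizer (W : Set G) := by
    apply sup_le
    · rw [Subgroup.zpowers_le]
      apply mem_normalizer_of_forall_conj_mem
      intro w hw
      rw [hzV w (hWV hw)]
      exact hWa w hw
    · rw [Subgroup.zpowers_le]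
      apply mem_normalizer_of_forall_conj_mem
      exact hWr
  have hW2 : ¬ q ∣ Nat.card W := by
    rw [hW4, show (4 : ℕ) = 2 ^ 2 by norm_num]
    intro hd2
    exact hq2 ((Nat.prime_dvd_prime_iff_eq hq Nat.prime_two).1 (hq.dvd_of_dvd_pow hd2))
  have hWY : W ⊓ Y = ⊥ := inf_eq_bot_of_pprime hW2 hYq
  have hYz : Y ⊓ Subgroup.zpowers z = ⊥ := by
    rw [inf_comm]
    refine inf_eq_bot_of_pprime ?_ hYq
    rw [Nat.card_zpowers]
    intro hd2
    have h1 : orderOf z ∣ 2 ^ j := orderOf_dvd_of_pow_eq_one hzj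
    exact hq2 ((Nat.prime_dvd_prime_iff_eq hq Nat.prime_two).1 (hq.dvd_of_dvd_pow (hd2.trans h1)))
  have hWH : W ⊓ H = ⊥ := by
    rw [eq_bot_iff]
    intro x hx'
    rw [Subgroup.mem_bot]
    by_contra hx1
    have hrx : r₀ * x * r₀⁻¹ ∈ W ⊓ H :=
      ⟨hWr x hx'.1, H.mul_mem (H.mul_mem hr₀H hx'.2) (H.inv_mem hr₀H)⟩
    have hne1 : r₀ * x * r₀⁻¹ ≠ x := fun h3 => hx1 (hWf x hx'.1 h3)
    have hne2 : r₀ * x * r₀⁻¹ ≠ 1 := by
      intro h3
      apply hx1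
      have e1 : x = r₀⁻¹ * (r₀ * x * r₀⁻¹) * r₀ := by group
      rw [e1, h3]
      group
    have h3 := three_le_card (W := W ⊓ H) (one_mem _) hx' hrx (Ne.symm hx1) (Ne.symm hne2) (Ne.symm hne1)
    have hdvd : Nat.card (W ⊓ H : Subgroup G) ∣ 4 := by
      rw [← hW4]; exact Subgroup.card_dvd_of_le inf_le_left
    have h4 : Nat.card (W ⊓ H : Subgroup G) = 4 := by
      have h5 := Nat.le_of_dvd (by norm_num) hdvd
      generalize Nat.card (W ⊓ H : Subgroup G) = m at *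
      have h6 : m = 3 ∨ m = 4 := by omega
      rcases h6 with rfl | rfl
      · norm_num at hdvd
      · rfl
    have hWle : W ≤ H := by
      have h5 : W ⊓ H = W := Subgroup.eq_of_le_of_card_ge inf_le_left (by omega)
      exact inf_eq_left.1 h5
    exact not_le_sup_of_klein hzYle hYz hWY hWe (by omega) hWle
  refine involves_S4_of_config hW4 hHW hWH hq hq2 (u := r₀) (v := z) hr₀H hr₀q ?_ hzH hzj ?_
  · have hw1 : ∃ w ∈ W, w ≠ 1 := by
      by_contra hcon2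
      push Not at hcon2
      have h1 : W = ⊥ := by
        rw [eq_bot_iff]
        intro w hw
        exact hcon2 w hw
      rw [h1, Subgroup.card_bot] at hW4
      omega
    obtain ⟨w, hw, hw1⟩ := hw1
    intro hc
    apply hw1
    apply hWf w hw
    have := Subgroup.mem_centralizer_iff.1 hc w hw
    rw [← this]
    group
  · intro hc
    apply hw₁a
    rw [← hzV w₁ (hWV hw₁)]
    have := Subgroup.mem_centralizer_iff.1 hc w₁ hw₁
    rw [← this]
    group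

end config

section main

variable {X : Type u} [Group X] [Finite X]

open Cfsg.Agent.Lib.Core in
/-- With `O_{2'}(X) = 1`, every member of `𝒜(P)` lies in `O₂(X)`. -/
theorem AA_le_of_class_two [Group.IsSolvable X] (hO : pPrimeCore 2 X = ⊥)
    (hinv : ¬ Involves (Equiv.Perm (Fin 4)) X) (P : Sylow 2 X)
    (hcl : Subgroup.lowerCentralSeries (P : Subgroup X) 2 = ⊥) :
    ∀ A ∈ AA 2 (P : Subgroup X), A ≤ pCore 2 X := by
  classical
  intro A hA
  by_contra hAD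
  obtain ⟨x₀, hx₀, hx₀D⟩ := SetLike.not_le_iff_exists.1 hAD
  obtain ⟨D, hDd⟩ : ∃ D : Subgroup X, D = pCore 2 X := ⟨_, rfl⟩
  rw [← hDd] at hx₀D
  haveI hDn : D.Normal := by
    rw [hDd]
    exact pCore_normal 2 X
  have hDP : D ≤ (P : Subgroup X) := by
    rw [hDd]
    exact pCore_le_sylow P
  have hC : Subgroup.centralizer (D : Set X) ≤ D := by
    rw [hDd]
    exact centralizer_pCore_le 2 hO
  have hDp : IsPGroup 2 D := P.isPGroup'.to_le hDP
  let f : X →* X ⧸ D := QuotientGroup.mk' D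
  have hfD : ∀ x, f x = 1 ↔ x ∈ D := fun x => QuotientGroup.eq_one_iff x
  have hfs : Function.Surjective f := QuotientGroup.mk'_surjective D
  obtain ⟨F, hFd⟩ : ∃ F : Subgroup (X ⧸ D), F = pPrimeCore 2 (X ⧸ D) := ⟨_, rfl⟩
  haveI hFn : F.Normal := by
    rw [hFd]
    exact pPrimeCore_normal 2 _
  have hFc : (Nat.card F).Coprime 2 := by
    rw [hFd]
    exact pPrimeCore_coprime 2 _
  have hF2 : ¬ 2 ∣ Nat.card F := (Nat.Prime.coprime_iff_not_dvd Nat.prime_two).1 hFc.symm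
  have hCF : Subgroup.centralizer (F : Set (X ⧸ D)) ≤ F := by
    rw [hFd]
    refine Cfsg.Agent.Lib.Cl.centralizer_pPrimeCore_le inferInstance 2 ?_
    subst hDd
    exact pCore_quotient_pCore_eq_bot
  let Ab : Subgroup (X ⧸ D) := A.map f
  have hAbp : IsPGroup 2 Ab := (P.isPGroup'.to_le hA.1).map f
  have hAbc : ∀ a ∈ Ab, ∀ b ∈ Ab, a * b = b * a := (hA.2.1.map f).1
  have hAbe : ∀ a ∈ Ab, a ^ 2 = 1 := (hA.2.1.map f).2
  have hAbE : IsElementaryAbelian 2 Ab := ⟨⟨⟨fun x y => Subtype.ext (hAbc x x.2 y y.2)⟩⟩, hAbe⟩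
  have hAF : ∀ a ∈ Ab, ∀ x ∈ F, a * x * a⁻¹ ∈ F := fun a _ x hx => hFn.conj_mem x hx a
  have hgen := Cfsg.Agent.Lib.FStar.le_hyperGen (p := 2) hAbE hF2 hAF
  obtain ⟨B₀, hB₀, s₁, hs₁, hs₁C, α, hα, hne⟩ : ∃ B₀ : Subgroup (X ⧸ D), (B₀ ≤ Ab ∧ B₀.relIndex Ab ≤ 2) ∧
      ∃ s₁ ∈ F, s₁ ∈ Subgroup.centralizer (B₀ : Set (X ⧸ D)) ∧ ∃ α ∈ Ab, α * s₁ ≠ s₁ * α := by
    by_contra hcon
    push Not at hcon
    have h1 : Cfsg.Agent.Lib.FStar.hyperGen 2 Ab F ≤ Subgroup.centralizer (Ab : Set (X ⧸ D)) := by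
      refine iSup_le fun B => ?_
      rintro s ⟨hs, hsC⟩
      rw [Subgroup.mem_centralizer_iff]
      intro a ha
      exact hcon B.1 B.2 s hs hsC a ha
    have h2 : F ≤ Subgroup.centralizer (Ab : Set (X ⧸ D)) := hgen.trans h1
    have h3 : f x₀ ∈ Ab := ⟨x₀, hx₀, rfl⟩
    have h4 : f x₀ ∈ Subgroup.centralizer (F : Set (X ⧸ D)) := by
      rw [Subgroup.mem_centralizer_iff]
      intro s hs
      exact (Subgroup.mem_centralizer_iff.1 (h2 hs) _ h3).symm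
    have h5 := eq_one_of_mem_isPGroup_of_mem_coprime hAbp hFc h3 (hCF h4)
    exact hx₀D ((hfD _).1 h5)
  obtain ⟨a₁, ha₁, rfl⟩ := hα
  obtain ⟨ŝ, rfl⟩ := hfs s₁
  -- the commutator
  obtain ⟨c, hc⟩ : ∃ c : X, c = ŝ⁻¹ * a₁ * ŝ * a₁⁻¹ := ⟨_, rfl⟩
  have hfc : f c = (f ŝ)⁻¹ * f a₁ * f ŝ * (f a₁)⁻¹ := by
    rw [hc]
    simp only [map_mul, map_inv]
  have hαinv : (f a₁)⁻¹ = f a₁ := by
    have h1 := hAbe _ ⟨a₁, ha₁, rfl⟩
    rw [pow_two] at h1
    exact inv_eq_of_mul_eq_one_left h1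
  have hσ1 : f c ≠ 1 := by
    intro h
    apply hne
    rw [hfc] at h
    have h2 : f a₁ * f ŝ * (f a₁)⁻¹ = f ŝ := by
      have e : f a₁ * f ŝ * (f a₁)⁻¹ = f ŝ * ((f ŝ)⁻¹ * f a₁ * f ŝ * (f a₁)⁻¹) := by group
      rw [e, h, mul_one]
    rw [mul_inv_eq_iff_eq_mul] at h2
    exact h2
  have hσF : f c ∈ F := by
    rw [hfc]
    have e : (f ŝ)⁻¹ * f a₁ * f ŝ * (f a₁)⁻¹ = (f ŝ)⁻¹ * (f a₁ * f ŝ * (f a₁)⁻¹) := by group
    rw [e]
    exact F.mul_mem (F.inv_mem hs₁) (hFn.conj_mem _ hs₁ _)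
  have hασ : f a₁ * f c * (f a₁)⁻¹ = (f c)⁻¹ := by
    rw [hfc]
    have h2 : f a₁ * f a₁ = 1 := by
      have h1 := hAbe _ ⟨a₁, ha₁, rfl⟩
      rwa [pow_two] at h1
    calc f a₁ * ((f ŝ)⁻¹ * f a₁ * f ŝ * (f a₁)⁻¹) * (f a₁)⁻¹ = f a₁ * (f ŝ)⁻¹ * f a₁ * f ŝ * (f a₁ * f a₁)⁻¹ := by group
      _ = f a₁ * (f ŝ)⁻¹ * f a₁ * f ŝ := by rw [h2, inv_one, mul_one]
      _ = f a₁ * (f ŝ)⁻¹ * (f a₁)⁻¹ * f ŝ := by rw [hαinv]
      _ = _ := by group
  have hBσ : ∀ b ∈ B₀, b * f c = f c * b := by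
    intro b hb
    have h1 : b * f ŝ = f ŝ * b := Subgroup.mem_centralizer_iff.1 hs₁C b hb
    have h2 : b * f a₁ = f a₁ * b := hAbc b (hB₀.1 hb) _ ⟨a₁, ha₁, rfl⟩
    have h3 : Commute b (f ŝ) := h1
    have h4 : Commute b (f a₁) := h2
    rw [hfc]
    exact (((h3.inv_right.mul_right h4).mul_right h3).mul_right h4.inv_right).eq
  -- an element of prime power order
  have hoddord : (orderOf (f c)).Coprime 2 := by
    have h1 : orderOf (⟨f c, hσF⟩ : F) ∣ Nat.card F := orderOf_dvd_natCard _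
    rw [Subgroup.orderOf_mk] at h1
    exact Nat.Coprime.coprime_dvd_left h1 hFc
  have hne1 : orderOf (f c) ≠ 1 := by
    rw [Ne, orderOf_eq_one_iff]
    exact hσ1
  obtain ⟨q, hq⟩ : ∃ q : ℕ, q = (orderOf (f c)).minFac := ⟨_, rfl⟩
  have hqp : q.Prime := hq ▸ Nat.minFac_prime hne1
  have hqd : q ∣ orderOf (f c) := hq ▸ Nat.minFac_dvd _
  have hq2 : q ≠ 2 := by
    intro h2
    have h3 : 2 ∣ orderOf (f c) := h2 ▸ hqd
    exact (Nat.Prime.coprime_iff_not_dvd Nat.prime_two).1 hoddord.symm h3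
  have hN0 : orderOf c ≠ 0 := (orderOf_pos c).ne'
  obtain ⟨k, M, hqM, hNk⟩ := Nat.exists_eq_pow_mul_and_not_dvd hN0 q hqp.ne_one
  obtain ⟨r₀, hr₀⟩ : ∃ r₀ : X, r₀ = c ^ M := ⟨_, rfl⟩
  have hr₀q : r₀ ^ (q ^ k) = 1 := by
    rw [hr₀, ← pow_mul, mul_comm, ← hNk, pow_orderOf_eq_one]
  have hfr₀ : f r₀ = f c ^ M := by
    rw [hr₀, map_pow]
  have hfr : f r₀ ≠ 1 := by
    intro h1
    rw [hfr₀] at h1
    exact hqM (hqd.trans (orderOf_dvd_of_pow_eq_one h1))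
  have hBr₀ : ∀ b ∈ A, f b ∈ B₀ → f b * f r₀ = f r₀ * f b := by
    intro b _ hb
    rw [hfr₀]
    have h1 : Commute (f b) (f c) := hBσ _ hb
    exact (h1.pow_right M).eq
  have har : f a₁ * f r₀ = (f r₀)⁻¹ * f a₁ := by
    have h2 : f a₁ * f r₀ * (f a₁)⁻¹ = (f r₀)⁻¹ := by
      rw [hfr₀, ← conj_pow, hασ, inv_pow]
    rw [mul_inv_eq_iff_eq_mul] at h2
    exact h2
  -- the dichotomy
  have hαB : f a₁ ∉ B₀ := fun h => hne (Subgroup.mem_centralizer_iff.1 hs₁C _ h)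
  have hidx : (B₀.subgroupOf Ab).index = 2 := by
    have h1 : (B₀.subgroupOf Ab).index ≤ 2 := hB₀.2
    have h2 : (B₀.subgroupOf Ab).index ≠ 0 := Subgroup.index_ne_zero_of_finite
    have h3 : (B₀.subgroupOf Ab).index ≠ 1 := by
      intro h
      rw [Subgroup.index_eq_one] at h
      have h4 : (⟨f a₁, ⟨a₁, ha₁, rfl⟩⟩ : Ab) ∈ B₀.subgroupOf Ab := by
        rw [h]
        trivial
      exact hαB (Subgroup.mem_subgroupOf.1 h4)
    omega
  have hdich : ∀ x ∈ A, f x ∈ B₀ ∨ f a₁ * f x ∈ B₀ := by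
    intro x hx
    by_cases h : f x ∈ B₀
    · exact Or.inl h
    · right
      have h1 := Subgroup.mul_mem_iff_of_index_two hidx (a := (⟨f a₁, ⟨a₁, ha₁, rfl⟩⟩ : Ab)) (b := (⟨f x, ⟨x, hx, rfl⟩⟩ : Ab))
      have h2 : (⟨f a₁, ⟨a₁, ha₁, rfl⟩⟩ : Ab) * (⟨f x, ⟨x, hx, rfl⟩⟩ : Ab) ∈ B₀.subgroupOf Ab := by
        rw [h1]
        constructor
        · intro h3
          exact absurd (Subgroup.mem_subgroupOf.1 h3) hαB
        · intro h3
          exact absurd (Subgroup.mem_subgroupOf.1 h3) h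
      exact Subgroup.mem_subgroupOf.1 h2
  -- `r₀` moves `Ω₁Z(D)`
  have hr₀V : r₀ ∉ Subgroup.centralizer ((OmegaZ 2 D : Subgroup X) : Set X) := by
    intro hr₀C
    -- the centralizer of `D/Z(D)`
    obtain ⟨ZD, hZD⟩ : ∃ ZD : Subgroup X, ZD = D ⊓ Subgroup.centralizer (D : Set X) := ⟨_, rfl⟩
    have hZDn : ∀ z ∈ ZD, ∀ g : X, g * z * g⁻¹ ∈ ZD := by
      intro z hz g
      rw [hZD] at hz ⊢
      refine ⟨hDn.conj_mem z hz.1 g, Subgroup.mem_centralizer_iff.2 fun y hy => ?_⟩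
      have h1 := Subgroup.mem_centralizer_iff.1 hz.2 _ (hDn.conj_mem y hy g⁻¹)
      have h2 : g⁻¹ * y * g⁻¹⁻¹ * z = z * (g⁻¹ * y * g⁻¹⁻¹) := h1
      calc y * (g * z * g⁻¹) = g * (g⁻¹ * y * g⁻¹⁻¹ * z) * g⁻¹ := by group
        _ = g * (z * (g⁻¹ * y * g⁻¹⁻¹)) * g⁻¹ := by rw [h2]
        _ = g * z * g⁻¹ * y := by group
    let E : Subgroup X :=
      { carrier := {g | ∀ d ∈ D, g * d * g⁻¹ * d⁻¹ ∈ ZD}
        mul_mem' := by
          intro a b ha hb d hd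
          have h1 := hZDn _ (hb d hd) a
          have e : a * b * d * (a * b)⁻¹ * d⁻¹ = (a * (b * d * b⁻¹ * d⁻¹) * a⁻¹) * (a * d * a⁻¹ * d⁻¹) := by group
          rw [e]
          exact ZD.mul_mem h1 (ha d hd)
        one_mem' := fun d _ => by simp
        inv_mem' := by
          intro a ha d hd
          have hd' : a⁻¹ * d * a⁻¹⁻¹ ∈ D := hDn.conj_mem d hd a⁻¹
          have h1 := ZD.inv_mem (ha _ hd')
          have e : a⁻¹ * d * a⁻¹⁻¹ * d⁻¹ = (a * (a⁻¹ * d * a⁻¹⁻¹) * a⁻¹ * (a⁻¹ * d * a⁻¹⁻¹)⁻¹)⁻¹ := by group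
          rw [e]
          exact h1 }
    have hEn : ∀ g ∈ E, ∀ x : X, x * g * x⁻¹ ∈ E := by
      intro g hg x d hd
      have hd' : x⁻¹ * d * x⁻¹⁻¹ ∈ D := hDn.conj_mem d hd x⁻¹
      have h1 := hZDn _ (hg _ hd') x
      have e : x * g * x⁻¹ * d * (x * g * x⁻¹)⁻¹ * d⁻¹ = x * (g * (x⁻¹ * d * x⁻¹⁻¹) * g⁻¹ * (x⁻¹ * d * x⁻¹⁻¹)⁻¹) * x⁻¹ := by group
      rw [e]
      exact h1
    have haE : a₁ ∈ E := by
      intro d hd
      have h1 : a₁ * d * a₁⁻¹ * d⁻¹ ∈ D := D.mul_mem (hDn.conj_mem d hd a₁) (D.inv_mem hd)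
      rw [hZD]
      refine ⟨h1, Subgroup.mem_centralizer_iff.2 fun d' hd' => ?_⟩
      have h2 : ⁅⁅a₁, d⁆, d'⁆ ∈ Subgroup.lowerCentralSeries (P : Subgroup X) 2 :=
        Subgroup.commutator_mem_commutator (Subgroup.commutator_mem_commutator (hA.1 ha₁) (hDP hd)) (hDP hd')
      rw [hcl, Subgroup.mem_bot, commutatorElement_eq_one_iff_commute] at h2
      have h3 : ⁅a₁, d⁆ = a₁ * d * a₁⁻¹ * d⁻¹ := rfl
      rw [h3] at h2
      exact h2.eq.symm
    have hcE : c ∈ E := by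
      rw [hc]
      have e : ŝ⁻¹ * a₁ * ŝ * a₁⁻¹ = (ŝ⁻¹ * a₁ * ŝ⁻¹⁻¹) * a₁⁻¹ := by group
      rw [e]
      exact E.mul_mem (hEn _ haE _) (E.inv_mem haE)
    have hr₀E : r₀ ∈ E := by
      rw [hr₀]
      exact E.pow_mem hcE M
    have hcoq : (orderOf r₀).Coprime 2 := by
      have h1 : orderOf r₀ ∣ q ^ k := orderOf_dvd_of_pow_eq_one hr₀q
      refine Nat.Coprime.coprime_dvd_left h1 (Nat.Coprime.pow_left k ?_)
      exact (Nat.coprime_primes hqp Nat.prime_two).2 hq2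
    -- `r₀` fixes `Z(D)`
    have hZfix : ∀ z ∈ ZD, r₀ * z * r₀⁻¹ = z := by
      intro z hz
      have hzD : z ∈ D := by
        rw [hZD] at hz
        exact hz.1
      obtain ⟨j, hj⟩ := hDp ⟨z, hzD⟩
      have hj' : z ^ 2 ^ j = 1 := congrArg Subtype.val hj
      refine centralize_of_omega (p := 2) (Z := ZD) (m := q ^ k) ?_ (fun z hz => hZDn z hz r₀) ?_
        (Nat.Coprime.pow_left k ((Nat.coprime_primes hqp Nat.prime_two).2 hq2)) ?_ j z hz hj'
      · intro a ha b hb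
        rw [hZD] at ha hb
        exact Subgroup.mem_centralizer_iff.1 hb.2 a ha.1
      · intro v hv hv2
        rw [hZD] at hv
        have h1 := Subgroup.mem_centralizer_iff.1 hr₀C v ⟨hv.1, hv.2, hv2⟩
        rw [← h1]
        group
      · intro z _
        rw [hr₀q]
        simp
    have hr₀D : r₀ ∈ D := by
      refine hC (Subgroup.mem_centralizer_iff.2 fun d hd => ?_)
      have h1 : ⁅r₀, d⁆ ∈ ZD := hr₀E d hd
      have h2 := hZfix _ h1
      have h3 : ⁅r₀, d⁆ = 1 := by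
        refine Cfsg.Agent.Lib.Techniques.comm_eq_one_of_coprime (p := 2) hcoq ?_ ?_
        · have hzD : ⁅r₀, d⁆ ∈ D := by
            rw [hZD] at h1
            exact h1.1
          obtain ⟨j, hj⟩ := hDp ⟨_, hzD⟩
          exact ⟨j, congrArg Subtype.val hj⟩
        · rw [mul_inv_eq_iff_eq_mul] at h2
          exact h2
      rw [commutatorElement_eq_one_iff_commute] at h3
      exact h3.eq.symm
    exact hfr ((hfD _).2 hr₀D)
  exact hinv (involves_of_hyperplane hDP hA B₀ ha₁ hqp hq2 hr₀q hdich hBr₀ har hr₀V)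

open Cfsg.Agent.Lib.Core in
theorem normalizer_JJ_eq_top_of_class_two [Group.IsSolvable X] (hO : pPrimeCore 2 X = ⊥)
    (hinv : ¬ Involves (Equiv.Perm (Fin 4)) X) (P : Sylow 2 X)
    (hcl : Subgroup.lowerCentralSeries (P : Subgroup X) 2 = ⊥) :
    Subgroup.normalizer (JJ 2 (P : Subgroup X) : Set X) = ⊤ := by
  have hle := AA_le_of_class_two hO hinv P hcl
  haveI hDn : (pCore 2 X).Normal := pCore_normal 2 X
  have hDP : pCore 2 X ≤ (P : Subgroup X) := pCore_le_sylow P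
  have hsets : AA 2 (P : Subgroup X) = AA 2 (pCore 2 X) := by
    ext A
    constructor
    · intro hA
      exact ⟨hle A hA, hA.2.1, fun B hB hBe => hA.2.2 B (hB.trans hDP) hBe⟩
    · intro hA
      obtain ⟨A₁, hA₁⟩ := exists_mem_AA 2 (P : Subgroup X)
      refine ⟨hA.1.trans hDP, hA.2.1, fun B hB hBe => ?_⟩
      exact (hA₁.2.2 B hB hBe).trans (hA.2.2 A₁ (hle A₁ hA₁) hA₁.2.1)
  have : JJ 2 (P : Subgroup X) = JJ 2 (pCore 2 X) := by
    unfold JJ
    rw [hsets]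
  rw [this]
  exact normalizer_JJ_eq_top _

end main

section top

variable {G : Type u} [Group G] [Finite G]

open Cfsg.Agent.Lib.Core in
/-- **The theorem.** -/
theorem class_two_main [Group.IsSolvable G] (hS4 : ¬ Involves (Equiv.Perm (Fin 4)) G) (S : Sylow 2 G)
    (hcl : Subgroup.lowerCentralSeries (S : Subgroup G) 2 = ⊥) :
    Subgroup.normalizer ((thompsonSubgroupOf 2 (S : Subgroup G)) : Set G) ⊔ pPrimeCore 2 G = ⊤ := by
  classical
  rw [thompsonSubgroupOf_eq_JJ]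
  obtain ⟨N₀, hN₀⟩ : ∃ N₀ : Subgroup G, N₀ = pPrimeCore 2 G := ⟨_, rfl⟩
  rw [← hN₀]
  haveI hNn : N₀.Normal := by
    rw [hN₀]
    exact pPrimeCore_normal 2 G
  have hNc : (Nat.card N₀).Coprime 2 := by
    rw [hN₀]
    exact pPrimeCore_coprime 2 G
  let π : G →* G ⧸ N₀ := QuotientGroup.mk' N₀
  have hπ : Function.Surjective π := QuotientGroup.mk'_surjective N₀
  have hker : ∀ x, π x = 1 ↔ x ∈ N₀ := fun x => QuotientGroup.eq_one_iff x
  have hO : pPrimeCore 2 (G ⧸ N₀) = ⊥ := by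
    subst hN₀
    exact pPrimeCore_quotient_eq_bot
  have hinv : ¬ Involves (Equiv.Perm (Fin 4)) (G ⧸ N₀) := not_involves_quotient hS4 N₀
  let S' : Sylow 2 (G ⧸ N₀) := S.mapSurjective hπ
  have hS' : (S' : Subgroup (G ⧸ N₀)) = (S : Subgroup G).map π := Sylow.coe_mapSurjective hπ S
  have hcl' : Subgroup.lowerCentralSeries (S' : Subgroup (G ⧸ N₀)) 2 = ⊥ := by
    rw [hS']
    have h1 : Subgroup.lowerCentralSeries ((S : Subgroup G).map π) 2 = (Subgroup.lowerCentralSeries (S : Subgroup G) 2).map π := by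
      show ⁅⁅(S : Subgroup G).map π, (S : Subgroup G).map π⁆, (S : Subgroup G).map π⁆ = (⁅⁅(S : Subgroup G), (S : Subgroup G)⁆, (S : Subgroup G)⁆).map π
      rw [Subgroup.map_commutator, Subgroup.map_commutator]
    rw [h1, hcl, Subgroup.map_bot]
  have hN := normalizer_JJ_eq_top_of_class_two hO hinv S' hcl'
  have hinj : Set.InjOn π (S : Subgroup G) := by
    intro a ha b hb hab
    have h1 : a⁻¹ * b ∈ N₀ := by
      rw [← hker, map_mul, map_inv, hab]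
      simp
    have h2 : a⁻¹ * b ∈ (S : Subgroup G) := Subgroup.mul_mem _ (Subgroup.inv_mem _ ha) hb
    exact eq_of_inv_mul_eq_one (eq_one_of_mem_isPGroup_of_mem_coprime S.isPGroup' hNc h2 h1)
  rw [hS', JJ_map π hinj] at hN
  obtain ⟨J, hJ⟩ : ∃ J : Subgroup G, J = JJ 2 (S : Subgroup G) := ⟨_, rfl⟩
  rw [← hJ] at hN ⊢
  have hJS : J ≤ (S : Subgroup G) := by
    rw [hJ]
    exact JJ_le
  have hJp : IsPGroup 2 J := S.isPGroup'.to_le hJS
  haveI hn : (J.map π).Normal := Subgroup.normalizer_eq_top_iff.1 hN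
  have hM : (J.map π).comap π = J ⊔ N₀ := by
    rw [Subgroup.comap_map_eq, QuotientGroup.ker_mk']
  have hMn : (J ⊔ N₀).Normal := by
    rw [← hM]
    exact Subgroup.Normal.comap hn π
  have hsyl : SylowIn 2 J (J ⊔ N₀) := by
    have h1 : SylowIn 2 (J ⊓ N₀) N₀ := by
      refine ⟨inf_le_right, hJp.to_le inf_le_left, fun hd => ?_⟩
      have h2 : (J ⊓ N₀).relIndex N₀ ∣ Nat.card N₀ := Subgroup.relIndex_dvd_card _ _
      exact (Nat.Prime.coprime_iff_not_dvd Nat.prime_two).1 hNc.symm (hd.trans h2)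
    have h2 := sylowIn_sup hJp (by
      rw [Subgroup.normalizer_eq_top_iff.2 hNn]
      exact le_top) h1
    rwa [sup_comm] at h2
  rw [eq_top_iff]
  intro y _
  have hy : conjS y (J ⊔ N₀) = J ⊔ N₀ := by
    have h1 : y ∈ Subgroup.normalizer ((J ⊔ N₀ : Subgroup G) : Set G) := by
      rw [Subgroup.normalizer_eq_top_iff.2 hMn]
      trivial
    exact mem_normalizer_iff_conjS.1 h1
  obtain ⟨k, hk, hky⟩ := frattini_in hsyl hy
  obtain ⟨j, hj, n, hn', rfl⟩ := Subgroup.mem_sup_of_normal_right.1 hk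
  have e : y = j * n * ((j * n)⁻¹ * y) := by group
  rw [e]
  refine Subgroup.mul_mem _ (Subgroup.mul_mem _ (Subgroup.mem_sup_left (Subgroup.le_normalizer hj)) (Subgroup.mem_sup_right hn'))
    (Subgroup.mem_sup_left hky)

end top

end Cfsg.Agent.Lib.Techniques
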