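import Cfsg.Agent.Lib.Techniques.SClosedNil
import Cfsg.Agent.Lib.FStar.PConstrained
import Cfsg.Agent.Lib.Techniques.LocalSL2
import Cfsg.Agent.Lib.PLocal.PStable
import Cfsg.Agent.Lib.Techniques.StrongMain
import Cfsg.Agent.S1959
import Mathlib

/-! Control of strong fusion by `N(Ω_e Z(J_e(D)))` for strongly closed `D`. -/

set_option autoImplicit false
set_option linter.style.haveILetI false

namespace Cfsg.Agent.Lib.Techniques

open Cfsg Cfsg.Agent.Lib.FrobThm Cfsg.Agent.Lib.FF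
open scoped commutatorElement

universe u

section Functor

variable {G : Type*} [Group G] [Finite G] {p e : ℕ} [hp : Fact p.Prime]

theorem Zee_conjS (e : ℕ) (D : Subgroup G) (g : G) : Zee e (conjS g D) = conjS g (Zee e D) :=
  (Zee_map_of_injOn e D (MulAut.conj g).toMonoidHom (MulAut.conj g).injective.injOn).symm

/-- All conjugates of `D`, as a set. -/
def DConj (D : Subgroup G) : Set G := {x | ∃ g : G, g * x * g⁻¹ ∈ D}

/-- The part of `R` in the conjugates of `D`. -/
def DI (D R : Subgroup G) : Subgroup G := Subgroup.closure ((R : Set G) ∩ DConj D)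

theorem DI_le (D R : Subgroup G) : DI D R ≤ R :=
  (Subgroup.closure_le _).2 Set.inter_subset_left

theorem DI_conjS (D R : Subgroup G) (g : G) : DI D (conjS g R) = conjS g (DI D R) := by
  unfold DI
  show _ = (Subgroup.closure _).map _
  rw [MonoidHom.map_closure]
  congr 1
  ext x
  constructor
  · rintro ⟨⟨r, hr, rfl⟩, k, hk⟩
    refine ⟨r, ⟨hr, k * g, ?_⟩, rfl⟩
    have e1 : k * g * r * (k * g)⁻¹ = k * ((MulAut.conj g).toMonoidHom r) * k⁻¹ := by
      simp [MulAut.conj_apply]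
      group
    rw [e1]
    exact hk
  · rintro ⟨r, ⟨hr, k, hk⟩, rfl⟩
    refine ⟨⟨r, hr, rfl⟩, k * g⁻¹, ?_⟩
    have e1 : k * g⁻¹ * ((MulAut.conj g).toMonoidHom r) * (k * g⁻¹)⁻¹ = k * r * k⁻¹ := by
      simp [MulAut.conj_apply]
      group
    rw [e1]
    exact hk

theorem DI_eq_inf {S D R : Subgroup G} (hD : SC D S ⊤) (hR : R ≤ S) : DI D R = R ⊓ D := by
  apply le_antisymm
  · refine (Subgroup.closure_le _).2 ?_
    rintro x ⟨hx, k, hk⟩
    refine ⟨hx, ?_⟩
    have h1 := hD.2 _ hk k⁻¹ trivial (by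
      have e1 : k⁻¹ * (k * x * k⁻¹) * k⁻¹⁻¹ = x := by group
      rw [e1]
      exact hR hx)
    have e1 : k⁻¹ * (k * x * k⁻¹) * k⁻¹⁻¹ = x := by group
    rwa [e1] at h1
  · rintro x ⟨h1, h2⟩
    refine Subgroup.subset_closure ⟨h1, 1, ?_⟩
    simpa using h2

open _root_.Classical in
/-- The conjugacy functor attached to `D`. -/
noncomputable def WD (e : ℕ) (D R : Subgroup G) : Subgroup G :=
  if DI D R = ⊥ then R else Zee e (DI D R)

theorem WD_of_ne {e : ℕ} {D R : Subgroup G} (h : DI D R ≠ ⊥) : WD e D R = Zee e (DI D R) := by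
  unfold WD
  rw [if_neg h]

theorem isConjugacyFunctor_WD (hpe : p ∣ e) (D : Subgroup G) : IsConjugacyFunctor p (WD e D) := by
  classical
  intro P hP
  refine ⟨?_, ?_, ?_⟩
  · unfold WD
    split_ifs with h
    · exact le_rfl
    · exact (Zee_le e _).trans (DI_le D P)
  · intro hP0
    unfold WD
    split_ifs with h
    · exact hP0
    · exact Zee_ne_bot hpe (hP.to_le (DI_le D P)) h
  · intro g
    have e1 : P.map (MulAut.conj g).toMonoidHom = conjS g P := rfl
    have e2 : DI D (conjS g P) = conjS g (DI D P) := DI_conjS D P g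
    rw [e1]
    by_cases h : DI D P = ⊥
    · have h' : DI D (conjS g P) = ⊥ := by
        rw [e2, h]
        simp [conjS]
      unfold WD
      rw [if_pos h, if_pos h']
    · have h' : DI D (conjS g P) ≠ ⊥ := by
        intro h0
        apply h
        rw [e2] at h0
        have h3 : conjS g⁻¹ (conjS g (DI D P)) = ⊥ := by
          rw [h0]
          simp [conjS]
        rwa [conjS_inv_conjS] at h3
      rw [WD_of_ne h, WD_of_ne h', e2]
      exact Zee_conjS e _ g

end Functor

section Inherit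

variable {G : Type*} [Group G] [Finite G] {p : ℕ} [hp : Fact p.Prime]

/-- Subgroups of `p`-stable groups are `p`-stable. -/
theorem stable_subgroupD (hst : IsNormalizerPStable p G) (M : Subgroup G) : IsNormalizerPStable p ↥M := by
  classical
  intro P hP g hg hq
  set f : ↥M →* G := M.subtype with hf
  set P' : Subgroup G := P.map f with hP'
  have hg' : (g : G) ∈ Subgroup.normalizer (P' : Set G) := Subgroup.le_normalizer_map f ⟨g, hg, rfl⟩
  have hq' : ⁅⁅P', Subgroup.zpowers (g : G)⁆, Subgroup.zpowers (g : G)⁆ = ⊥ := by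
    have h1 : Subgroup.zpowers (g : G) = (Subgroup.zpowers g).map f := (MonoidHom.map_zpowers f g).symm
    rw [h1, hP', ← Subgroup.map_commutator, ← Subgroup.map_commutator, hq, Subgroup.map_bot]
  have h1 := hst P' (hP.map f) (g : G) hg' hq'
  set NP : Subgroup ↥M := Subgroup.normalizer (P : Set ↥M) with hNP
  set CP : Subgroup ↥NP := (Subgroup.centralizer (P : Set ↥M)).subgroupOf NP with hCP
  set NP' : Subgroup G := Subgroup.normalizer (P' : Set G) with hNP'
  set CP' : Subgroup ↥NP' := (Subgroup.centralizer (P' : Set G)).subgroupOf NP' with hCP'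
  have hmapN : ∀ z : ↥NP, ((z : ↥M) : G) ∈ NP' := fun z => Subgroup.le_normalizer_map f ⟨z, z.2, rfl⟩
  let φ : ↥NP →* ↥NP' := ((M.subtype.comp NP.subtype)).codRestrict NP' hmapN
  let θ : ↥NP →* ↥NP' ⧸ CP' := (QuotientGroup.mk' CP').comp φ
  have hle : CP ≤ θ.ker := by
    intro z hz
    rw [MonoidHom.mem_ker]
    apply (QuotientGroup.eq_one_iff _).2
    show ((z : ↥M) : G) ∈ Subgroup.centralizer (P' : Set G)
    rw [Subgroup.mem_centralizer_iff]
    rintro _ ⟨u, hu, rfl⟩
    have := Subgroup.mem_centralizer_iff.1 hz u hu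
    exact congrArg Subtype.val this
  let θ' : ↥NP ⧸ CP →* ↥NP' ⧸ CP' := QuotientGroup.lift CP θ hle
  have hinj : Function.Injective θ' := by
    rw [injective_iff_map_eq_one]
    intro a
    induction a using QuotientGroup.induction_on with
    | H z =>
      intro h
      apply (QuotientGroup.eq_one_iff _).2
      have h1' : φ z ∈ CP' := (QuotientGroup.eq_one_iff (φ z)).1 h
      have h2 : ((z : ↥M) : G) ∈ Subgroup.centralizer (P' : Set G) := h1'
      show (z : ↥M) ∈ Subgroup.centralizer (P : Set ↥M)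
      rw [Subgroup.mem_centralizer_iff]
      intro u hu
      apply Subtype.ext
      exact Subgroup.mem_centralizer_iff.1 h2 _ ⟨u, hu, rfl⟩
  haveI hDn : ((pCore p (↥NP' ⧸ CP')).comap θ').Normal := (Lib.Core.pCore_normal p _).comap θ'
  have hDp : IsPGroup p ↥((pCore p (↥NP' ⧸ CP')).comap θ') :=
    IsPGroup.comap_of_injective (Lib.Core.pCore_isPGroup p _) θ' hinj
  exact Lib.Core.le_pCore hDn hDp h1

/-- Quotients by `p'`-subgroups of `p`-stable groups are `p`-stable. -/
theorem stable_quotient_pprimeD (hst : IsNormalizerPStable p G) {X : Type*} [Group X] [Finite X] (π : G →* X)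
    (hπ : Function.Surjective π) (hc : (Nat.card π.ker).Coprime p) : IsNormalizerPStable p X := by
  classical
  intro P hP gb hgb hq
  obtain ⟨T, hTp, hTP, hN⟩ := exists_local_lift π hπ hP
  have h0 : gb ∈ (Subgroup.normalizer (T : Set G)).map π := by
    rw [hN]
    exact hgb
  obtain ⟨g, hg, rfl⟩ := h0
  have hq' : ⁅⁅T, Subgroup.zpowers g⁆, Subgroup.zpowers g⁆ = ⊥ := by
    have hle : ∀ U : Subgroup G, U ≤ T → ⁅U, Subgroup.zpowers g⁆ ≤ T := by
      intro U hU
      rw [Subgroup.commutator_le]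
      intro u hu z hz
      have hzN : z ∈ Subgroup.normalizer (T : Set G) := by
        have : Subgroup.zpowers g ≤ Subgroup.normalizer (T : Set G) := by
          rw [Subgroup.zpowers_le]
          exact hg
        exact this hz
      have h1 := (Subgroup.mem_normalizer_iff.1 hzN _).1 (T.inv_mem (hU hu))
      rw [commutatorElement_def]
      have e : u * z * u⁻¹ * z⁻¹ = u * (z * u⁻¹ * z⁻¹) := by group
      rw [e]
      exact T.mul_mem (hU hu) h1
    rw [eq_bot_iff]
    intro x hx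
    have hxT : x ∈ T := hle _ (hle _ le_rfl) hx
    have hxk : x ∈ π.ker := by
      have h1 : π x ∈ (⁅⁅T, Subgroup.zpowers g⁆, Subgroup.zpowers g⁆).map π := ⟨x, hx, rfl⟩
      rw [Subgroup.map_commutator, Subgroup.map_commutator, MonoidHom.map_zpowers, hTP, hq, Subgroup.mem_bot] at h1
      exact h1
    rw [Subgroup.mem_bot]
    exact eq_one_of_mem_isPGroup_of_mem_coprime hTp hc hxT hxk
  have h1 := hst T hTp g hg hq'
  set NT : Subgroup G := Subgroup.normalizer (T : Set G) with hNT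
  set CT : Subgroup ↥NT := (Subgroup.centralizer (T : Set G)).subgroupOf NT with hCT
  set NP : Subgroup X := Subgroup.normalizer (P : Set X) with hNP
  set CP : Subgroup ↥NP := (Subgroup.centralizer (P : Set X)).subgroupOf NP with hCP
  have hmem : ∀ z : ↥NT, π z ∈ NP := by
    intro z
    rw [← hN]
    exact ⟨z, z.2, rfl⟩
  let φ : ↥NT →* ↥NP := (π.comp NT.subtype).codRestrict NP hmem
  let θ : ↥NT →* ↥NP ⧸ CP := (QuotientGroup.mk' CP).comp φ
  have hle : CT ≤ θ.ker := by
    intro z hz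
    rw [MonoidHom.mem_ker]
    apply (QuotientGroup.eq_one_iff _).2
    show π z ∈ Subgroup.centralizer (P : Set X)
    rw [Subgroup.mem_centralizer_iff, ← hTP]
    rintro _ ⟨u, hu, rfl⟩
    have := Subgroup.mem_centralizer_iff.1 hz u hu
    show π u * π (z : G) = π (z : G) * π u
    have e : u * (z : G) = (z : G) * u := this
    rw [← map_mul, e, map_mul]
  let θ' : ↥NT ⧸ CT →* ↥NP ⧸ CP := QuotientGroup.lift CT θ hle
  have hsurj : Function.Surjective θ' := by
    intro y
    obtain ⟨⟨n, hn⟩, rfl⟩ := QuotientGroup.mk_surjective y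
    have h2 : n ∈ NT.map π := by rw [hN]; exact hn
    obtain ⟨z, hz, rfl⟩ := h2
    exact ⟨((⟨z, hz⟩ : ↥NT) : ↥NT ⧸ CT), rfl⟩
  exact Cfsg.Agent.Lib.PLocal.mem_pCore_of_surjective θ' hsurj h1

end Inherit

section Ctl

variable {G : Type*} [Group G] [Finite G] {p e : ℕ} [hp : Fact p.Prime]

/-- Action control by `N(Zee e D)`. -/
def ZCtl (e : ℕ) (S D : Subgroup G) : Prop :=
  ∀ (A : Set G) (y : G), A ⊆ S → lconj y A ⊆ S →
    ∃ m ∈ Subgroup.normalizer ((Zee e D : Subgroup G) : Set G), ∀ a ∈ A, m * a * m⁻¹ = y * a * y⁻¹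

theorem ZCtl_of_normal {S D : Subgroup G} (h : (Zee e D).Normal) : ZCtl e S D :=
  fun _ y _ _ => ⟨y, by rw [Subgroup.normalizer_eq_top_iff.2 h]; trivial, fun _ _ => rfl⟩

theorem SC.le_normalizer {S E : Subgroup G} (hE : SC E S ⊤) : S ≤ Subgroup.normalizer (E : Set G) := by
  intro s hs
  rw [Subgroup.mem_normalizer_iff]
  intro x
  constructor
  · intro hx
    exact hE.2 x hx s trivial (S.mul_mem (S.mul_mem hs (hE.1 hx)) (S.inv_mem hs))
  · intro hx
    have h1 := hE.2 _ hx s⁻¹ trivial (by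
      have e1 : s⁻¹ * (s * x * s⁻¹) * s⁻¹⁻¹ = x := by group
      rw [e1]
      have h2 : s⁻¹ * (s * x * s⁻¹) * s⁻¹⁻¹ ∈ S :=
        S.mul_mem (S.mul_mem (S.inv_mem hs) (hE.1 hx)) (S.inv_mem (S.inv_mem hs))
      rwa [e1] at h2)
    have e1 : s⁻¹ * (s * x * s⁻¹) * s⁻¹⁻¹ = x := by group
    rwa [e1] at h1

/-- `D` meets the Sylow subgroup of a `p`-local nontrivially. -/
theorem SC.inf_normalizer_ne_bot {S D T : Subgroup G} (hS : IsPGroup p S) (hD : SC D S ⊤) (hD0 : D ≠ ⊥) (hT : T ≤ S) :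
    S ⊓ Subgroup.normalizer (T : Set G) ⊓ D ≠ ⊥ := by
  have hEnS := hD.le_normalizer
  have hEs : (D.subgroupOf S) ≠ ⊥ := by
    intro h
    apply hD0
    have h1 := congrArg (Subgroup.map S.subtype) h
    rw [Subgroup.subgroupOf_map_subtype, Subgroup.map_bot, inf_eq_left.2 hD.1] at h1
    exact h1
  haveI hEn : (D.subgroupOf S).Normal := by
    constructor
    intro x hx s
    refine Subgroup.mem_subgroupOf.2 ?_
    exact (Subgroup.mem_normalizer_iff.1 (hEnS s.2) x).1 hx
  haveI : Group.IsNilpotent S := hS.isNilpotent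
  have hb : (D.subgroupOf S) ⊓ Subgroup.center S ≠ ⊥ := Lib.Core.normal_inf_center_ne_bot _ hEs
  obtain ⟨⟨z, hzm⟩, hz3⟩ := Subgroup.ne_bot_iff_exists_ne_one.1 hb
  have hzS : (z : G) ∈ S := z.2
  have hzE : (z : G) ∈ D := hzm.1
  have hzc : ∀ s ∈ S, s * (z : G) = z * s := by
    intro s hs
    have h1 := Subgroup.mem_center_iff.1 hzm.2 ⟨s, hs⟩
    exact congrArg Subtype.val h1
  have hzN : (z : G) ∈ Subgroup.normalizer (T : Set G) := by
    apply Subgroup.centralizer_le_normalizer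
    rw [Subgroup.mem_centralizer_iff]
    intro a ha
    exact hzc a (hT ha)
  intro hbot
  have h1 : (z : G) ∈ S ⊓ Subgroup.normalizer (T : Set G) ⊓ D := ⟨⟨hzS, hzN⟩, hzE⟩
  rw [hbot] at h1
  apply hz3
  apply Subtype.ext
  apply Subtype.ext
  exact Subgroup.mem_bot.1 h1

/-- Lifting control through a normal `p'`-subgroup. -/
theorem ctl_lift_pprime {Y : Type*} [Group Y] [Finite Y] (π : G →* Y) (hπ : Function.Surjective π)
    {O : Subgroup G} [hO : O.Normal] (hker : π.ker = O) (hOc : (Nat.card O).Coprime p) {S E : Subgroup G}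
    (hS : SylowIn p S ⊤) (hE : SC E S ⊤) (hc : ZCtl e (S.map π) (E.map π)) : ZCtl e S E := by
  classical
  intro A y hA hA'
  have hinj : ∀ {R : Subgroup G}, IsPGroup p R → Set.InjOn π (R : Set G) := by
    intro R hR a ha b hb hab
    have h1 : a⁻¹ * b ∈ O := by
      rw [← hker, MonoidHom.mem_ker, map_mul, map_inv, hab]
      simp
    have h2 : a⁻¹ * b = 1 := eq_one_of_mem_isPGroup_of_mem_coprime hR hOc (R.mul_mem (R.inv_mem ha) hb) h1
    rw [← mul_left_cancel_iff (a := a⁻¹), h2, inv_mul_cancel]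
  have hpi : ∀ {a b : G}, π a = π b → a⁻¹ * b ∈ O := by
    intro a b e
    rw [← hker, MonoidHom.mem_ker, map_mul, map_inv, e, inv_mul_cancel]
  have hEp : IsPGroup p E := hS.2.1.to_le hE.1
  have hZ : Zee e (E.map π) = (Zee e E).map π := (Zee_map_of_injOn e E π (hinj hEp)).symm
  set V : Subgroup G := Zee e E with hV
  have hVp : IsPGroup p V := hEp.to_le (Zee_le e E)
  have hSV : S ≤ Subgroup.normalizer (V : Set G) := hE.le_normalizer.trans (normalizer_le_normalizer_Zee e E)
  obtain ⟨mb, hmb, hmbe⟩ := hc (π '' A) (π y) (by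
      rintro _ ⟨a, ha, rfl⟩
      exact ⟨a, hA ha, rfl⟩) (by
      rw [lconj_image]
      rintro _ ⟨a, ha, rfl⟩
      exact ⟨a, hA' ha, rfl⟩)
  rw [hZ] at hmb
  obtain ⟨x₁, hx₁π, hx₁N⟩ := lift_normalizer_coprime π hπ hker hOc hVp hmb
  have hact : ∀ a ∈ A, π (x₁ * a * x₁⁻¹) = π (y * a * y⁻¹) := by
    intro a ha
    have := hmbe (π a) ⟨a, ha, rfl⟩
    simpa [hx₁π] using this
  have hclS : Subgroup.closure A ≤ S := (Subgroup.closure_le _).2 hA
  set B : Subgroup G := conjS x₁ (Subgroup.closure A) with hB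
  have hBp : IsPGroup p B := isPGroup_conjS x₁ (hS.2.1.to_le hclS)
  have hBN : B ≤ Subgroup.normalizer (V : Set G) := by
    have := conjS_mono x₁ (hclS.trans hSV)
    rwa [conjS_eq_of_mem hx₁N] at this
  have hBSN : B ≤ S ⊔ O := by
    rw [hB, conjS_le_iff, Subgroup.closure_le]
    intro a ha
    rw [SetLike.mem_coe, mem_conjS]
    have h1 : y * a * y⁻¹ ∈ S := hA' ⟨a, ha, rfl⟩
    have h2 := hpi (hact a ha).symm
    have e2 : x₁⁻¹⁻¹ * a * x₁⁻¹ = (y * a * y⁻¹) * ((y * a * y⁻¹)⁻¹ * (x₁ * a * x₁⁻¹)) := by group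
    rw [e2]
    exact Subgroup.mul_mem _ (Subgroup.mem_sup_left h1) (Subgroup.mem_sup_right h2)
  have hSM₀ : SylowIn p S ((S ⊔ O) ⊓ Subgroup.normalizer (V : Set G)) := hS.of_le (le_inf le_sup_left hSV) le_top
  obtain ⟨u, ⟨hu1, hu2⟩, hu⟩ := hSM₀.exists_conj_le (le_inf hBSN hBN) hBp
  obtain ⟨s, hs, n', hn', rfl⟩ := Subgroup.mem_sup_of_normal_right.1 hu1
  have hn'N : n' ∈ Subgroup.normalizer (V : Set G) := by
    have e : n' = s⁻¹ * (s * n') := by group
    rw [e]
    exact Subgroup.mul_mem _ (Subgroup.inv_mem _ (hSV hs)) hu2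
  have hπn' : π n' = 1 := by
    rw [← MonoidHom.mem_ker, hker]
    exact hn'
  refine ⟨n' * x₁, Subgroup.mul_mem _ hn'N hx₁N, fun a ha => ?_⟩
  have h1 : x₁ * a * x₁⁻¹ ∈ B := conj_mem_conjS (Subgroup.subset_closure ha)
  have h2 : (s * n') * (x₁ * a * x₁⁻¹) * (s * n')⁻¹ ∈ S := hu (conj_mem_conjS h1)
  have e : (n' * x₁) * a * (n' * x₁)⁻¹ = s⁻¹ * ((s * n') * (x₁ * a * x₁⁻¹) * (s * n')⁻¹) * s := by
    group
  have h3 : (n' * x₁) * a * (n' * x₁)⁻¹ ∈ S := by
    rw [e]
    exact S.mul_mem (S.mul_mem (S.inv_mem hs) h2) hs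
  apply hinj hS.2.1 h3 (hA' ⟨a, ha, rfl⟩)
  have h4 := hact a ha
  rw [map_mul, map_mul, map_mul, map_inv, map_mul, hπn', one_mul, ← map_inv, ← map_mul, ← map_mul, h4]

/-- The image of a strongly closed subgroup modulo a normal `p'`-subgroup. -/
theorem SC_map_pprime {Y : Type*} [Group Y] (π : G →* Y) (hπ : Function.Surjective π)
    {O : Subgroup G} [hO : O.Normal] (hker : π.ker = O) {S E : Subgroup G}
    (hS : SylowIn p S ⊤) (hE : SC E S ⊤) : SC (E.map π) (S.map π) ⊤ := by
  have hEp : IsPGroup p E := hS.2.1.to_le hE.1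
  refine ⟨Subgroup.map_mono hE.1, ?_⟩
  rintro _ ⟨d, hd, rfl⟩ g₀ - hg₀
  obtain ⟨g, rfl⟩ := hπ g₀
  rw [← map_inv, ← map_mul, ← map_mul] at hg₀ ⊢
  obtain ⟨s, hs, hse⟩ := hg₀
  set y : G := g * d * g⁻¹ with hy
  -- `y` lies in `S O`
  have hyE : y ∈ S ⊔ O := by
    have e1 : y = s * (s⁻¹ * y) := by group
    rw [e1]
    refine Subgroup.mul_mem _ (Subgroup.mem_sup_left hs) (Subgroup.mem_sup_right ?_)
    rw [← hker, MonoidHom.mem_ker, map_mul, map_inv, hse]
    simp
  have hRE : SylowIn p S (S ⊔ O) := hS.of_le le_sup_left le_top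
  have hyp : IsPGroup p (Subgroup.zpowers y) := by
    have h1 : IsPGroup p (conjS g (Subgroup.zpowers d)) := by
      apply isPGroup_conjS
      exact hEp.to_le ((Subgroup.zpowers_le).2 hd)
    have h2 : conjS g (Subgroup.zpowers d) = Subgroup.zpowers y := by
      show (Subgroup.zpowers d).map _ = _
      rw [MonoidHom.map_zpowers]
      rfl
    rwa [h2] at h1
  obtain ⟨c, hcE, hle⟩ := hRE.exists_conj_le ((Subgroup.zpowers_le).2 hyE) hyp
  obtain ⟨s₁, hs₁, o, ho, rfl⟩ := Subgroup.mem_sup_of_normal_right.1 hcE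
  have h1 : o * y * o⁻¹ ∈ S := by
    have h2 : (s₁ * o) * y * (s₁ * o)⁻¹ ∈ S := hle (conj_mem_conjS (Subgroup.mem_zpowers y))
    have e1 : o * y * o⁻¹ = s₁⁻¹ * ((s₁ * o) * y * (s₁ * o)⁻¹) * s₁ := by group
    rw [e1]
    exact S.mul_mem (S.mul_mem (S.inv_mem hs₁) h2) hs₁
  have h2 : o * y * o⁻¹ = (o * g) * d * (o * g)⁻¹ := by
    rw [hy]
    group
  rw [h2] at h1
  have h3 := hE.2 d hd (o * g) trivial h1
  refine ⟨_, h3, ?_⟩
  have ho1 : π o = 1 := by
    rw [← MonoidHom.mem_ker, hker]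
    exact ho
  rw [map_mul, map_mul, map_inv, map_mul, ho1, hy]
  simp

/-- The constrained case. -/
theorem ctl_of_constrained (hp2 : p ≠ 2) {S E : Subgroup G} (hS : SylowIn p S ⊤) (hE : SC E S ⊤)
    (hst : IsNormalizerPStable p G) (hc : IsPConstrained p G) : ZCtl e S E := by
  set O : Subgroup G := pPrimeCore p G with hO
  haveI hOn : O.Normal := Lib.Core.pPrimeCore_normal p G
  have hOc : (Nat.card O).Coprime p := Lib.Core.pPrimeCore_coprime p G
  let π : G →* G ⧸ O := QuotientGroup.mk' O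
  have hπ : Function.Surjective π := QuotientGroup.mk'_surjective O
  have hker : π.ker = O := QuotientGroup.ker_mk' O
  refine ctl_lift_pprime π hπ hker hOc hS hE (ZCtl_of_normal ?_)
  have hR : SylowIn p (S.map π) ⊤ := sylowIn_map_top π hπ hS
  obtain ⟨T, hT⟩ := hR.of_top
  have hSC := SC_map_pprime π hπ hker hS hE
  refine Zee_normal hp2 e _ (G ⧸ O) rfl T (E.map π) ⟨?_, ?_⟩ ?_ ?_
  · rw [hT]
    exact hSC.1
  · intro x hx g hg
    rw [hT] at hg
    exact hSC.2 x hx g trivial hg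
  · apply stable_quotient_pprimeD hst π hπ
    rw [hker]
    exact hOc
  · exact Cfsg.Agent.Lib.FStar.centralizer_pCore_quotient_le_of_constrained hc

/-- Control in a subgroup, from control in the subgroup as a group. -/
theorem ctl_subgroup {L R E : Subgroup G} (hE : E ≤ L)
    (hc : ZCtl e (R.subgroupOf L) (E.subgroupOf L)) (hRL : R ≤ L) (A : Set G) (y : G) (hy : y ∈ L) (hA : A ⊆ R)
    (hA' : lconj y A ⊆ R) :
    ∃ m ∈ L ⊓ Subgroup.normalizer ((Zee e E : Subgroup G) : Set G), ∀ a ∈ A, m * a * m⁻¹ = y * a * y⁻¹ := by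
  obtain ⟨m, hm, hme⟩ := hc (L.subtype ⁻¹' A) ⟨y, hy⟩ (fun a ha => hA ha) (by
    rintro _ ⟨a, ha, rfl⟩
    exact hA' ⟨a, ha, rfl⟩)
  have hinf : E ⊓ L = E := inf_eq_left.2 hE
  have hmem : ∀ z : ↥L, z ∈ Zee e (E.subgroupOf L) ↔ (z : G) ∈ Zee e E := by
    intro z
    rw [mem_Zee_subgroupOf, hinf]
  have hZL : Zee e E ≤ L := (Zee_le e E).trans hE
  refine ⟨m, ⟨m.2, ?_⟩, fun a ha => ?_⟩
  · show (m : G) ∈ Subgroup.normalizer ((Zee e E : Subgroup G) : Set G)
    rw [Subgroup.mem_normalizer_iff]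
    intro x
    constructor
    · intro hx
      have h2 : (⟨x, hZL hx⟩ : ↥L) ∈ Zee e (E.subgroupOf L) := (hmem _).2 hx
      have h3 := (Subgroup.mem_normalizer_iff.1 hm _).1 h2
      exact (hmem _).1 h3
    · intro hx
      have hxL : x ∈ L := by
        have h2 := hZL hx
        have e1 : x = (m : G)⁻¹ * ((m : G) * x * (m : G)⁻¹) * m := by group
        rw [e1]
        exact L.mul_mem (L.mul_mem (L.inv_mem m.2) h2) m.2
      have h2 : m * (⟨x, hxL⟩ : ↥L) * m⁻¹ ∈ Zee e (E.subgroupOf L) := (hmem _).2 hx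
      have h3 := (Subgroup.mem_normalizer_iff.1 hm _).2 h2
      exact (hmem _).1 h3
  · have haL : a ∈ L := hRL (hA ha)
    have h1 := hme ⟨a, haL⟩ ha
    exact congrArg Subtype.val h1

theorem SylowIn.subgroupOf_top {L R : Subgroup G} (hR : SylowIn p R L) : SylowIn p (R.subgroupOf L) ⊤ := by
  have h := sylowIn_top_of_sylow hR.toSylow
  rwa [SylowIn.coe_toSylow] at h

theorem SC.subgroupOf {L R E : Subgroup G} (hE : SC E R L) : SC (E.subgroupOf L) (R.subgroupOf L) ⊤ := by
  refine ⟨fun x hx => hE.1 hx, ?_⟩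
  intro x hx g _ hg
  exact hE.2 x hx g g.2 hg

/-- From local control to global control: the Alperin argument. -/
theorem ctl_of_local (hpe : p ∣ e) (S : Sylow p G) {D : Subgroup G} (hD : SC D (S : Subgroup G) ⊤)
    (hloc : ∀ T : Subgroup G, T ≤ (S : Subgroup G) → T ≠ ⊥ →
      ¬ p ∣ ((S : Subgroup G) ⊓ Subgroup.normalizer (T : Set G)).relIndex (Subgroup.normalizer (T : Set G)) →
      ∀ (A : Set G) (y : G), y ∈ Subgroup.normalizer (T : Set G) →
        A ⊆ ((S : Subgroup G) ⊓ Subgroup.normalizer (T : Set G) : Subgroup G) →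
        lconj y A ⊆ ((S : Subgroup G) ⊓ Subgroup.normalizer (T : Set G) : Subgroup G) →
        ∃ m ∈ Subgroup.normalizer (T : Set G) ⊓
            Subgroup.normalizer ((Zee e ((S : Subgroup G) ⊓ Subgroup.normalizer (T : Set G) ⊓ D) : Subgroup G) : Set G),
          ∀ a ∈ A, m * a * m⁻¹ = y * a * y⁻¹) :
    ZCtl e (S : Subgroup G) D := by
  classical
  intro A y hA hA'
  by_cases hD0 : D = ⊥
  · refine ⟨y, ?_, fun _ _ => rfl⟩
    have h1 : Zee e D = ⊥ := by
      rw [eq_bot_iff, ← hD0]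
      exact Zee_le e D
    rw [h1, Subgroup.normalizer_eq_top_iff.2 inferInstance]
    trivial
  have hS := sylowIn_top_of_sylow S
  have hfun : ∀ W ∈ ({WD e D} : Set (Subgroup G → Subgroup G)), IsConjugacyFunctor p W := by
    intro W hW
    rw [Set.mem_singleton_iff.1 hW]
    exact isConjugacyFunctor_WD hpe D
  have hmain : FamilyControlsStrongFusionIn p ({WD e D} : Set (Subgroup G → Subgroup G)) ⊤ := by
    refine Cfsg.Agent.S1959.result S _ hfun (fun T hT hT0 hfn => ?_)
    have hR : SylowIn p ((S : Subgroup G) ⊓ Subgroup.normalizer (T : Set G)) (Subgroup.normalizer (T : Set G)) :=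
      ⟨inf_le_right, hS.2.1.to_le inf_le_left, hfn⟩
    refine familyControls_of_chain hR ?_
    intro A y hy hA hA'
    obtain ⟨m, ⟨hm1, hm2⟩, hme⟩ := hloc T hT hT0 hfn A y hy hA hA'
    have e1 : lconj m A = lconj y A := lconj_congr hme
    refine ⟨m, FChain.single hA (by rw [e1]; exact hA') ⟨WD e D, rfl, hm1, ?_⟩, hme⟩
    have hRD := DI_eq_inf (R := (S : Subgroup G) ⊓ Subgroup.normalizer (T : Set G)) hD inf_le_left
    rw [WD_of_ne (by rw [hRD]; exact SC.inf_normalizer_ne_bot hS.2.1 hD hD0 hT), hRD]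
    exact hm2
  obtain ⟨g, hg, hga⟩ := famAt_of_controls hfun hmain hS A y trivial hA hA'
  refine ⟨g, hg.mem_subgroup ?_, hga⟩
  rintro x ⟨W, hW, -, hx⟩
  rw [Set.mem_singleton_iff.1 hW] at hx
  have e2 : DI D (S : Subgroup G) = D := by
    rw [DI_eq_inf hD le_rfl]
    exact inf_eq_right.2 hD.1
  rw [WD_of_ne (by rw [e2]; exact hD0), e2] at hx
  exact hx

/-- Local control, all `p`-locals constrained. -/
theorem ctl_of_constrained_locals (hp2 : p ≠ 2) (hpe : p ∣ e) (S : Sylow p G) {D : Subgroup G}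
    (hD : SC D (S : Subgroup G) ⊤) (hst : IsNormalizerPStable p G)
    (hc : ∀ U : Subgroup G, U ≤ (S : Subgroup G) → U ≠ ⊥ → IsPConstrained p ↥(Subgroup.normalizer (U : Set G))) :
    ZCtl e (S : Subgroup G) D := by
  refine ctl_of_local hpe S hD fun T hT hT0 hfn A y hy hA hA' => ?_
  have hS := sylowIn_top_of_sylow S
  have hR : SylowIn p ((S : Subgroup G) ⊓ Subgroup.normalizer (T : Set G)) (Subgroup.normalizer (T : Set G)) :=
    ⟨inf_le_right, hS.2.1.to_le inf_le_left, hfn⟩
  have hE : SC ((S : Subgroup G) ⊓ Subgroup.normalizer (T : Set G) ⊓ D)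
      ((S : Subgroup G) ⊓ Subgroup.normalizer (T : Set G)) (Subgroup.normalizer (T : Set G)) :=
    ⟨inf_le_left, fun x hx g _ hg => ⟨hg, hD.2 x hx.2 g trivial hg.1⟩⟩
  exact ctl_subgroup (hE.1.trans hR.1)
    (ctl_of_constrained hp2 hR.subgroupOf_top hE.subgroupOf (stable_subgroupD hst _) (hc T hT hT0))
    hR.1 A y hy hA hA'

end Ctl

section QdFree

variable {p e : ℕ} [hp : Fact p.Prime]

/-- Conjugations realized in `N(Zee e E)`. -/
def ZGood {X : Type*} [Group X] (e : ℕ) (E : Subgroup X) (A : Set X) (g : X) : Prop :=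
  ∃ m ∈ Subgroup.normalizer ((Zee e E : Subgroup X) : Set X), ∀ a ∈ A, m * a * m⁻¹ = g * a * g⁻¹

theorem isConjGroupoid_ZGood {X : Type*} [Group X] (e : ℕ) (E : Subgroup X) : IsConjGroupoid (ZGood e E) := by
  refine ⟨?_, ?_, ?_⟩
  · rintro A B g hAB ⟨x, hx, hxa⟩
    exact ⟨x, hx, fun a ha => hxa a (hAB ha)⟩
  · rintro A g h ⟨x, hx, hxa⟩ ⟨y, hy, hya⟩
    refine ⟨y * x, Subgroup.mul_mem _ hy hx, fun a ha => ?_⟩
    have h1 := hya (g * a * g⁻¹) ⟨a, ha, rfl⟩
    calc y * x * a * (y * x)⁻¹ = y * (x * a * x⁻¹) * y⁻¹ := by group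
      _ = y * (g * a * g⁻¹) * y⁻¹ := by rw [hxa a ha]
      _ = h * (g * a * g⁻¹) * h⁻¹ := h1
      _ = h * g * a * (h * g)⁻¹ := by group
  · rintro A g ⟨x, hx, hxa⟩
    refine ⟨x⁻¹, Subgroup.inv_mem _ hx, ?_⟩
    rintro _ ⟨a, ha, rfl⟩
    show x⁻¹ * (g * a * g⁻¹) * x⁻¹⁻¹ = g⁻¹ * (g * a * g⁻¹) * g⁻¹⁻¹
    calc x⁻¹ * (g * a * g⁻¹) * x⁻¹⁻¹ = x⁻¹ * (x * a * x⁻¹) * x⁻¹⁻¹ := by rw [hxa a ha]
      _ = a := by group
      _ = g⁻¹ * (g * a * g⁻¹) * g⁻¹⁻¹ := by group

/-- **Glauberman**: in `Qd(p)`-free groups `N(Zee e E)` controls strong fusion. -/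
theorem ctl_of_noQd (hp2 : p ≠ 2) (hpe : p ∣ e) :
    ∀ (n : ℕ) (X : Type u) [Group X] [Finite X], Nat.card X = n → Cfsg.Agent.Lib.PLocal.Qd.NoQd p X →
      ∀ (S : Sylow p X) (E : Subgroup X), SC E (S : Subgroup X) ⊤ → ZCtl e (S : Subgroup X) E := by
  intro n
  induction n using Nat.strong_induction_on with
  | _ n ih =>
    intro X _ _ hn hNo S₀ E hE
    classical
    have hS := sylowIn_top_of_sylow S₀
    set S : Subgroup X := (S₀ : Subgroup X) with hSd
    have hst : IsNormalizerPStable p X := isNormalizerPStable_of_noQd hp2 hNo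
    -- the induction hypotheses
    have hsub : ∀ L : Subgroup X, L ≠ ⊤ → ∀ R F : Subgroup X, SylowIn p R L → SC F R L →
        ∀ (A : Set X) (y : X), y ∈ L → A ⊆ R → lconj y A ⊆ R →
        ∃ m ∈ L ⊓ Subgroup.normalizer ((Zee e F : Subgroup X) : Set X), ∀ a ∈ A, m * a * m⁻¹ = y * a * y⁻¹ := by
      intro L hL R F hR hF A y hy hA hA'
      have hcard : Nat.card L < n := by
        rw [← hn]
        have h3 := card_lt_of_lt' (lt_top_iff_ne_top.2 hL)
        rwa [Subgroup.card_top] at h3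
      have hc : ZCtl e (R.subgroupOf L) (F.subgroupOf L) := by
        have h1 := ih _ hcard ↥L rfl (hNo.subgroup L) hR.toSylow (F.subgroupOf L) (by
          rw [SylowIn.coe_toSylow]
          exact hF.subgroupOf)
        rwa [SylowIn.coe_toSylow] at h1
      exact ctl_subgroup (hF.1.trans hR.1) hc hR.1 A y hy hA hA'
    have hquot : ∀ (Y : Type u) [Group Y] [Finite Y] (π : X →* Y), Function.Surjective π → π.ker ≠ ⊥ →
        ∀ T F : Subgroup Y, SylowIn p T ⊤ → SC F T ⊤ → ZCtl e T F := by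
      intro Y _ _ π hπ hk T F hT hF
      have hcard : Nat.card Y < n := by
        rw [← hn]
        have h1 := Nat.card_le_card_of_surjective π hπ
        refine lt_of_le_of_ne h1 fun h2 => hk ?_
        have h3 : Function.Injective π := (Nat.bijective_iff_surjective_and_card π).2 ⟨hπ, h2.symm⟩ |>.1
        exact (MonoidHom.ker_eq_bot_iff π).2 h3
      obtain ⟨T', rfl⟩ := hT.of_top
      exact ih _ hcard Y rfl (hNo.of_surjective π hπ) T' F hF
    set O : Subgroup X := pPrimeCore p X with hOd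
    haveI hOn : O.Normal := Lib.Core.pPrimeCore_normal p X
    have hOc : (Nat.card O).Coprime p := Lib.Core.pPrimeCore_coprime p X
    by_cases hO : O = ⊥
    swap
    · let π : X →* X ⧸ O := QuotientGroup.mk' O
      have hπ : Function.Surjective π := QuotientGroup.mk'_surjective O
      have hker : π.ker = O := QuotientGroup.ker_mk' O
      refine ctl_lift_pprime π hπ hker hOc hS hE ?_
      exact hquot _ π hπ (by rw [hker]; exact hO) _ _ (sylowIn_map_top π hπ hS) (SC_map_pprime π hπ hker hS hE)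
    set Q : Subgroup X := pCore p X with hQd
    haveI hQn : Q.Normal := Lib.Core.pCore_normal p X
    have hQS : Q ≤ S := pCore_le_of_sylowIn hS
    have hQp : IsPGroup p Q := Lib.Core.pCore_isPGroup p X
    by_cases hQ0 : Q = ⊥
    · -- no normal `p`-subgroups
      refine ctl_of_local hpe S₀ hE fun T hT hT0 hfn A y hy hA hA' => ?_
      have hR : SylowIn p (S ⊓ Subgroup.normalizer (T : Set X)) (Subgroup.normalizer (T : Set X)) :=
        ⟨inf_le_right, hS.2.1.to_le inf_le_left, hfn⟩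
      have hF : SC (S ⊓ Subgroup.normalizer (T : Set X) ⊓ E)
          (S ⊓ Subgroup.normalizer (T : Set X)) (Subgroup.normalizer (T : Set X)) :=
        ⟨inf_le_left, fun x hx g _ hg => ⟨hg, hE.2 x hx.2 g trivial hg.1⟩⟩
      have hNe : Subgroup.normalizer (T : Set X) ≠ ⊤ := by
        intro h
        apply hT0
        have h1 : T ≤ Q := Lib.Core.le_pCore (Subgroup.normalizer_eq_top_iff.1 h) (hS.2.1.to_le hT)
        rw [hQ0] at h1
        exact le_bot_iff.1 h1
      exact hsub _ hNe _ _ hR hF A y hy hA hA'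
    set C : Subgroup X := Subgroup.centralizer (Q : Set X) with hCd
    by_cases hC : C ≤ Q
    · exact ZCtl_of_normal (Zee_normal hp2 e _ X rfl S₀ E ⟨hE.1, fun x hx g h => hE.2 x hx g trivial h⟩ hst hC)
    have hD0 : ¬ S ⊓ C ≤ Q := fun h => hC (centralizer_le_of_inf_le hS hO h)
    have hG := isConjGroupoid_ZGood e E
    have hP0 : ∀ M : Subgroup X, M ≠ ⊤ → S ≤ M → ∀ (A : Set X) (m : X), m ∈ M → A ⊆ S → lconj m A ⊆ S →
        ZGood e E A m := by
      intro M hM hSM A m hm hA hA'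
      obtain ⟨x, hx, hxa⟩ := hsub M hM S E (hS.of_le hSM le_top)
        ⟨hE.1, fun x hx g _ hg => hE.2 x hx g trivial hg⟩ A m hm hA hA'
      exact ⟨x, hx.2, hxa⟩
    intro A y hA hA'
    by_cases hSC : S ⊔ C = ⊤
    swap
    · exact good_of_sc_lt hG hS hP0 hD0 hSC A y hA hA'
    -- the quotient by `O_p`
    let π : X →* X ⧸ Q := QuotientGroup.mk' Q
    have hπ : Function.Surjective π := QuotientGroup.mk'_surjective Q
    have hker : π.ker = Q := QuotientGroup.ker_mk' Q
    have hQker : ∀ z ∈ Q, π z = 1 := by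
      intro z hz
      rw [← MonoidHom.mem_ker, hker]
      exact hz
    have hSne : S ≠ ⊤ := by
      intro h1
      apply hC
      have h2 : (⊤ : Subgroup X) ≤ Q := by
        have h3 : IsPGroup p (⊤ : Subgroup X) := by
          rw [← h1]
          exact hS.2.1
        exact Lib.Core.le_pCore inferInstance h3
      exact le_top.trans h2
    have hmemS : ∀ z : X, π z ∈ S.map π → z ∈ S := by
      intro z hz
      obtain ⟨s, hs, e⟩ := hz
      have h1 : s⁻¹ * z ∈ Q := by
        rw [← hker, MonoidHom.mem_ker, map_mul, map_inv, e, inv_mul_cancel]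
      have e2 : z = s * (s⁻¹ * z) := by group
      rw [e2]
      exact S.mul_mem hs (hQS h1)
    have hlift : ∀ (A : Set X) (y : X), A ⊆ S → lconj y A ⊆ S →
        ∃ m, ZGood e E A m ∧ ∀ a ∈ A, π (m * a * m⁻¹) = π (y * a * y⁻¹) := by
      intro A y hA hA'
      by_cases hSQ : S = Q
      · -- `E` is normal
        have hSn : S.Normal := hSQ ▸ hQn
        have hEn : E.Normal := by
          constructor
          intro x hx g
          exact hE.2 x hx g trivial (hSn.conj_mem x (hE.1 hx) g)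
        refine ⟨y, ⟨y, ?_, fun _ _ => rfl⟩, fun _ _ => rfl⟩
        apply normalizer_le_normalizer_Zee
        rw [Subgroup.normalizer_eq_top_iff.2 hEn]
        trivial
      have hSb := sylowIn_map_top π hπ hS
      have hSb0 : S.map π ≠ ⊥ := by
        intro h0
        apply hSQ
        refine le_antisymm ?_ hQS
        intro s hs
        have h1 : π s ∈ S.map π := ⟨s, hs, rfl⟩
        rw [h0, Subgroup.mem_bot] at h1
        have h2 : s ∈ π.ker := h1
        rwa [hker] at h2
      have hQ0' : π.ker ≠ ⊥ := by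
        rw [hker]
        exact hQ0
      obtain ⟨mb, hmb, hmbe⟩ := hquot _ π hπ hQ0' (S.map π) (S.map π) hSb ⟨le_rfl, fun x _ g _ h => h⟩ (π '' A) (π y)
        (by
          rintro _ ⟨a, ha, rfl⟩
          exact ⟨a, hA ha, rfl⟩) (by
          rw [lconj_image]
          rintro _ ⟨a, ha, rfl⟩
          exact ⟨a, hA' ha, rfl⟩)
      obtain ⟨m, rfl⟩ := hπ mb
      have hact : ∀ a ∈ A, π (m * a * m⁻¹) = π (y * a * y⁻¹) := by
        intro a ha
        have := hmbe (π a) ⟨a, ha, rfl⟩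
        simpa using this
      refine ⟨m, ?_, hact⟩
      set Vb : Subgroup (X ⧸ Q) := Zee e (S.map π) with hVb
      have hVb0 : Vb ≠ ⊥ := Zee_ne_bot hpe hSb.2.1 hSb0
      have hVbS : Vb ≤ S.map π := Zee_le e _
      set F : Subgroup X := Vb.comap π with hF
      have hFS : F ≤ S := fun e he => hmemS e (hVbS he)
      have hFne : Subgroup.normalizer (F : Set X) ≠ ⊤ := by
        intro h
        have hEn : F.Normal := Subgroup.normalizer_eq_top_iff.1 h
        have h1 : F ≤ Q := Lib.Core.le_pCore hEn (hS.2.1.to_le hFS)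
        apply hVb0
        rw [eq_bot_iff]
        intro v hv
        obtain ⟨z, rfl⟩ := hπ v
        have h2 : z ∈ F := hv
        have := hQker z (h1 h2)
        rw [this]
        exact Subgroup.one_mem _
      have hSF : S ≤ Subgroup.normalizer (F : Set X) := by
        intro s hs
        apply mem_normalizer_comap
        exact normalizer_le_normalizer_Zee e _ (Subgroup.le_normalizer ⟨s, hs, rfl⟩)
      refine hP0 _ hFne hSF A m (mem_normalizer_comap π hmb) hA ?_
      rintro _ ⟨a, ha, rfl⟩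
      apply hmemS
      show π (m * a * m⁻¹) ∈ S.map π
      rw [hact a ha]
      exact ⟨_, hA' ⟨a, ha, rfl⟩, rfl⟩
    have hT : Subgroup.closure A ≤ S := (Subgroup.closure_le _).2 hA
    have hT' : conjS y (Subgroup.closure A) ≤ S := by
      rw [conjS_le_iff, Subgroup.closure_le]
      intro a ha
      have := hA' ⟨a, ha, rfl⟩
      rw [SetLike.mem_coe, mem_conjS]
      simpa using this
    have key := good_of_sc_top π hG hS hker hP0 hSne hSC (by
      rintro A g k ⟨x, hx, hxa⟩ hk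
      exact ⟨x, hx, fun a ha => (hxa a ha).trans (hk a ha).symm⟩) hlift _ hT y hT'
    exact hG.mono Subgroup.subset_closure key

/-- The two forms of the conclusion. -/
theorem ctl_final {G : Type*} [Group G] [Finite G] (P : Sylow p G) {D : Subgroup G} (hD : D ≤ (P : Subgroup G))
    (h : ∀ e : ℕ, p ∣ e → ZCtl e (P : Subgroup G) D) :
    (∀ A : Set G, A ⊆ (P : Subgroup G) → ControlsStrongFusionOf
      (Subgroup.normalizer ((centerThompsonAOf D) : Set G)) (P : Subgroup G) A) ∧
    (∀ A : Set G, A ⊆ (P : Subgroup G) → ControlsStrongFusionOf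
      (Subgroup.normalizer ((omegaOne p (centerThompsonOf p D)) : Set G)) (P : Subgroup G) A) := by
  constructor
  · intro A hA
    refine ⟨hA, fun g hg => ?_⟩
    rw [← Zee_card_eq]
    by_cases hD0 : D = ⊥
    · refine ⟨g, ?_, fun _ _ => rfl⟩
      have h1 : Zee (Nat.card G) D = ⊥ := by
        rw [eq_bot_iff, ← hD0]
        exact Zee_le _ D
      rw [h1, Subgroup.normalizer_eq_top_iff.2 inferInstance]
      trivial
    · have hDp : IsPGroup p D := P.isPGroup'.to_le hD
      have he : p ∣ Nat.card G := by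
        rcases hDp.card_eq_or_dvd with h1 | h1
        · exact absurd ((Subgroup.card_eq_one).1 h1) hD0
        · exact h1.trans (Subgroup.card_subgroup_dvd_card D)
      obtain ⟨m, hm, hma⟩ := h _ he A g hA hg
      exact ⟨m, hm, fun a ha => (hma a ha).symm⟩
  · intro A hA
    refine ⟨hA, fun g hg => ?_⟩
    rw [← Zee_prime_eq]
    obtain ⟨m, hm, hma⟩ := h _ dvd_rfl A g hA hg
    exact ⟨m, hm, fun a ha => (hma a ha).symm⟩

end QdFree

end Cfsg.Agent.Lib.Techniques
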