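import Cfsg.Agent.Lib.FF.ZJ
import Cfsg.Agent.Lib.Techniques.MaxSylow
import Cfsg.Agent.Lib.Techniques.PNilMain
import Mathlib

/-! Normal `p`-complements from `N(Ω_e Z(J_e(D)))` for strongly closed `D`: the minimal counterexample. -/

set_option autoImplicit false
set_option linter.style.haveILetI false

namespace Cfsg.Agent.Lib.Techniques

open Cfsg Cfsg.Agent.Lib.FrobThm Cfsg.Agent.Lib.FF
open scoped commutatorElement

universe u

section Zee

variable {X : Type*} [Group X] {Y : Type*} [Group Y]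

/-- `N(D)` normalizes `Zee e D`. -/
theorem normalizer_le_normalizer_Zee (e : ℕ) (D : Subgroup X) :
    Subgroup.normalizer (D : Set X) ≤ Subgroup.normalizer ((Zee e D : Subgroup X) : Set X) := by
  intro g hg
  rw [Subgroup.mem_normalizer_iff]
  intro h
  constructor
  · exact fun hh => conj_mem_Zee hg hh
  · intro hh
    have := conj_mem_Zee (Subgroup.inv_mem _ hg) hh
    simpa [mul_assoc] using this

/-- `Zee` under a map injective on `D`. -/
theorem Zee_map_of_injOn (e : ℕ) (D : Subgroup X) (f : X →* Y) (hf : Set.InjOn f (D : Set X)) :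
    (Zee e D).map f = Zee e (D.map f) := by
  have hJ : (JJ e D).map f = JJ e (D.map f) := (JJ_map f hf).symm
  have hJD : JJ e D ≤ D := JJ_le
  ext y
  constructor
  · rintro ⟨z, hz, rfl⟩
    obtain ⟨h1, h2, h3⟩ := mem_Zee.mp hz
    refine mem_Zee.mpr ⟨?_, ?_, ?_⟩
    · rw [← hJ]
      exact ⟨z, h1, rfl⟩
    · intro y hy
      rw [← hJ] at hy
      obtain ⟨w, hw, rfl⟩ := hy
      rw [← map_mul, ← map_mul, h2 w hw]
    · rw [← map_pow, h3, map_one]
  · intro hy
    obtain ⟨h1, h2, h3⟩ := mem_Zee.mp hy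
    rw [← hJ] at h1
    obtain ⟨z, hz, rfl⟩ := h1
    refine ⟨z, mem_Zee.mpr ⟨hz, ?_, ?_⟩, rfl⟩
    · intro w hw
      apply hf (D.mul_mem (hJD hw) (hJD hz)) (D.mul_mem (hJD hz) (hJD hw))
      rw [map_mul, map_mul]
      apply h2
      rw [← hJ]
      exact ⟨w, hw, rfl⟩
    · apply hf (D.pow_mem (hJD hz) e) D.one_mem
      rw [map_pow, h3, map_one]

/-- `Zee e D` is nontrivial for a nontrivial `p`-group `D`, when `p ∣ e`. -/
theorem Zee_ne_bot [Finite X] {p : ℕ} [hp : Fact p.Prime] {e : ℕ} (hpe : p ∣ e) {D : Subgroup X} (hDp : IsPGroup p D)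
    (hD : D ≠ ⊥) : Zee e D ≠ ⊥ := by
  classical
  haveI : Nontrivial D := (Subgroup.nontrivial_iff_ne_bot D).2 hD
  haveI : Finite D := inferInstance
  have hZ := hDp.center_nontrivial
  obtain ⟨z₀, hz₀⟩ := exists_ne (1 : Subgroup.center D)
  have hz₀' : (z₀ : D) ≠ 1 := fun h => hz₀ (Subtype.ext h)
  -- an element of order `p` of the centre
  obtain ⟨k, hk⟩ := hDp (z₀ : D)
  have hord : orderOf (z₀ : D) = p ^ (orderOf (z₀ : D)).factorization p := by
    obtain ⟨m, hm⟩ := (Nat.dvd_prime_pow hp.out).1 (orderOf_dvd_of_pow_eq_one hk)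
    rw [hm.2]
    simp [Nat.Prime.factorization_self hp.out]
  set m : ℕ := (orderOf (z₀ : D)).factorization p with hm
  have hm0 : m ≠ 0 := by
    intro h0
    rw [h0, pow_zero] at hord
    exact hz₀' (orderOf_eq_one_iff.1 hord)
  set c : D := (z₀ : D) ^ p ^ (m - 1) with hc
  have hc1 : c ≠ 1 := by
    intro h
    have h1 := orderOf_dvd_of_pow_eq_one h
    rw [hord] at h1
    have h2 := (Nat.pow_dvd_pow_iff_le_right hp.out.one_lt).1 h1
    omega
  have hcp : c ^ p = 1 := by
    rw [hc, ← pow_mul, ← pow_succ, Nat.sub_add_cancel (Nat.pos_of_ne_zero hm0), ← hord, pow_orderOf_eq_one]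
  have hcc : ∀ y : D, y * c = c * y := by
    intro y
    have h1 : Commute (z₀ : D) y := (Subgroup.mem_center_iff.1 z₀.2 y).symm
    exact ((h1.pow_left _).eq).symm
  intro hbot
  apply hc1
  apply Subtype.ext
  have h1 : ((c : D) : X) ∈ Zee e D := by
    refine mem_Zee_of_forall fun A hA => ?_
    have hEA : EA e (A ⊔ Subgroup.zpowers ((c : D) : X)) := by
      refine EA.sup hA.2.1 ⟨?_, ?_⟩ ?_
      · rintro _ ⟨i, rfl⟩ _ ⟨j, rfl⟩
        exact (zpow_mul_comm _ i j)
      · rintro _ ⟨i, rfl⟩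
        obtain ⟨t, rfl⟩ := hpe
        show (((c : D) : X) ^ i) ^ (p * t) = 1
        rw [← zpow_natCast, ← zpow_mul, mul_comm, zpow_mul, zpow_natCast, pow_mul]
        have : ((c : D) : X) ^ p = 1 := by
          have := congrArg Subtype.val hcp
          simpa using this
        rw [this]
        simp
      · rintro a ha _ ⟨i, rfl⟩
        have h2 := congrArg Subtype.val (hcc ⟨a, hA.1 ha⟩)
        have h3 : Commute a ((c : D) : X) := by
          simpa [Commute, SemiconjBy] using h2
        exact (h3.zpow_right i).eq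
    have hle : A ⊔ Subgroup.zpowers ((c : D) : X) ≤ D :=
      sup_le hA.1 ((Subgroup.zpowers_le).2 c.2)
    have h2 := hA.2.2 _ hle hEA
    have h3 := Subgroup.eq_of_le_of_card_ge (le_sup_left : A ≤ A ⊔ Subgroup.zpowers ((c : D) : X)) h2
    rw [h3]
    exact Subgroup.mem_sup_right (Subgroup.mem_zpowers _)
  rw [hbot] at h1
  simpa using Subgroup.mem_bot.1 h1

end Zee

section Min

/-- Strong closure relative to a subgroup `L`. -/
def SC {X : Type*} [Group X] (D T L : Subgroup X) : Prop :=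
  D ≤ T ∧ ∀ x ∈ D, ∀ g ∈ L, g * x * g⁻¹ ∈ T → g * x * g⁻¹ ∈ D

/-- The induction hypotheses of the minimal counterexample. -/
structure MinD (p e : ℕ) (X : Type u) [Group X] : Prop where
  sub : ∀ L : Subgroup X, L ≠ ⊤ → ∀ T D : Subgroup X, SylowIn p T L → SC D T L →
    PNil p (L ⊓ Subgroup.normalizer ((Zee e D : Subgroup X) : Set X)) → PNil p L
  quot : ∀ (Y : Type u) [Group Y] [Finite Y] (π : X →* Y), Function.Surjective π → π.ker ≠ ⊥ →
    ∀ T D : Subgroup Y, SylowIn p T ⊤ → SC D T ⊤ →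
      PNil p (Subgroup.normalizer ((Zee e D : Subgroup Y) : Set Y)) → PNil p (⊤ : Subgroup Y)

variable {X : Type u} [Group X] [Finite X] {p e : ℕ} [hp : Fact p.Prime]

theorem MinD.pPrimeCore_eq_bot (hm : MinD p e X) {S E : Subgroup X} (hS : SylowIn p S ⊤) (hE : SC E S ⊤)
    (hN : PNil p (Subgroup.normalizer ((Zee e E : Subgroup X) : Set X))) (hnot : ¬ PNil p (⊤ : Subgroup X)) :
    pPrimeCore p X = ⊥ := by
  by_contra hD0
  set D : Subgroup X := pPrimeCore p X with hD
  haveI hDn : D.Normal := Lib.Core.pPrimeCore_normal p X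
  have hDc : (Nat.card D).Coprime p := Lib.Core.pPrimeCore_coprime p X
  let π : X →* X ⧸ D := QuotientGroup.mk' D
  have hπ : Function.Surjective π := QuotientGroup.mk'_surjective D
  have hker : π.ker = D := QuotientGroup.ker_mk' D
  have hkerc : ∀ k ∈ π.ker, (orderOf k).Coprime p := by
    intro k hk
    rw [hker] at hk
    have h1 : orderOf (⟨k, hk⟩ : D) ∣ Nat.card D := orderOf_dvd_natCard _
    rw [Subgroup.orderOf_mk] at h1
    exact Nat.Coprime.coprime_dvd_left h1 hDc
  have hinj : ∀ {R : Subgroup X}, IsPGroup p R → Set.InjOn π (R : Set X) := by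
    intro R hR a ha b hb hab
    have h1 : a⁻¹ * b ∈ D := by
      rw [← hker, MonoidHom.mem_ker, map_mul, map_inv, hab]
      simp
    have h2 : a⁻¹ * b = 1 := eq_one_of_mem_isPGroup_of_mem_coprime hR hDc (R.mul_mem (R.inv_mem ha) hb) h1
    rw [← mul_left_cancel_iff (a := a⁻¹), h2, inv_mul_cancel]
  have hR : SylowIn p (S.map π) ⊤ := sylowIn_map_top π hπ hS
  have hEp : IsPGroup p E := hS.2.1.to_le hE.1
  have hZ : Zee e (E.map π) = (Zee e E).map π := (Zee_map_of_injOn e E π (hinj hEp)).symm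
  have hZp : IsPGroup p (Zee e E) := hEp.to_le (Zee_le e E)
  have hNb : PNil p (Subgroup.normalizer ((Zee e (E.map π) : Subgroup (X ⧸ D)) : Set (X ⧸ D))) := by
    refine PNil.mono (PNil.map hp.out hN π) ?_
    intro y hy
    have hy' : y ∈ Subgroup.normalizer (((Zee e E).map π : Subgroup (X ⧸ D)) : Set (X ⧸ D)) := by
      rw [← hZ]
      exact hy
    obtain ⟨x, hxy, hx⟩ := lift_normalizer_coprime π hπ hker hDc hZp hy'
    exact ⟨x, hx, hxy⟩
  have hSC : SC (E.map π) (S.map π) ⊤ := by
    refine ⟨Subgroup.map_mono hE.1, ?_⟩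
    rintro _ ⟨d, hd, rfl⟩ g₀ - hg₀
    obtain ⟨g, rfl⟩ := hπ g₀
    rw [← map_inv, ← map_mul, ← map_mul] at hg₀ ⊢
    obtain ⟨s, hs, hse⟩ := hg₀
    set y : X := g * d * g⁻¹ with hy
    -- `y` lies in `S D`
    have hyE : y ∈ S ⊔ D := by
      have e1 : y = s * (s⁻¹ * y) := by group
      rw [e1]
      refine Subgroup.mul_mem _ (Subgroup.mem_sup_left hs) (Subgroup.mem_sup_right ?_)
      rw [← hker, MonoidHom.mem_ker, map_mul, map_inv, hse]
      simp
    have hRE : SylowIn p S (S ⊔ D) := hS.of_le le_sup_left le_top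
    have hyp : IsPGroup p (Subgroup.zpowers y) := by
      have h1 : IsPGroup p (conjS g (Subgroup.zpowers d)) := by
        apply isPGroup_conjS
        exact hEp.to_le ((Subgroup.zpowers_le).2 hd)
      have h2 : conjS g (Subgroup.zpowers d) = Subgroup.zpowers y := by
        show (Subgroup.zpowers d).map _ = _
        rw [MonoidHom.map_zpowers]
        rfl
      rwa [h2] at h1
    obtain ⟨c, hcE, hle⟩ := hRE.exists_conj_le ((Subgroup.zpowers_le).2 hyE) hyp
    obtain ⟨s₁, hs₁, o, ho, rfl⟩ := Subgroup.mem_sup_of_normal_right.1 hcE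
    have h1 : o * y * o⁻¹ ∈ S := by
      have h2 : (s₁ * o) * y * (s₁ * o)⁻¹ ∈ S := hle (conj_mem_conjS (Subgroup.mem_zpowers y))
      have e1 : o * y * o⁻¹ = s₁⁻¹ * ((s₁ * o) * y * (s₁ * o)⁻¹) * s₁ := by group
      rw [e1]
      exact S.mul_mem (S.mul_mem (S.inv_mem hs₁) h2) hs₁
    have h2 : o * y * o⁻¹ = (o * g) * d * (o * g)⁻¹ := by
      rw [hy]
      group
    rw [h2] at h1
    have h3 := hE.2 d hd (o * g) trivial h1
    refine ⟨_, h3, ?_⟩
    have ho1 : π o = 1 := by
      rw [← MonoidHom.mem_ker, hker]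
      exact ho
    rw [map_mul, map_mul, map_inv, map_mul, ho1, hy]
    simp
  have h1 := hm.quot (X ⧸ D) π hπ (by rw [hker]; exact hD0) _ _ hR hSC hNb
  apply hnot
  apply PNil.of_map π hkerc
  rwa [Subgroup.map_top_of_surjective _ hπ]

/-- The extremal choice of a normal `p`-subgroup. -/
theorem MinD.extremal (hm : MinD p e X) (hpe : p ∣ e) {S E : Subgroup X} (hS : SylowIn p S ⊤) (hE : SC E S ⊤)
    (hN : PNil p (Subgroup.normalizer ((Zee e E : Subgroup X) : Set X))) (hnot : ¬ PNil p (⊤ : Subgroup X)) :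
    pCore p X ≠ ⊥ ∧ ∀ T : Subgroup X, T ≠ ⊥ → IsPGroup p T → S ≤ Subgroup.normalizer (T : Set X) →
      ¬ PNil p (Subgroup.normalizer (T : Set X)) → Nat.card T ≤ Nat.card (pCore p X) := by
  obtain ⟨P₀, U₀, h0, hp0, hn0, hU0, hmax0⟩ := exists_max_pair hnot
  obtain ⟨g, -, hg⟩ := hS.exists_conj_le le_top hU0.2.1
  set P : Subgroup X := conjS g P₀ with hPdef
  set U : Subgroup X := conjS g U₀ with hUdef
  have hNP : Subgroup.normalizer (P : Set X) = conjS g (Subgroup.normalizer (P₀ : Set X)) := conj_normalizer g P₀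
  have hP0 : P ≠ ⊥ := by
    intro h
    apply h0
    rw [eq_bot_iff]
    intro x hx
    have h1 : g * x * g⁻¹ ∈ P := conj_mem_conjS hx
    rw [h] at h1
    have h2 : g * x * g⁻¹ = 1 := Subgroup.mem_bot.1 h1
    have e : x = g⁻¹ * (g * x * g⁻¹) * g := by group
    rw [e, h2]
    simp
  have hPp : IsPGroup p P := isPGroup_conjS g hp0
  have hPn : ¬ PNil p (Subgroup.normalizer (P : Set X)) := by
    intro h
    apply hn0
    rw [hNP] at h
    have h1 := pnil_conj g⁻¹ h
    have h2 : conjS g⁻¹ (conjS g (Subgroup.normalizer (P₀ : Set X))) = Subgroup.normalizer (P₀ : Set X) := by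
      rw [← conjS_mul, inv_mul_cancel, conjS_one]
    rwa [h2] at h1
  have hU : SylowIn p U (Subgroup.normalizer (P : Set X)) := by
    rw [hNP]
    exact hU0.conj g
  have hmax : ∀ P' U' : Subgroup X, P' ≠ ⊥ → IsPGroup p P' → ¬ PNil p (Subgroup.normalizer (P' : Set X)) →
      SylowIn p U' (Subgroup.normalizer (P' : Set X)) →
      Nat.card U' < Nat.card U ∨ (Nat.card U' = Nat.card U ∧ Nat.card P' ≤ Nat.card P) := by
    intro P' U' h1 h2 h3 h4
    rw [hPdef, hUdef, card_conjS, card_conjS]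
    exact hmax0 P' U' h1 h2 h3 h4
  have hPU : P ≤ U := by
    obtain ⟨h, hh, hle⟩ := hU.exists_conj_le Subgroup.le_normalizer hPp
    rwa [mem_normalizer_iff_conjS.1 hh] at hle
  have hE0 : E ≠ ⊥ := by
    intro h
    apply hnot
    have h1 : Zee e E = ⊥ := by
      rw [eq_bot_iff, ← h]
      exact Zee_le e E
    have h2 : Subgroup.normalizer ((Zee e E : Subgroup X) : Set X) = ⊤ := by
      rw [h1]
      exact Subgroup.normalizer_eq_top_iff.2 inferInstance
    rwa [h2] at hN
  have hEnS : S ≤ Subgroup.normalizer (E : Set X) := by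
    intro s hs
    rw [Subgroup.mem_normalizer_iff]
    intro x
    constructor
    · intro hx
      exact hE.2 x hx s trivial (S.mul_mem (S.mul_mem hs (hE.1 hx)) (S.inv_mem hs))
    · intro hx
      have h1 := hE.2 _ hx s⁻¹ trivial (by
        have e1 : s⁻¹ * (s * x * s⁻¹) * s⁻¹⁻¹ = x := by group
        rw [e1]
        have h2 : s⁻¹ * (s * x * s⁻¹) * s⁻¹⁻¹ ∈ S :=
          S.mul_mem (S.mul_mem (S.inv_mem hs) (hE.1 hx)) (S.inv_mem (S.inv_mem hs))
        rwa [e1] at h2)
      have e1 : s⁻¹ * (s * x * s⁻¹) * s⁻¹⁻¹ = x := by group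
      rwa [e1] at h1
  have hEp : IsPGroup p E := hS.2.1.to_le hE.1
  -- `U ⊓ E` is nontrivial
  have hUE0 : U ⊓ E ≠ ⊥ := by
    -- a central element of `S` in `E`
    have hEs : (E.subgroupOf S) ≠ ⊥ := by
      intro h
      apply hE0
      have h1 := congrArg (Subgroup.map S.subtype) h
      rw [Subgroup.subgroupOf_map_subtype, Subgroup.map_bot, inf_eq_left.2 hE.1] at h1
      exact h1
    haveI hEn : (E.subgroupOf S).Normal := by
      constructor
      intro x hx s
      refine Subgroup.mem_subgroupOf.2 ?_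
      exact (Subgroup.mem_normalizer_iff.1 (hEnS s.2) x).1 hx
    haveI : Group.IsNilpotent S := hS.2.1.isNilpotent
    have hb : (E.subgroupOf S) ⊓ Subgroup.center S ≠ ⊥ := Lib.Core.normal_inf_center_ne_bot _ hEs
    obtain ⟨⟨z, hzm⟩, hz3⟩ := Subgroup.ne_bot_iff_exists_ne_one.1 hb
    have hzS : (z : X) ∈ S := z.2
    have hzE : (z : X) ∈ E := hzm.1
    have hzc : ∀ s ∈ S, s * (z : X) = z * s := by
      intro s hs
      have h1 := Subgroup.mem_center_iff.1 hzm.2 ⟨s, hs⟩
      exact congrArg Subtype.val h1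
    have hzN : (z : X) ∈ Subgroup.normalizer (P : Set X) := by
      apply Subgroup.centralizer_le_normalizer
      rw [Subgroup.mem_centralizer_iff]
      intro a ha
      exact hzc a (hg (hPU ha))
    have hQ := hU.eq_of_le (le_sup_left : U ≤ U ⊔ Subgroup.zpowers (z : X))
      (sup_le hU.1 ((Subgroup.zpowers_le).2 hzN))
      (hS.2.1.to_le (sup_le hg ((Subgroup.zpowers_le).2 hzS)))
    have hzU : (z : X) ∈ U := by
      rw [← hQ]
      exact Subgroup.mem_sup_right (Subgroup.mem_zpowers _)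
    intro hbot
    have h1 : (z : X) ∈ U ⊓ E := ⟨hzU, hzE⟩
    rw [hbot] at h1
    apply hz3
    apply Subtype.ext
    apply Subtype.ext
    exact Subgroup.mem_bot.1 h1
  have hUS : U = S := by
    by_contra hne
    have hlt : U < S := lt_of_le_of_ne hg hne
    set T : Subgroup X := Zee e (U ⊓ E) with hT
    have hT0 : T ≠ ⊥ := Zee_ne_bot hpe (hEp.to_le inf_le_right) hUE0
    have hTp : IsPGroup p T := hEp.to_le ((Zee_le e _).trans inf_le_right)
    have hS1 : U < S ⊓ Subgroup.normalizer (T : Set X) := by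
      have hnE : S ⊓ Subgroup.normalizer (U : Set X) ≤ Subgroup.normalizer (T : Set X) := by
        rintro x ⟨hx1, hx2⟩
        apply normalizer_le_normalizer_Zee
        have hx2' : x ∈ Subgroup.normalizer (U : Set X) := hx2
        rw [Subgroup.mem_normalizer_iff] at hx2' ⊢
        intro y
        constructor
        · rintro ⟨h1, h2⟩
          exact ⟨(hx2' y).1 h1, (Subgroup.mem_normalizer_iff.1 (hEnS hx1) y).1 h2⟩
        · rintro ⟨h1, h2⟩
          exact ⟨(hx2' y).2 h1, (Subgroup.mem_normalizer_iff.1 (hEnS hx1) y).2 h2⟩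
      exact lt_of_lt_of_le (lt_inf_normalizer hS.2.1 hlt) (le_inf inf_le_left hnE)
    obtain ⟨U₁, hU₁le, hU₁⟩ := exists_sylowIn_ge (p := p) (inf_le_right : S ⊓ Subgroup.normalizer (T : Set X) ≤ _)
      (hS.2.1.to_le inf_le_left)
    have hcard : Nat.card U < Nat.card U₁ := card_lt_of_lt' (hS1.trans_le hU₁le)
    have hNT : PNil p (Subgroup.normalizer (T : Set X)) := by
      by_contra hc
      rcases hmax T U₁ hT0 hTp hc hU₁ with h | ⟨h, -⟩ <;> omega
    have hMne : Subgroup.normalizer (P : Set X) ≠ ⊤ := by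
      intro h
      rw [h] at hU
      have h1 := hU.card_eq hS
      have h2 := card_lt_of_lt' hlt
      omega
    have hSC : SC (U ⊓ E) U (Subgroup.normalizer (P : Set X)) := by
      refine ⟨inf_le_left, fun x hx g' _ hg' => ⟨hg', hE.2 x hx.2 g' trivial (hlt.le hg')⟩⟩
    exact hPn (hm.sub _ hMne U (U ⊓ E) hU hSC (hNT.mono inf_le_right))
  rw [hUS] at hU hmax
  have hPtop : Subgroup.normalizer (P : Set X) = ⊤ := by
    by_contra hne
    exact hPn (hm.sub _ hne S E hU ⟨hE.1, fun x hx g' _ hg' => hE.2 x hx g' trivial hg'⟩ (hN.mono inf_le_right))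
  have hPnorm : P.Normal := Subgroup.normalizer_eq_top_iff.1 hPtop
  set Q : Subgroup X := pCore p X with hQ
  haveI hQn : Q.Normal := Lib.Core.pCore_normal p X
  have hQp : IsPGroup p Q := Lib.Core.pCore_isPGroup p X
  have hPQ : P ≤ Q := Lib.Core.le_pCore hPnorm hPp
  have hQ0 : Q ≠ ⊥ := by
    intro h
    rw [h, le_bot_iff] at hPQ
    exact hP0 hPQ
  have hQtop : Subgroup.normalizer (Q : Set X) = ⊤ := Subgroup.normalizer_eq_top_iff.2 hQn
  have hQP : Nat.card Q ≤ Nat.card P := by
    rcases hmax Q S hQ0 hQp (by rw [hQtop]; exact hnot) (by rw [hQtop]; exact hS) with h | ⟨-, h⟩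
    · omega
    · exact h
  refine ⟨hQ0, fun T h1 h2 h3 h4 => ?_⟩
  have hST : SylowIn p S (Subgroup.normalizer (T : Set X)) := hS.of_le h3 le_top
  rcases hmax T S h1 h2 h4 hST with h | ⟨-, h⟩
  · omega
  · exact h.trans (Subgroup.card_le_of_le hPQ)

/-- The quotient by `O_p` is `p`-nilpotent. -/
theorem MinD.quot_pnil (hm : MinD p e X) (hpe : p ∣ e) {S E : Subgroup X} (hS : SylowIn p S ⊤) (hE : SC E S ⊤)
    (hN : PNil p (Subgroup.normalizer ((Zee e E : Subgroup X) : Set X))) (hnot : ¬ PNil p (⊤ : Subgroup X)) :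
    PNil p (⊤ : Subgroup (X ⧸ pCore p X)) := by
  obtain ⟨hQ0, hext⟩ := hm.extremal hpe hS hE hN hnot
  set Q : Subgroup X := pCore p X with hQ
  haveI hQn : Q.Normal := Lib.Core.pCore_normal p X
  have hQp : IsPGroup p Q := Lib.Core.pCore_isPGroup p X
  have hQS : Q ≤ S := pCore_le_of_sylowIn hS
  let π : X →* X ⧸ Q := QuotientGroup.mk' Q
  have hπ : Function.Surjective π := QuotientGroup.mk'_surjective Q
  have hker : π.ker = Q := QuotientGroup.ker_mk' Q
  have hR : SylowIn p (S.map π) ⊤ := sylowIn_map_top π hπ hS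
  have hSne : S ≠ Q := by
    intro h
    apply hnot
    have hSn : S.Normal := h ▸ hQn
    have hEn : E.Normal := by
      constructor
      intro x hx g
      exact hE.2 x hx g trivial (hSn.conj_mem x (hE.1 hx) g)
    have h1 : Subgroup.normalizer ((Zee e E : Subgroup X) : Set X) = ⊤ := by
      rw [eq_top_iff]
      refine le_trans ?_ (normalizer_le_normalizer_Zee e E)
      rw [Subgroup.normalizer_eq_top_iff.2 hEn]
    rwa [h1] at hN
  have hR0 : S.map π ≠ ⊥ := by
    intro h0
    have hSle : S ≤ Q := by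
      rw [← hker]
      exact (Subgroup.map_eq_bot_iff _).1 h0
    exact hSne (le_antisymm hSle hQS)
  set Rb : Subgroup (X ⧸ Q) := Zee e (S.map π) with hRb
  have hRb0 : Rb ≠ ⊥ := Zee_ne_bot hpe hR.2.1 hR0
  have hRbS : Rb ≤ S.map π := Zee_le e _
  set T : Subgroup X := Rb.comap π with hT
  have hQT : Q ≤ T := by
    intro q hq
    show π q ∈ Rb
    have : π q = 1 := by
      rw [← MonoidHom.mem_ker, hker]
      exact hq
    rw [this]
    exact Rb.one_mem
  have hTS : T ≤ S := by
    intro t ht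
    have h1 : π t ∈ S.map π := hRbS ht
    obtain ⟨s, hs, e⟩ := h1
    have h2 : s⁻¹ * t ∈ Q := by
      rw [← hker, MonoidHom.mem_ker, map_mul, map_inv, e]
      simp
    have e2 : t = s * (s⁻¹ * t) := by group
    rw [e2]
    exact S.mul_mem hs (hQS h2)
  have hTQ : Q < T := by
    refine lt_of_le_of_ne hQT fun h => hRb0 ?_
    rw [eq_bot_iff]
    intro y hy
    obtain ⟨x, rfl⟩ := hπ y
    have h1 : x ∈ T := hy
    rw [← h] at h1
    have h2 : π x = 1 := by
      rw [← MonoidHom.mem_ker, hker]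
      exact h1
    rw [h2]
    exact Subgroup.one_mem _
  have hT0 : T ≠ ⊥ := by
    intro h
    rw [h, le_bot_iff] at hQT
    exact hQ0 hQT
  have hSN : S ≤ Subgroup.normalizer (T : Set X) := by
    intro s hs
    apply mem_normalizer_comap
    exact normalizer_le_normalizer_Zee e _ (Subgroup.le_normalizer ⟨s, hs, rfl⟩)
  have hNT : PNil p (Subgroup.normalizer (T : Set X)) := by
    by_contra hc
    have h1 := hext T hT0 (hS.2.1.to_le hTS) hSN hc
    have h2 := card_lt_of_lt' hTQ
    omega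
  refine hm.quot (X ⧸ Q) π hπ (by rw [hker]; exact hQ0) _ (S.map π) hR ⟨le_rfl, fun x _ g _ h => h⟩ ?_
  refine PNil.mono (PNil.map hp.out hNT π) ?_
  intro y hy
  obtain ⟨z, rfl⟩ := hπ y
  exact ⟨z, mem_normalizer_comap π hy, rfl⟩

/-- The Sylow subgroup is maximal in the minimal counterexample. -/
theorem MinD.isCoatom (hm : MinD p e X) {S E : Subgroup X} (hS : SylowIn p S ⊤) (hE : SC E S ⊤)
    (hN : PNil p (Subgroup.normalizer ((Zee e E : Subgroup X) : Set X))) (hnot : ¬ PNil p (⊤ : Subgroup X))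
    (hC : Subgroup.centralizer ((pCore p X : Subgroup X) : Set X) ≤ pCore p X) : IsCoatom S := by
  set Q : Subgroup X := pCore p X with hQ
  haveI hQn : Q.Normal := Lib.Core.pCore_normal p X
  have hQp : IsPGroup p Q := Lib.Core.pCore_isPGroup p X
  have hQS : Q ≤ S := pCore_le_of_sylowIn hS
  constructor
  · intro h
    apply hnot
    apply PNil.of_forall_pprime_trivial
    intro x _ hx
    have hxS : x ∈ S := by rw [h]; trivial
    exact Lib.Transfer.eq_one_of_coprime_of_isPGroup hS.2.1 hxS hx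
  · intro H hSH
    by_contra hH
    have hPN : PNil p H := hm.sub H hH S E (hS.of_le hSH.le le_top)
      ⟨hE.1, fun x hx g _ h => hE.2 x hx g trivial h⟩ (hN.mono inf_le_right)
    have hone : ∀ x ∈ H, (orderOf x).Coprime p → x = 1 := by
      intro x hxH hx
      have h1 : x ∈ Subgroup.centralizer (Q : Set X) :=
        pnil_centralizes hPN (by rw [Subgroup.normalizer_eq_top_iff.2 hQn]; exact le_top) (hQS.trans hSH.le) hQp hxH hx
      exact Lib.Transfer.eq_one_of_coprime_of_isPGroup hQp (hC h1) hx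
    have hHp : IsPGroup p H := isPGroup_of_pprime_trivial hone
    obtain ⟨S', rfl⟩ := hS.of_top
    exact hSH.ne (S'.is_maximal' hHp hSH.le).symm

/-- The minimal counterexample does not exist. -/
theorem MinD.core (hm : MinD p e X) (hp2 : p ≠ 2) (hpe : p ∣ e) (S : Sylow p X) {E : Subgroup X}
    (hE : SC E (S : Subgroup X) ⊤)
    (hN : PNil p (Subgroup.normalizer ((Zee e E : Subgroup X) : Set X))) : PNil p (⊤ : Subgroup X) := by
  by_contra hnot
  have hS := sylowIn_top_of_sylow S
  have hO := hm.pPrimeCore_eq_bot hS hE hN hnot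
  have hq := hm.quot_pnil hpe hS hE hN hnot
  have hC := centralizer_le_of_quot_pnil hS hO hq
  have hco := hm.isCoatom hS hE hN hnot hC
  have hst : IsNormalizerPStable p X := stable_of_classA hp2 (classA_of_coatom hq S hco)
  have hnorm : (Zee e E).Normal := Zee_normal hp2 e _ X rfl S E
    ⟨hE.1, fun x hx g h => hE.2 x hx g trivial h⟩ hst hC
  apply hnot
  have h1 : Subgroup.normalizer ((Zee e E : Subgroup X) : Set X) = ⊤ := Subgroup.normalizer_eq_top_iff.2 hnorm
  rwa [h1] at hN

/-- The theorem, by induction on the order. -/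
theorem pnil_of_Zee (hp2 : p ≠ 2) (hpe : p ∣ e) :
    ∀ (n : ℕ) (X : Type u) [Group X] [Finite X], Nat.card X = n → ∀ (S : Sylow p X) (E : Subgroup X),
      SC E (S : Subgroup X) ⊤ → PNil p (Subgroup.normalizer ((Zee e E : Subgroup X) : Set X)) →
      PNil p (⊤ : Subgroup X) := by
  intro n
  induction n using Nat.strong_induction_on with
  | _ n ih =>
    intro X _ _ hn S E hE hN
    refine MinD.core ⟨?_, ?_⟩ hp2 hpe S hE hN
    · intro L hL T D hT hD hNL
      have hcard : Nat.card L < n := by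
        rw [← hn]
        have h3 := card_lt_of_lt' (lt_top_iff_ne_top.2 hL)
        rwa [Subgroup.card_top] at h3
      have hDL : D ≤ L := hD.1.trans hT.1
      have h1 := ih _ hcard ↥L rfl hT.toSylow (D.subgroupOf L) ?_ ?_
      · exact (pNil_top_subtype_iff L).1 h1
      · refine ⟨?_, ?_⟩
        · intro x hx
          rw [SylowIn.coe_toSylow]
          exact hD.1 hx
        · intro x hx g _ hg
          rw [SylowIn.coe_toSylow] at hg
          exact hD.2 x hx g g.2 hg
      · refine PNil.of_map L.subtype ?_ ?_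
        · intro k hk
          have : k = 1 := by
            rw [MonoidHom.mem_ker] at hk
            exact Subtype.ext hk
          rw [this]
          simp
        · refine hNL.mono ?_
          have hinf : D ⊓ L = D := inf_eq_left.2 hDL
          have hmem : ∀ z : ↥L, z ∈ Zee e (D.subgroupOf L) ↔ (z : X) ∈ Zee e D := by
            intro z
            rw [mem_Zee_subgroupOf, hinf]
          have hZL : Zee e D ≤ L := (Zee_le e D).trans hDL
          rintro _ ⟨x, hx, rfl⟩
          refine ⟨x.2, ?_⟩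
          show (x : X) ∈ Subgroup.normalizer ((Zee e D : Subgroup X) : Set X)
          rw [Subgroup.mem_normalizer_iff]
          intro y
          constructor
          · intro hy
            have h2 : (⟨y, hZL hy⟩ : ↥L) ∈ Zee e (D.subgroupOf L) := (hmem _).2 hy
            have h3 := (Subgroup.mem_normalizer_iff.1 hx _).1 h2
            exact (hmem _).1 h3
          · intro hy
            have hyL : y ∈ L := by
              have h2 := hZL hy
              have e1 : y = (x : X)⁻¹ * ((x : X) * y * (x : X)⁻¹) * x := by group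
              rw [e1]
              exact L.mul_mem (L.mul_mem (L.inv_mem x.2) h2) x.2
            have h2 : x * (⟨y, hyL⟩ : ↥L) * x⁻¹ ∈ Zee e (D.subgroupOf L) := (hmem _).2 hy
            have h3 := (Subgroup.mem_normalizer_iff.1 hx _).2 h2
            exact (hmem _).1 h3
    · intro Y _ _ π hπ hk T D hT hD hNT
      have hcard : Nat.card Y < n := by
        rw [← hn]
        have h1 := Nat.card_le_card_of_surjective π hπ
        refine lt_of_le_of_ne h1 fun h2 => hk ?_
        have h3 : Function.Injective π := (Nat.bijective_iff_surjective_and_card π).2 ⟨hπ, h2.symm⟩ |>.1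
        exact (MonoidHom.ker_eq_bot_iff π).2 h3
      obtain ⟨T', rfl⟩ := hT.of_top
      exact ih _ hcard Y rfl T' D hD hNT

end Min

end Cfsg.Agent.Lib.Techniques
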