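import Mathlib
import Cfsg.Agent.Lib.Techniques.SylowIn
import Cfsg.Agent.Lib.Techniques.MinFailure
import Cfsg.Agent.Lib.FStar.Constrained

/-! Weakly closed elements as a direct factor: the trace of `H` over a Sylow subgroup `S` on a normal
abelian subgroup `A ≥ Z(S)`. -/

set_option autoImplicit false
universe u

namespace Cfsg.Agent.Lib.Techniques

open Subgroup

variable {G : Type*} [Group G] [Finite G] {p : ℕ} [Fact p.Prime]

/-- The trace argument: `S` Sylow in `H`, `A ≤ S` abelian normalized by `H`, `Z(S) ≤ A`. Then `S ∩ C(H)` has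
a complement in `Z(S)`. -/
theorem trace_split {H S A : Subgroup G} (hT : SylowIn p S H) (hAS : A ≤ S)
    (hAc : ∀ a ∈ A, ∀ b ∈ A, a * b = b * a) (hAn : ∀ h ∈ H, ∀ a ∈ A, h * a * h⁻¹ ∈ A)
    (hZ : S ⊓ centralizer (S : Set G) ≤ A) :
    ∃ K : Subgroup G, K ≤ S ⊓ centralizer (S : Set G) ∧
      (∀ x ∈ S ⊓ centralizer (H : Set G), x ∈ K → x = 1) ∧
      ∀ z ∈ S ⊓ centralizer (S : Set G), ∃ w ∈ S ⊓ centralizer (H : Set G), ∃ k ∈ K, w * k = z := by
  classical
  obtain ⟨hSH, hSp, hidx⟩ := hT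
  letI : CommGroup ↥A :=
    { (inferInstance : Group ↥A) with
      mul_comm := fun a b => Subtype.ext (hAc a a.2 b b.2) }
  let S' : Subgroup ↥H := S.subgroupOf H
  haveI : Fintype (↥H ⧸ S') := Fintype.ofFinite _
  let c : ↥H → ↥A → ↥A := fun h a => ⟨(h : G) * a * (h : G)⁻¹, hAn h h.2 a a.2⟩
  have hcmul : ∀ h a b, c h (a * b) = c h a * c h b := by
    intro h a b
    apply Subtype.ext
    show (h : G) * ((a : G) * b) * (h : G)⁻¹ = (h : G) * a * (h : G)⁻¹ * ((h : G) * b * (h : G)⁻¹)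
    group
  let T : ↥A → ↥A := fun a => ∏ q : ↥H ⧸ S', c (Quotient.out q) a
  have hTmul : ∀ a b, T (a * b) = T a * T b := by
    intro a b
    show ∏ q : ↥H ⧸ S', c (Quotient.out q) (a * b) = _
    simp only [hcmul]
    exact Finset.prod_mul_distrib
  let m : ℕ := S.relIndex H
  have hm : Nat.card (↥H ⧸ S') = m := rfl
  have hcard : Fintype.card (↥H ⧸ S') = m := by rw [← Nat.card_eq_fintype_card, hm]
  -- values of `T` on `Z(S)` commute with `H`
  have hTcent : ∀ a : ↥A, (a : G) ∈ S ⊓ centralizer (S : Set G) → ∀ h : ↥H,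
      c h (T a) = T a := by
    intro a ha h
    have hinv : ∀ q : ↥H ⧸ S', c h (c (Quotient.out q) a) = c (Quotient.out (h • q)) a := by
      intro q
      have hq : (Quotient.out (h • q))⁻¹ * (h * Quotient.out q) ∈ S' := by
        have h1 : ((h * Quotient.out q : ↥H) : ↥H ⧸ S') = h • q := by
          have h3 : ((h • Quotient.out q : ↥H) : ↥H ⧸ S') = h • q :=
            MulAction.Quotient.coe_smul_out (X := ↥H) (H := S') (b := h) (q := q)
          simpa [smul_eq_mul] using h3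
        have h2 : ((Quotient.out (h • q) : ↥H) : ↥H ⧸ S') = h • q := QuotientGroup.out_eq' _
        exact QuotientGroup.eq.1 (h2.trans h1.symm)
      set s : ↥H := (Quotient.out (h • q))⁻¹ * (h * Quotient.out q) with hs
      have hsS : (s : G) ∈ S := hq
      have hsa : (s : G) * a = a * s := by
        have := (Subgroup.mem_centralizer_iff.1 ha.2) _ hsS
        exact this
      have heq : h * Quotient.out q = Quotient.out (h • q) * s := by rw [hs]; group
      apply Subtype.ext
      show (h : G) * ((Quotient.out q : ↥H) * (a : G) * ((Quotient.out q : ↥H) : G)⁻¹) * (h : G)⁻¹ =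
        ((Quotient.out (h • q) : ↥H) : G) * a * ((Quotient.out (h • q) : ↥H) : G)⁻¹
      have heq' : (h : G) * ((Quotient.out q : ↥H) : G) = ((Quotient.out (h • q) : ↥H) : G) * (s : G) := by
        exact congrArg Subtype.val heq
      calc (h : G) * ((Quotient.out q : ↥H) * (a : G) * ((Quotient.out q : ↥H) : G)⁻¹) * (h : G)⁻¹
          = ((h : G) * ((Quotient.out q : ↥H) : G)) * (a : G) * ((h : G) * ((Quotient.out q : ↥H) : G))⁻¹ := by group
        _ = ((Quotient.out (h • q) : ↥H) : G) * ((s : G) * a) * (s : G)⁻¹ * ((Quotient.out (h • q) : ↥H) : G)⁻¹ := by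
              rw [heq']; group
        _ = ((Quotient.out (h • q) : ↥H) : G) * a * ((Quotient.out (h • q) : ↥H) : G)⁻¹ := by
              rw [hsa]; group
    have hprod : ∀ (F : Finset (↥H ⧸ S')), c h (∏ q ∈ F, c (Quotient.out q) a) =
        ∏ q ∈ F, c h (c (Quotient.out q) a) := by
      intro F
      induction F using Finset.induction_on with
      | empty =>
        apply Subtype.ext
        show (h : G) * ((1 : ↥A) : G) * (h : G)⁻¹ = ((1 : ↥A) : G)
        simp
      | insert q F hq ih => rw [Finset.prod_insert hq, Finset.prod_insert hq, hcmul, ih]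
    show c h (∏ q : ↥H ⧸ S', c (Quotient.out q) a) = ∏ q : ↥H ⧸ S', c (Quotient.out q) a
    rw [hprod]
    simp only [hinv]
    exact (MulAction.toPerm h : Equiv.Perm (↥H ⧸ S')).prod_comp
      (Finset.univ) (fun q => c (Quotient.out q) a) (by simp)
  -- `T` on central elements is a power
  have hTpow : ∀ a : ↥A, (a : G) ∈ centralizer (H : Set G) → T a = a ^ m := by
    intro a ha
    have : ∀ q : ↥H ⧸ S', c (Quotient.out q) a = a := by
      intro q
      apply Subtype.ext
      show ((Quotient.out q : ↥H) : G) * a * ((Quotient.out q : ↥H) : G)⁻¹ = a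
      have := (Subgroup.mem_centralizer_iff.1 ha) _ (Quotient.out q : ↥H).2
      rw [this]; group
    show ∏ q : ↥H ⧸ S', c (Quotient.out q) a = a ^ m
    simp only [this]
    rw [Finset.prod_const, Finset.card_univ, hcard]
  have hpm : Nat.Coprime p m := (Nat.Prime.coprime_iff_not_dvd (Fact.out)).2 hidx
  let Wp : Subgroup G := S ⊓ centralizer (H : Set G)
  have hWp : IsPGroup p Wp := hSp.to_le inf_le_left
  -- the kernel
  let K : Subgroup G :=
    { carrier := {x | x ∈ S ⊓ centralizer (S : Set G) ∧ ∃ ha : x ∈ A, T ⟨x, ha⟩ = 1}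
      mul_mem' := by
        rintro x y ⟨hx, hxA, hxT⟩ ⟨hy, hyA, hyT⟩
        refine ⟨mul_mem hx hy, mul_mem hxA hyA, ?_⟩
        have : (⟨x * y, mul_mem hxA hyA⟩ : ↥A) = ⟨x, hxA⟩ * ⟨y, hyA⟩ := rfl
        rw [this, hTmul, hxT, hyT, one_mul]
      one_mem' := by
        refine ⟨one_mem _, one_mem _, ?_⟩
        have h1 : T 1 * T 1 = T 1 := by rw [← hTmul, one_mul]
        exact mul_eq_left.1 h1
      inv_mem' := by
        rintro x ⟨hx, hxA, hxT⟩
        refine ⟨inv_mem hx, inv_mem hxA, ?_⟩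
        have h1 : T 1 = 1 := by
          have h1 : T 1 * T 1 = T 1 := by rw [← hTmul, one_mul]
          exact mul_eq_left.1 h1
        have : T ⟨x⁻¹, inv_mem hxA⟩ * T ⟨x, hxA⟩ = 1 := by
          rw [← hTmul]
          have h2 : (⟨x⁻¹, inv_mem hxA⟩ * ⟨x, hxA⟩ : ↥A) = 1 := Subtype.ext (inv_mul_cancel x)
          rw [h2, h1]
        rwa [hxT, mul_one] at this }
  have hcw : ∀ x ∈ S ⊓ centralizer (H : Set G), x ∈ S ⊓ centralizer (S : Set G) := by
    intro x hx
    refine ⟨hx.1, ?_⟩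
    refine Subgroup.mem_centralizer_iff.2 fun s hs => ?_
    exact (Subgroup.mem_centralizer_iff.1 hx.2) s (hSH hs)
  refine ⟨K, fun x hx => hx.1, ?_, ?_⟩
  · rintro x hx ⟨-, hxA, hxT⟩
    rw [hTpow ⟨x, hxA⟩ hx.2] at hxT
    have hxm : x ^ m = 1 := congrArg Subtype.val hxT
    obtain ⟨n, hn⟩ := hSp ⟨x, hx.1⟩
    have hxp : x ^ p ^ n = 1 := by simpa using congrArg Subtype.val hn
    have h1 : orderOf x ∣ p ^ n := orderOf_dvd_of_pow_eq_one hxp
    have h2 : orderOf x ∣ m := orderOf_dvd_of_pow_eq_one hxm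
    exact orderOf_eq_one_iff.1 (Nat.Coprime.eq_one_of_dvd (Nat.Coprime.coprime_dvd_left h1 (hpm.pow_left n)) h2)
  · intro z hz
    have hzA := hZ hz
    set t := T ⟨z, hzA⟩ with ht
    have ht1 : (t : G) ∈ Wp := by
      refine ⟨hAS t.2, ?_⟩
      refine Subgroup.mem_centralizer_iff.2 fun h hh => ?_
      have := hTcent ⟨z, hzA⟩ hz ⟨h, hh⟩
      have h2 : h * (t : G) * h⁻¹ = t := congrArg Subtype.val this
      calc h * (t : G) = h * (t : G) * h⁻¹ * h := by group
        _ = (t : G) * h := by rw [h2]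
    obtain ⟨w, hw⟩ := (hWp.powEquiv hpm).surjective ⟨(t : G), ht1⟩
    have hw' : (w : G) ^ m = t := by
      have := congrArg Subtype.val hw
      simpa [IsPGroup.powEquiv] using this
    have hwA : (w : G) ∈ A := by
      have h1 := hZ (hcw _ w.2)
      exact h1
    have hTw : T ⟨w, hwA⟩ = t := by
      rw [hTpow ⟨w, hwA⟩ w.2.2]
      apply Subtype.ext
      show (w : G) ^ m = t
      exact hw'
    refine ⟨w, w.2, (w : G)⁻¹ * z, ⟨?_, ?_, ?_⟩, by group⟩
    · exact mul_mem (inv_mem (hcw _ w.2)) hz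
    · exact mul_mem (inv_mem hwA) hzA
    · have h3 : T ⟨(w : G)⁻¹ * z, mul_mem (inv_mem hwA) hzA⟩ * T ⟨w, hwA⟩ = T ⟨z, hzA⟩ := by
        rw [← hTmul]
        congr 1
        apply Subtype.ext
        show (w : G)⁻¹ * z * w = z
        have := hAc (w : G) hwA z hzA
        calc (w : G)⁻¹ * z * w = (w : G)⁻¹ * (z * w) := by group
          _ = (w : G)⁻¹ * (w * z) := by rw [this]
          _ = z := by group
      rw [hTw] at h3
      exact mul_eq_right.1 h3

/-- From a complement as in `trace_split` to the weakly closed statement. -/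
theorem split_of_le_core {G : Type u} [Group G] [Finite G] {p : ℕ} [Fact p.Prime] (S : Sylow p G)
    (hZ : ((S : Subgroup G) ⊓ centralizer ((S : Subgroup G) : Set G)) ≤ Cfsg.pPrimePCore p G) :
    ∃ W K : Subgroup G,
      (∀ x : G, x ∈ W ↔ (x ∈ (S : Subgroup G) ∧
        ∀ g : G, g * x * g⁻¹ ∈ (S : Subgroup G) → g * x * g⁻¹ = x)) ∧
      K ≤ ((S : Subgroup G) ⊓ centralizer ((S : Subgroup G) : Set G)) ∧ W ⊓ K = ⊥ ∧
      W ⊔ K = ((S : Subgroup G) ⊓ centralizer ((S : Subgroup G) : Set G)) := by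
  classical
  set D := Cfsg.pPrimeCore p G with hDdef
  haveI hDn : D.Normal := Lib.Core.pPrimeCore_normal p G
  have hDc : (Nat.card D).Coprime p := Lib.Core.pPrimeCore_coprime p G
  let π := QuotientGroup.mk' D
  have hπ : Function.Surjective π := QuotientGroup.mk'_surjective D
  have hker : ∀ {x : G}, π x = 1 ↔ x ∈ D := by
    intro x
    exact QuotientGroup.eq_one_iff x
  have hSp : IsPGroup p (S : Subgroup G) := S.isPGroup'
  have hSD : ∀ {x : G}, x ∈ (S : Subgroup G) → x ∈ D → x = 1 := fun hx hd =>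
    eq_one_of_mem_isPGroup_of_mem_coprime hSp hDc hx hd
  have hST : SylowIn p (S : Subgroup G) ⊤ := sylowIn_top_of_sylow S
  have hSbar : SylowIn p ((S : Subgroup G).map π) ⊤ := sylowIn_map_top π hπ hST
  set Sb := (S : Subgroup G).map π with hSb
  let O := Cfsg.pCore p (G ⧸ D)
  haveI hOn : O.Normal := Lib.Core.pCore_normal p _
  have hOS : O ≤ Sb := pCore_le_of_sylowIn hSbar
  -- lift centrality from the quotient
  have hlift : ∀ {x : G}, x ∈ (S : Subgroup G) → π x ∈ centralizer (Sb : Set (G ⧸ D)) →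
      x ∈ (S : Subgroup G) ⊓ centralizer ((S : Subgroup G) : Set G) := by
    intro x hx hc
    refine ⟨hx, Subgroup.mem_centralizer_iff.2 fun s hs => ?_⟩
    have h1 := (Subgroup.mem_centralizer_iff.1 hc) (π s) (Subgroup.mem_map_of_mem π hs)
    have h2 : π (s * x * (x * s)⁻¹) = 1 := by
      rw [map_mul, map_mul, map_inv, map_mul, h1]; group
    have h3 := hSD (mul_mem (mul_mem hs hx) (inv_mem (mul_mem hx hs))) (hker.1 h2)
    exact mul_inv_eq_one.1 h3
  -- Z(S̄) inside A := Z(O)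
  let A : Subgroup (G ⧸ D) := O ⊓ centralizer (O : Set (G ⧸ D))
  have hZb : Sb ⊓ centralizer (Sb : Set (G ⧸ D)) ≤ A := by
    rintro z ⟨hz, hzc⟩
    obtain ⟨x, hx, rfl⟩ := hz
    have hxZ := hlift hx hzc
    have hxE := hZ hxZ
    refine ⟨hxE, Subgroup.mem_centralizer_iff.2 fun o ho => ?_⟩
    exact (Subgroup.mem_centralizer_iff.1 hzc) o (hOS ho)
  obtain ⟨K, hK1, hK2, hK3⟩ := trace_split (H := ⊤) (S := Sb) (A := A) hSbar
    (fun a ha => hOS ha.1)
    (fun a ha b hb => (Subgroup.mem_centralizer_iff.1 ha.2) b hb.1 |>.symm)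
    (fun h _ a ha => by
      refine ⟨hOn.conj_mem _ ha.1 h, Subgroup.mem_centralizer_iff.2 fun o ho => ?_⟩
      have h1 : h⁻¹ * o * h ∈ O := by
        have := hOn.conj_mem _ ho h⁻¹
        simpa using this
      have h2 := (Subgroup.mem_centralizer_iff.1 ha.2) _ h1
      calc o * (h * a * h⁻¹) = h * ((h⁻¹ * o * h) * a) * h⁻¹ := by group
        _ = h * (a * (h⁻¹ * o * h)) * h⁻¹ := by rw [h2]
        _ = h * a * h⁻¹ * o := by group)
    hZb
  -- the weakly closed elements
  let W : Subgroup G := (S : Subgroup G) ⊓ (centralizer ((⊤ : Subgroup (G ⧸ D)) : Set (G ⧸ D))).comap π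
  let K' : Subgroup G := (S : Subgroup G) ⊓ K.comap π
  have hWmem : ∀ x : G, x ∈ W ↔ (x ∈ (S : Subgroup G) ∧
      ∀ g : G, g * x * g⁻¹ ∈ (S : Subgroup G) → g * x * g⁻¹ = x) := by
    intro x
    constructor
    · rintro ⟨hxS, hxc⟩
      refine ⟨hxS, fun g hg => ?_⟩
      have h1 : π (g * x * g⁻¹) = π x := by
        have := (Subgroup.mem_centralizer_iff.1 hxc) (π g) trivial
        rw [map_mul, map_mul, map_inv, this]; group
      have h2 : π ((g * x * g⁻¹) * x⁻¹) = 1 := by rw [map_mul, h1, map_inv, mul_inv_cancel]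
      have h3 := hSD (mul_mem hg (inv_mem hxS)) (hker.1 h2)
      exact mul_inv_eq_one.1 h3
    · rintro ⟨hxS, hx⟩
      refine ⟨hxS, ?_⟩
      have hxZ : x ∈ (S : Subgroup G) ⊓ centralizer ((S : Subgroup G) : Set G) := by
        refine ⟨hxS, Subgroup.mem_centralizer_iff.2 fun s hs => ?_⟩
        have := hx s (mul_mem (mul_mem hs hxS) (inv_mem hs))
        calc s * x = s * x * s⁻¹ * s := by group
          _ = x * s := by rw [this]
      have hxE : π x ∈ O := hZ hxZ
      refine Subgroup.mem_centralizer_iff.2 fun gb _ => ?_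
      obtain ⟨g, rfl⟩ := hπ gb
      -- `y = g x g⁻¹` lies in `S D`
      set y := g * x * g⁻¹ with hy
      have hyO : π y ∈ O := by
        have := hOn.conj_mem _ hxE (π g)
        simpa [hy] using this
      obtain ⟨s, hs, hsy⟩ := hOS hyO
      have hyS : y ∈ (S : Subgroup G) ⊔ D := by
        have h1 : s⁻¹ * y ∈ D := by
          apply hker.1
          rw [map_mul, map_inv, ← hsy, inv_mul_cancel]
        have : y = s * (s⁻¹ * y) := by group
        rw [this]
        exact mul_mem (Subgroup.mem_sup_left hs) (Subgroup.mem_sup_right h1)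
      have hTD : SylowIn p (S : Subgroup G) ((S : Subgroup G) ⊔ D) :=
        hST.of_le le_sup_left le_top
      have hyz : IsPGroup p (Subgroup.zpowers y) := by
        obtain ⟨k, hk⟩ := hSp ⟨x, hxS⟩
        have h1 : x ^ p ^ k = 1 := by simpa using congrArg Subtype.val hk
        have h2 : y ^ p ^ k = 1 := by
          rw [hy, conj_pow, h1]; group
        rw [IsPGroup.iff_card]
        have h3 : orderOf y ∣ p ^ k := orderOf_dvd_of_pow_eq_one h2
        obtain ⟨j, -, hj⟩ := (Nat.dvd_prime_pow Fact.out).1 h3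
        exact ⟨j, by rw [Nat.card_zpowers, hj]⟩
      have hyz2 : Subgroup.zpowers y ≤ (S : Subgroup G) ⊔ D := by
        rw [Subgroup.zpowers_le]; exact hyS
      obtain ⟨u, hu, huc⟩ := hTD.exists_conj_le hyz2 hyz
      obtain ⟨s', hs', d, hd, rfl⟩ := Subgroup.mem_sup_of_normal_right.1 hu
      have h4 : (s' * d) * y * (s' * d)⁻¹ ∈ (S : Subgroup G) :=
        huc (conj_mem_conjS (Subgroup.mem_zpowers y))
      have h5 : (d * g) * x * (d * g)⁻¹ ∈ (S : Subgroup G) := by
        have h6 : (d * g) * x * (d * g)⁻¹ = s'⁻¹ * ((s' * d) * y * (s' * d)⁻¹) * s' := by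
          rw [hy]; group
        rw [h6]
        exact mul_mem (mul_mem (inv_mem hs') h4) hs'
      have h7 := hx _ h5
      have hd1 : π d = 1 := hker.2 hd
      have h8 := congrArg π h7
      rw [map_mul, map_mul, map_inv, map_mul, hd1, one_mul] at h8
      calc π g * π x = π g * π x * (π g)⁻¹ * π g := by group
        _ = π x * π g := by rw [h8]
  have hW_Z : W ≤ (S : Subgroup G) ⊓ centralizer ((S : Subgroup G) : Set G) := by
    intro x hx
    have h := (hWmem x).1 hx
    refine ⟨h.1, Subgroup.mem_centralizer_iff.2 fun s hs => ?_⟩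
    have := h.2 s (mul_mem (mul_mem hs h.1) (inv_mem hs))
    calc s * x = s * x * s⁻¹ * s := by group
      _ = x * s := by rw [this]
  have hK_Z : K' ≤ (S : Subgroup G) ⊓ centralizer ((S : Subgroup G) : Set G) := by
    rintro x ⟨hxS, hxK⟩
    exact hlift hxS (hK1 hxK).2
  refine ⟨W, K', hWmem, hK_Z, ?_, ?_⟩
  · rw [eq_bot_iff]
    rintro x ⟨⟨hxS, hxc⟩, ⟨-, hxK⟩⟩
    have h1 : π x = 1 := hK2 (π x) ⟨Subgroup.mem_map_of_mem π hxS, hxc⟩ hxK
    exact hSD hxS (hker.1 h1)
  · refine le_antisymm (sup_le hW_Z hK_Z) ?_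
    intro z hz
    have hzb : π z ∈ Sb ⊓ centralizer (Sb : Set (G ⧸ D)) := by
      refine ⟨Subgroup.mem_map_of_mem π hz.1, Subgroup.mem_centralizer_iff.2 ?_⟩
      rintro _ ⟨s, hs, rfl⟩
      have := (Subgroup.mem_centralizer_iff.1 hz.2) s hs
      rw [← map_mul, ← map_mul]
      show π (s * z) = π (z * s)
      rw [this]
    obtain ⟨w, ⟨hwS, hwc⟩, k, hk, hwk⟩ := hK3 _ hzb
    obtain ⟨w', hw', rfl⟩ := hwS
    obtain ⟨k', hk', rfl⟩ := (hK1 hk).1
    have h1 : (w' * k') * z⁻¹ = 1 := by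
      apply hSD (mul_mem (mul_mem hw' hk') (inv_mem hz.1))
      apply hker.1
      rw [map_mul, map_mul, map_inv, hwk, mul_inv_cancel]
    have h2 : w' * k' = z := mul_inv_eq_one.1 h1
    rw [← h2]
    refine mul_mem (Subgroup.mem_sup_left ⟨hw', hwc⟩) (Subgroup.mem_sup_right ⟨hk', hk⟩)

end Cfsg.Agent.Lib.Techniques
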